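import Mathlib
import Cfsg.Agent.Octagon.Pkg
import Cfsg.Agent.H775.PU.Bound_m3
import Cfsg.Prelude.Def_LieTwisted
import Cfsg.Agent.H802.FusBasic
import Cfsg.Agent.H205.TE.P2_m3
import Cfsg.Agent.H7.PU.Shear
import Cfsg.Agent.Mrg.Omega.BTwo.Conj
import Cfsg.Agent.FastGrp
import Cfsg.Agent.Prune
set_option linter.all false

section
prune_inst 0x7ffcfefbaff9addfdfff7e7ff79fcffc3dd4dffff6ffff4bffe4e9ff8fdf070a3de52b8d1de050fd0ef7623610b87853f9ffeeffe66bd87ffffd5ff45ffbee0ff5f7bd8951d788340fbc0ff703f07fce7f3fffffffffffffffffffffffffffbeffbfffffffff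

-- part: H745/TF/Def
section
set_option linter.all false

/-!
# S5262: the Sylow 2-subgroup of `²F₄(q)` with its coordinates

Plan: `outputs/live/tools/plans/S5262.md`. `U` is a whole group, `F` a saturated system over `(⊤ : Subgroup U)`.
-/

set_option autoImplicit false
set_option linter.dupNamespace false

namespace Cfsg.Agent.H745.TF

open Cfsg Cfsg.FusionSystem Cfsg.Agent.Octagon.Pkg Cfsg.Agent.H756.PU

universe u v

/-- the field: `q = 2^(2m+1)` elements, `σ x = x^(2^(m+1))`, so `σ (σ x) = x²` -/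
structure HypK {K : Type u} [Field K] (σ : K →+* K) (m : ℕ) : Prop where
  fin : Finite K
  card : Nat.card K = 2 ^ (2 * m + 1)
  sig : ∀ x : K, σ x = x ^ (2 ^ (m + 1))
  sq : ∀ x : K, σ (σ x) = x ^ 2
  two : (2 : K) = 0

/-- coordinates: `x1 a1 · x2 a2 b2 · x3 a3 · x4 a4 b4 · x5 a5 · x6 a6 b6 · x7 a7 · x8 a8 b8` -/
@[ext] structure Cd (K : Type u) where
  a1 : K
  a2 : K
  b2 : K
  a3 : K
  a4 : K
  b4 : K
  a5 : K
  a6 : K
  b6 : K
  a7 : K
  a8 : K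
  b8 : K

/-- `U` is the unipotent group of `²F₄(q)`, with its root elements -/
structure TF {K : Type u} [Field K] (σ : K →+* K) (U : Type v) [Group U] where
  x1 : K → U
  x3 : K → U
  x5 : K → U
  x7 : K → U
  x2 : K → K → U
  x4 : K → K → U
  x6 : K → K → U
  x8 : K → K → U
  rel : OctRel σ x1 x3 x5 x7 x2 x4 x6 x8
  bij : Function.Bijective fun c : Cd K =>
    x1 c.a1 * x2 c.a2 c.b2 * x3 c.a3 * x4 c.a4 c.b4 * x5 c.a5 * x6 c.a6 c.b6 * x7 c.a7 * x8 c.a8 c.b8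

namespace TF

variable {K : Type u} [Field K] {σ : K →+* K} {U : Type v} [Group U] (T : TF σ U)

/-- the element with coordinates `c` -/
def el (c : Cd K) : U :=
  T.x1 c.a1 * T.x2 c.a2 c.b2 * T.x3 c.a3 * T.x4 c.a4 c.b4 * T.x5 c.a5 * T.x6 c.a6 c.b6 * T.x7 c.a7 * T.x8 c.a8 c.b8

/-! ### the root groups and the subgroups of the plan; membership in coordinates is task TF-CO -/

def X1 : Subgroup U := Subgroup.closure (Set.range T.x1)
def X3 : Subgroup U := Subgroup.closure (Set.range T.x3)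
def X5 : Subgroup U := Subgroup.closure (Set.range T.x5)
def X7 : Subgroup U := Subgroup.closure (Set.range T.x7)
def X2 : Subgroup U := Subgroup.closure {g | ∃ p u, g = T.x2 p u}
def X4 : Subgroup U := Subgroup.closure {g | ∃ p u, g = T.x4 p u}
def X6 : Subgroup U := Subgroup.closure {g | ∃ p u, g = T.x6 p u}
def X8 : Subgroup U := Subgroup.closure {g | ∃ p u, g = T.x8 p u}
def Z2 : Subgroup U := Subgroup.closure {g | ∃ u, g = T.x2 0 u}
def Z4 : Subgroup U := Subgroup.closure {g | ∃ u, g = T.x4 0 u}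
def Z6 : Subgroup U := Subgroup.closure {g | ∃ u, g = T.x6 0 u}
def Z8 : Subgroup U := Subgroup.closure {g | ∃ u, g = T.x8 0 u}

/-- `Q_a`, order `q^10` -/
def QA : Subgroup U := T.X1 ⊔ T.X2 ⊔ T.X3 ⊔ T.X4 ⊔ T.X5 ⊔ T.X6 ⊔ T.X7
/-- `Q_b = C(V)`, order `q^11` -/
def QB : Subgroup U := T.X2 ⊔ T.X3 ⊔ T.X4 ⊔ T.X5 ⊔ T.X6 ⊔ T.X7 ⊔ T.X8
/-- `V = Z₂(U)`, order `q²` -/
def V : Subgroup U := T.Z4 ⊔ T.Z6
/-- `Y = V X5`, order `q³` -/
def Y : Subgroup U := T.Z4 ⊔ T.Z6 ⊔ T.X5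
/-- `E4 = Y X3`, order `q⁴` -/
def E4 : Subgroup U := T.Z4 ⊔ T.Z6 ⊔ T.X5 ⊔ T.X3
/-- `E = Z2 X3 Z4 X5 Z6`, order `q⁵` -/
def E : Subgroup U := T.Z4 ⊔ T.Z6 ⊔ T.X5 ⊔ T.X3 ⊔ T.Z2
/-- `D = E X4 = C(E)`, order `q⁶` -/
def D : Subgroup U := T.Z4 ⊔ T.Z6 ⊔ T.X5 ⊔ T.X3 ⊔ T.Z2 ⊔ T.X4
/-- `A37 = X3 Z4 X5 Z6 X7`, order `q⁵` -/
def A37 : Subgroup U := T.Z4 ⊔ T.Z6 ⊔ T.X5 ⊔ T.X3 ⊔ T.X7
/-- `N3 = C(Y)`, order `q⁹` -/
def N3 : Subgroup U := T.Z2 ⊔ T.X3 ⊔ T.X4 ⊔ T.X5 ⊔ T.X6 ⊔ T.X7 ⊔ T.Z8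

end TF

end Cfsg.Agent.H745.TF
end

-- part: H659/TF/Ump
section
prune_inst 0x20104400612202000000008403003c2292000090000b0001b1600702078f5c208d420e21faa02d1088080e042838006001100190426000002a000000011d00a0802240028248010426008f80a000000000000000000000000000000000041004000000000
set_option linter.all false
open scoped Cfsg.Agent.FastGrp

/-!
# S5262: the universal property of the unipotent group of `²F₄(q)` (helper659)

* `exists_el` : in a group with `OctRel`, the subgroup generated by all root elements is the set of the ordered products;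
* `ump` : a group with coordinates maps to every group with `OctRel`.
-/

set_option autoImplicit false

namespace Cfsg.Agent.H659.TF

open Cfsg.Agent.Octagon.Pkg Cfsg.Agent.H745.TF

universe u v w

section tower

variable {K : Type u} [Field K] {σ : K →+* K} {G : Type v} [Group G] {x1 x3 x5 x7 : K → G} {x2 x4 x6 x8 : K → K → G}

/-- the root elements -/
inductive Gen (x1 x3 x5 x7 : K → G) (x2 x4 x6 x8 : K → K → G) : ℕ → G → Prop
  | g1 (t : K) : Gen x1 x3 x5 x7 x2 x4 x6 x8 1 (x1 t)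
  | g2 (p u : K) : Gen x1 x3 x5 x7 x2 x4 x6 x8 2 (x2 p u)
  | g3 (t : K) : Gen x1 x3 x5 x7 x2 x4 x6 x8 3 (x3 t)
  | g4 (p u : K) : Gen x1 x3 x5 x7 x2 x4 x6 x8 4 (x4 p u)
  | g5 (t : K) : Gen x1 x3 x5 x7 x2 x4 x6 x8 5 (x5 t)
  | g6 (p u : K) : Gen x1 x3 x5 x7 x2 x4 x6 x8 6 (x6 p u)
  | g7 (t : K) : Gen x1 x3 x5 x7 x2 x4 x6 x8 7 (x7 t)
  | g8 (p u : K) : Gen x1 x3 x5 x7 x2 x4 x6 x8 8 (x8 p u)

/-- generated by the root elements of index `≥ j` -/
def MM (x1 x3 x5 x7 : K → G) (x2 x4 x6 x8 : K → K → G) (j : ℕ) : Subgroup G :=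
  Subgroup.closure {g | ∃ k, j ≤ k ∧ Gen x1 x3 x5 x7 x2 x4 x6 x8 k g}

theorem mem_MM {j k : ℕ} {g : G} (h : Gen x1 x3 x5 x7 x2 x4 x6 x8 k g) (hk : j ≤ k) :
    g ∈ MM x1 x3 x5 x7 x2 x4 x6 x8 j := Subgroup.subset_closure ⟨k, hk, h⟩

theorem one_of_idem {a : G} (h : a * a = a) : a = 1 := mul_eq_left.1 h

variable (R : OctRel σ x1 x3 x5 x7 x2 x4 x6 x8)
include R

theorem x1_zero : x1 0 = 1 := one_of_idem (by rw [R.m1, add_zero])
theorem x3_zero : x3 0 = 1 := one_of_idem (by rw [R.m3, add_zero])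
theorem x5_zero : x5 0 = 1 := one_of_idem (by rw [R.m5, add_zero])
theorem x7_zero : x7 0 = 1 := one_of_idem (by rw [R.m7, add_zero])
theorem x2_zero : x2 0 0 = 1 := one_of_idem (by rw [R.m2]; simp)
theorem x4_zero : x4 0 0 = 1 := one_of_idem (by rw [R.m4]; simp)
theorem x6_zero : x6 0 0 = 1 := one_of_idem (by rw [R.m6]; simp)
theorem x8_zero : x8 0 0 = 1 := one_of_idem (by rw [R.m8]; simp)

/-- every index has the identity, products and inverses -/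
theorem gen_one {j : ℕ} (h1 : 1 ≤ j) (h8 : j ≤ 8) : Gen x1 x3 x5 x7 x2 x4 x6 x8 j 1 := by
  interval_cases j
  · rw [← x1_zero R]; exact .g1 0
  · rw [← x2_zero R]; exact .g2 0 0
  · rw [← x3_zero R]; exact .g3 0
  · rw [← x4_zero R]; exact .g4 0 0
  · rw [← x5_zero R]; exact .g5 0
  · rw [← x6_zero R]; exact .g6 0 0
  · rw [← x7_zero R]; exact .g7 0
  · rw [← x8_zero R]; exact .g8 0 0

theorem gen_mul {j : ℕ} {a b : G} (ha : Gen x1 x3 x5 x7 x2 x4 x6 x8 j a) (hb : Gen x1 x3 x5 x7 x2 x4 x6 x8 j b) :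
    Gen x1 x3 x5 x7 x2 x4 x6 x8 j (a * b) := by
  cases ha with
  | g1 t => cases hb with | g1 s => rw [R.m1]; exact .g1 _
  | g2 t u => cases hb with | g2 s v => rw [R.m2]; exact .g2 _ _
  | g3 t => cases hb with | g3 s => rw [R.m3]; exact .g3 _
  | g4 t u => cases hb with | g4 s v => rw [R.m4]; exact .g4 _ _
  | g5 t => cases hb with | g5 s => rw [R.m5]; exact .g5 _
  | g6 t u => cases hb with | g6 s v => rw [R.m6]; exact .g6 _ _
  | g7 t => cases hb with | g7 s => rw [R.m7]; exact .g7 _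
  | g8 t u => cases hb with | g8 s v => rw [R.m8]; exact .g8 _ _

theorem gen_inv {j : ℕ} {a : G} (ha : Gen x1 x3 x5 x7 x2 x4 x6 x8 j a) :
    Gen x1 x3 x5 x7 x2 x4 x6 x8 j a⁻¹ := by
  cases ha with
  | g1 t => rw [inv_eq_of_mul_eq_one_right (b := x1 (-t)) (by rw [R.m1, add_neg_cancel, x1_zero R])]; exact .g1 _
  | g3 t => rw [inv_eq_of_mul_eq_one_right (b := x3 (-t)) (by rw [R.m3, add_neg_cancel, x3_zero R])]; exact .g3 _
  | g5 t => rw [inv_eq_of_mul_eq_one_right (b := x5 (-t)) (by rw [R.m5, add_neg_cancel, x5_zero R])]; exact .g5 _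
  | g7 t => rw [inv_eq_of_mul_eq_one_right (b := x7 (-t)) (by rw [R.m7, add_neg_cancel, x7_zero R])]; exact .g7 _
  | g2 p u =>
    rw [inv_eq_of_mul_eq_one_right (b := x2 (-p) (-u - p * σ (-p))) (by
      rw [R.m2, add_neg_cancel, show u + (-u - p * σ (-p)) + p * σ (-p) = 0 by ring, x2_zero R])]
    exact .g2 _ _
  | g4 p u =>
    rw [inv_eq_of_mul_eq_one_right (b := x4 (-p) (-u - p * σ (-p))) (by
      rw [R.m4, add_neg_cancel, show u + (-u - p * σ (-p)) + p * σ (-p) = 0 by ring, x4_zero R])]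
    exact .g4 _ _
  | g6 p u =>
    rw [inv_eq_of_mul_eq_one_right (b := x6 (-p) (-u - p * σ (-p))) (by
      rw [R.m6, add_neg_cancel, show u + (-u - p * σ (-p)) + p * σ (-p) = 0 by ring, x6_zero R])]
    exact .g6 _ _
  | g8 p u =>
    rw [inv_eq_of_mul_eq_one_right (b := x8 (-p) (-u - p * σ (-p))) (by
      rw [R.m8, add_neg_cancel, show u + (-u - p * σ (-p)) + p * σ (-p) = 0 by ring, x8_zero R])]
    exact .g8 _ _

omit R in
theorem conj_of_rel {M : Subgroup G} {a y c : G} (h : a * y = y * a * c) (hy : y ∈ M) (hc : c ∈ M) : a⁻¹ * y * a ∈ M := by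
  have h1 : a⁻¹ * y * a = y * c⁻¹ := by
    rw [mul_assoc, inv_mul_eq_iff_eq_mul, ← mul_assoc, h]
    group
  rw [h1]
  exact M.mul_mem hy (M.inv_mem hc)

omit R in
theorem conj_of_comm {M : Subgroup G} {a y : G} (h : a * y = y * a) (hy : y ∈ M) : a⁻¹ * y * a ∈ M := by
  have h1 : a⁻¹ * y * a = y := by
    rw [mul_assoc, ← h, inv_mul_cancel_left]
  rwa [h1]

theorem conj_gen {j k : ℕ} {a y : G} (ha : Gen x1 x3 x5 x7 x2 x4 x6 x8 j a) (hy : Gen x1 x3 x5 x7 x2 x4 x6 x8 k y)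
    (h : j < k) : a⁻¹ * y * a ∈ MM x1 x3 x5 x7 x2 x4 x6 x8 (j + 1) := by
  have e1 : ∀ {j : ℕ} (_ : j ≤ 1) (t : K), x1 t ∈ MM x1 x3 x5 x7 x2 x4 x6 x8 j := fun h t => mem_MM (.g1 t) h
  have e2 : ∀ {j : ℕ} (_ : j ≤ 2) (p u : K), x2 p u ∈ MM x1 x3 x5 x7 x2 x4 x6 x8 j := fun h p u => mem_MM (.g2 p u) h
  have e3 : ∀ {j : ℕ} (_ : j ≤ 3) (t : K), x3 t ∈ MM x1 x3 x5 x7 x2 x4 x6 x8 j := fun h t => mem_MM (.g3 t) h
  have e4 : ∀ {j : ℕ} (_ : j ≤ 4) (p u : K), x4 p u ∈ MM x1 x3 x5 x7 x2 x4 x6 x8 j := fun h p u => mem_MM (.g4 p u) h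
  have e5 : ∀ {j : ℕ} (_ : j ≤ 5) (t : K), x5 t ∈ MM x1 x3 x5 x7 x2 x4 x6 x8 j := fun h t => mem_MM (.g5 t) h
  have e6 : ∀ {j : ℕ} (_ : j ≤ 6) (p u : K), x6 p u ∈ MM x1 x3 x5 x7 x2 x4 x6 x8 j := fun h p u => mem_MM (.g6 p u) h
  have e7 : ∀ {j : ℕ} (_ : j ≤ 7) (t : K), x7 t ∈ MM x1 x3 x5 x7 x2 x4 x6 x8 j := fun h t => mem_MM (.g7 t) h
  have e8 : ∀ {j : ℕ} (_ : j ≤ 8) (p u : K), x8 p u ∈ MM x1 x3 x5 x7 x2 x4 x6 x8 j := fun h p u => mem_MM (.g8 p u) h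
  have hy' : y ∈ MM x1 x3 x5 x7 x2 x4 x6 x8 (j + 1) := mem_MM hy h
  cases ha with
  | g1 t =>
    cases hy with
    | g1 s => omega
    | g2 q v => exact conj_of_comm (R.r12 _ _ _) hy'
    | g3 s => exact conj_of_comm (R.r13 _ _) hy'
    | g4 q v => exact conj_of_rel (R.r14 _ _ _) hy' (e2 (by norm_num) _ _)
    | g5 s => exact conj_of_comm (R.r15 _ _) hy'
    | g6 q v =>
      have h1 := R.r16 t q v
      rw [mul_assoc (x6 q v * x1 t * _), mul_assoc (x6 q v * x1 t)] at h1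
      exact conj_of_rel h1 hy' (Subgroup.mul_mem _ (e2 (by norm_num) _ _)
        (Subgroup.mul_mem _ (e3 (by norm_num) _) (e4 (by norm_num) _ _)))
    | g7 s =>
      have h1 := R.r17 t s
      rw [mul_assoc (x7 s * x1 t)] at h1
      exact conj_of_rel h1 hy' (Subgroup.mul_mem _ (e3 (by norm_num) _) (e5 (by norm_num) _))
    | g8 q v =>
      have h1 := R.r18 t q v
      simp only [mul_assoc] at h1
      rw [← mul_assoc (x8 q v)] at h1
      refine conj_of_rel h1 hy' ?_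
      exact Subgroup.mul_mem _ (e2 (by norm_num) _ _) (Subgroup.mul_mem _ (e3 (by norm_num) _)
        (Subgroup.mul_mem _ (e4 (by norm_num) _ _) (Subgroup.mul_mem _ (e5 (by norm_num) _)
        (Subgroup.mul_mem _ (e6 (by norm_num) _ _) (e7 (by norm_num) _)))))
  | g2 p u =>
    cases hy with
    | g1 s => omega
    | g2 q v => omega
    | g3 s => exact conj_of_comm (R.r23 _ _ _) hy'
    | g4 q v => exact conj_of_rel (R.r24 _ _ _ _) hy' (e3 (by norm_num) _)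
    | g5 s => exact conj_of_rel (R.r25 _ _ _) hy' (e4 (by norm_num) _ _)
    | g6 q v => exact conj_of_comm (R.r26 _ _ _ _) hy'
    | g7 s =>
      have h1 := R.r27 p u s
      simp only [mul_assoc] at h1
      rw [← mul_assoc (x7 s)] at h1
      exact conj_of_rel h1 hy' (Subgroup.mul_mem _ (e4 (by norm_num) _ _)
        (Subgroup.mul_mem _ (e5 (by norm_num) _) (e6 (by norm_num) _ _)))
    | g8 q v =>
      have h1 := R.r28 p u q v
      simp only [mul_assoc] at h1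
      rw [← mul_assoc (x8 q v)] at h1
      refine conj_of_rel h1 hy' ?_
      exact Subgroup.mul_mem _ (e3 (by norm_num) _)
        (Subgroup.mul_mem _ (e4 (by norm_num) _ _) (Subgroup.mul_mem _ (e5 (by norm_num) _)
        (Subgroup.mul_mem _ (e6 (by norm_num) _ _) (e7 (by norm_num) _))))
  | g3 t =>
    cases hy with
    | g1 s => omega
    | g2 q v => omega
    | g3 s => omega
    | g4 q v => exact conj_of_comm (R.r34 _ _ _) hy'
    | g5 s => exact conj_of_comm (R.r35 _ _) hy'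
    | g6 q v => exact conj_of_rel (R.r36 _ _ _) hy' (e4 (by norm_num) _ _)
    | g7 s => exact conj_of_comm (R.r37 _ _) hy'
    | g8 q v =>
      have h1 := R.r38 t q v
      simp only [mul_assoc] at h1
      rw [← mul_assoc (x8 q v)] at h1
      exact conj_of_rel h1 hy' (Subgroup.mul_mem _ (e4 (by norm_num) _ _)
        (Subgroup.mul_mem _ (e5 (by norm_num) _) (e6 (by norm_num) _ _)))
  | g4 p u =>
    cases hy with
    | g1 s => omega
    | g2 q v => omega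
    | g3 s => omega
    | g4 q v => omega
    | g5 s => exact conj_of_comm (R.r45 _ _ _) hy'
    | g6 q v => exact conj_of_rel (R.r46 _ _ _ _) hy' (e5 (by norm_num) _)
    | g7 s => exact conj_of_rel (R.r47 _ _ _) hy' (e6 (by norm_num) _ _)
    | g8 q v => exact conj_of_comm (R.r48 _ _ _ _) hy'
  | g5 t =>
    cases hy with
    | g1 s => omega
    | g2 q v => omega
    | g3 s => omega
    | g4 q v => omega
    | g5 s => omega
    | g6 q v => exact conj_of_comm (R.r56 _ _ _) hy'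
    | g7 s => exact conj_of_comm (R.r57 _ _) hy'
    | g8 q v => exact conj_of_rel (R.r58 _ _ _) hy' (e6 (by norm_num) _ _)
  | g6 p u =>
    cases hy with
    | g1 s => omega
    | g2 q v => omega
    | g3 s => omega
    | g4 q v => omega
    | g5 s => omega
    | g6 q v => omega
    | g7 s => exact conj_of_comm (R.r67 _ _ _) hy'
    | g8 q v => exact conj_of_rel (R.r68 _ _ _ _) hy' (e7 (by norm_num) _)
  | g7 t =>
    cases hy with
    | g1 s => omega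
    | g2 q v => omega
    | g3 s => omega
    | g4 q v => omega
    | g5 s => omega
    | g6 q v => omega
    | g7 s => omega
    | g8 q v => exact conj_of_comm (R.r78 _ _ _) hy'
  | g8 p u =>
    cases hy <;> omega

theorem conj_MM {j : ℕ} {a n : G} (ha : Gen x1 x3 x5 x7 x2 x4 x6 x8 j a)
    (hn : n ∈ MM x1 x3 x5 x7 x2 x4 x6 x8 (j + 1)) : a⁻¹ * n * a ∈ MM x1 x3 x5 x7 x2 x4 x6 x8 (j + 1) := by
  refine Subgroup.closure_induction (p := fun n _ => a⁻¹ * n * a ∈ MM x1 x3 x5 x7 x2 x4 x6 x8 (j + 1)) ?_ ?_ ?_ ?_ hn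
  · rintro y ⟨k, hk, hy⟩
    exact conj_gen R ha hy hk
  · rw [mul_one, inv_mul_cancel]
    exact Subgroup.one_mem _
  · intro x y _ _ hx hy
    have : a⁻¹ * (x * y) * a = (a⁻¹ * x * a) * (a⁻¹ * y * a) := by group
    rw [this]
    exact Subgroup.mul_mem _ hx hy
  · intro x _ hx
    have : a⁻¹ * x⁻¹ * a = (a⁻¹ * x * a)⁻¹ := by group
    rw [this]
    exact Subgroup.inv_mem _ hx

/-- one step of the decomposition -/
theorem exists_step {j : ℕ} (h1 : 1 ≤ j) (h8 : j ≤ 8) {g : G} (hg : g ∈ MM x1 x3 x5 x7 x2 x4 x6 x8 j) :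
    ∃ a n, Gen x1 x3 x5 x7 x2 x4 x6 x8 j a ∧ n ∈ MM x1 x3 x5 x7 x2 x4 x6 x8 (j + 1) ∧ g = a * n := by
  refine Subgroup.closure_induction
    (p := fun g _ => ∃ a n, Gen x1 x3 x5 x7 x2 x4 x6 x8 j a ∧ n ∈ MM x1 x3 x5 x7 x2 x4 x6 x8 (j + 1) ∧ g = a * n)
    ?_ ?_ ?_ ?_ hg
  · rintro y ⟨k, hk, hy⟩
    rcases Nat.eq_or_lt_of_le hk with rfl | hk
    · exact ⟨y, 1, hy, Subgroup.one_mem _, (mul_one y).symm⟩
    · exact ⟨1, y, gen_one R h1 h8, mem_MM hy hk, (one_mul y).symm⟩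
  · exact ⟨1, 1, gen_one R h1 h8, Subgroup.one_mem _, (mul_one 1).symm⟩
  · rintro _ _ _ _ ⟨a, n, ha, hn, rfl⟩ ⟨b, m, hb, hm, rfl⟩
    refine ⟨a * b, b⁻¹ * n * b * m, gen_mul R ha hb, Subgroup.mul_mem _ (conj_MM R hb hn) hm, ?_⟩
    group
  · rintro _ _ ⟨a, n, ha, hn, rfl⟩
    have h2 := conj_MM R (gen_inv R ha) (Subgroup.inv_mem _ hn)
    refine ⟨a⁻¹, a⁻¹⁻¹ * n⁻¹ * a⁻¹, gen_inv R ha, h2, ?_⟩
    group

/-- the elements of the subgroup generated by all root elements -/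
theorem exists_el {g : G} (hg : g ∈ MM x1 x3 x5 x7 x2 x4 x6 x8 1) :
    ∃ c : Cd K, g = x1 c.a1 * x2 c.a2 c.b2 * x3 c.a3 * x4 c.a4 c.b4 * x5 c.a5 * x6 c.a6 c.b6 * x7 c.a7 * x8 c.a8 c.b8 := by
  obtain ⟨b1, g1, h1, hg1, e1⟩ := exists_step R (by norm_num) (by norm_num) hg
  obtain ⟨b2, g2, h2, hg2, e2⟩ := exists_step R (by norm_num) (by norm_num) hg1
  obtain ⟨b3, g3, h3, hg3, e3⟩ := exists_step R (by norm_num) (by norm_num) hg2
  obtain ⟨b4, g4, h4, hg4, e4⟩ := exists_step R (by norm_num) (by norm_num) hg3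
  obtain ⟨b5, g5, h5, hg5, e5⟩ := exists_step R (by norm_num) (by norm_num) hg4
  obtain ⟨b6, g6, h6, hg6, e6⟩ := exists_step R (by norm_num) (by norm_num) hg5
  obtain ⟨b7, g7, h7, hg7, e7⟩ := exists_step R (by norm_num) (by norm_num) hg6
  obtain ⟨b8, g8, h8, hg8, e8⟩ := exists_step R (by norm_num) (by norm_num) hg7
  have h9 : g8 = 1 := by
    refine Subgroup.closure_induction (p := fun g _ => g = 1) ?_ rfl ?_ ?_ hg8
    · rintro y ⟨k, hk, hy⟩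
      cases hy <;> omega
    · rintro x y _ _ rfl rfl
      exact mul_one 1
    · rintro x _ rfl
      exact inv_one
  subst h9 e8 e7 e6 e5 e4 e3 e2 e1
  cases h1 with | g1 a1 => ?_
  cases h2 with | g2 a2 b2 => ?_
  cases h3 with | g3 a3 => ?_
  cases h4 with | g4 a4 b4 => ?_
  cases h5 with | g5 a5 => ?_
  cases h6 with | g6 a6 b6 => ?_
  cases h7 with | g7 a7 => ?_
  cases h8 with | g8 a8 b8 => ?_
  exact ⟨⟨a1, a2, b2, a3, a4, b4, a5, a6, b6, a7, a8, b8⟩, by simp only [mul_assoc, mul_one]⟩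

end tower

section ump

variable {K : Type u} [Field K] {σ : K →+* K} {U : Type v} [Group U] {H : Type w} [Group H]

theorem octRel_prod {x1 x3 x5 x7 : K → U} {x2 x4 x6 x8 : K → K → U} (R : OctRel σ x1 x3 x5 x7 x2 x4 x6 x8)
    {y1 y3 y5 y7 : K → H} {y2 y4 y6 y8 : K → K → H} (R' : OctRel σ y1 y3 y5 y7 y2 y4 y6 y8) :
    OctRel σ (fun t => (x1 t, y1 t)) (fun t => (x3 t, y3 t)) (fun t => (x5 t, y5 t)) (fun t => (x7 t, y7 t))
      (fun p u => (x2 p u, y2 p u)) (fun p u => (x4 p u, y4 p u)) (fun p u => (x6 p u, y6 p u))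
      (fun p u => (x8 p u, y8 p u)) where
  m1 t s := Prod.ext (R.m1 t s) (R'.m1 t s)
  m3 t s := Prod.ext (R.m3 t s) (R'.m3 t s)
  m5 t s := Prod.ext (R.m5 t s) (R'.m5 t s)
  m7 t s := Prod.ext (R.m7 t s) (R'.m7 t s)
  m2 p u q v := Prod.ext (R.m2 p u q v) (R'.m2 p u q v)
  m4 p u q v := Prod.ext (R.m4 p u q v) (R'.m4 p u q v)
  m6 p u q v := Prod.ext (R.m6 p u q v) (R'.m6 p u q v)
  m8 p u q v := Prod.ext (R.m8 p u q v) (R'.m8 p u q v)
  r12 t q v := Prod.ext (R.r12 t q v) (R'.r12 t q v)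
  r13 t s := Prod.ext (R.r13 t s) (R'.r13 t s)
  r14 t q v := Prod.ext (R.r14 t q v) (R'.r14 t q v)
  r15 t s := Prod.ext (R.r15 t s) (R'.r15 t s)
  r16 t q v := Prod.ext (R.r16 t q v) (R'.r16 t q v)
  r17 t s := Prod.ext (R.r17 t s) (R'.r17 t s)
  r18 t q v := Prod.ext (R.r18 t q v) (R'.r18 t q v)
  r23 p u s := Prod.ext (R.r23 p u s) (R'.r23 p u s)
  r24 p u q v := Prod.ext (R.r24 p u q v) (R'.r24 p u q v)
  r25 p u s := Prod.ext (R.r25 p u s) (R'.r25 p u s)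
  r26 p u q v := Prod.ext (R.r26 p u q v) (R'.r26 p u q v)
  r27 p u s := Prod.ext (R.r27 p u s) (R'.r27 p u s)
  r28 p u q v := Prod.ext (R.r28 p u q v) (R'.r28 p u q v)
  r34 t q v := Prod.ext (R.r34 t q v) (R'.r34 t q v)
  r35 t s := Prod.ext (R.r35 t s) (R'.r35 t s)
  r36 t q v := Prod.ext (R.r36 t q v) (R'.r36 t q v)
  r37 t s := Prod.ext (R.r37 t s) (R'.r37 t s)
  r38 t q v := Prod.ext (R.r38 t q v) (R'.r38 t q v)
  r45 p u s := Prod.ext (R.r45 p u s) (R'.r45 p u s)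
  r46 p u q v := Prod.ext (R.r46 p u q v) (R'.r46 p u q v)
  r47 p u s := Prod.ext (R.r47 p u s) (R'.r47 p u s)
  r48 p u q v := Prod.ext (R.r48 p u q v) (R'.r48 p u q v)
  r56 t q v := Prod.ext (R.r56 t q v) (R'.r56 t q v)
  r57 t s := Prod.ext (R.r57 t s) (R'.r57 t s)
  r58 t q v := Prod.ext (R.r58 t q v) (R'.r58 t q v)
  r67 p u s := Prod.ext (R.r67 p u s) (R'.r67 p u s)
  r68 p u q v := Prod.ext (R.r68 p u q v) (R'.r68 p u q v)
  r78 t q v := Prod.ext (R.r78 t q v) (R'.r78 t q v)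

/-- **The universal property.** -/
theorem ump (T : TF σ U) {y1 y3 y5 y7 : K → H} {y2 y4 y6 y8 : K → K → H} (R' : OctRel σ y1 y3 y5 y7 y2 y4 y6 y8) :
    ∃ φ : U →* H, (∀ t, φ (T.x1 t) = y1 t) ∧ (∀ p u, φ (T.x2 p u) = y2 p u) ∧ (∀ t, φ (T.x3 t) = y3 t) ∧
      (∀ p u, φ (T.x4 p u) = y4 p u) ∧ (∀ t, φ (T.x5 t) = y5 t) ∧ (∀ p u, φ (T.x6 p u) = y6 p u) ∧
      (∀ t, φ (T.x7 t) = y7 t) ∧ (∀ p u, φ (T.x8 p u) = y8 p u) := by
  have R := octRel_prod T.rel R'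
  set S := MM (fun t => (T.x1 t, y1 t)) (fun t => (T.x3 t, y3 t)) (fun t => (T.x5 t, y5 t)) (fun t => (T.x7 t, y7 t))
      (fun p u => (T.x2 p u, y2 p u)) (fun p u => (T.x4 p u, y4 p u)) (fun p u => (T.x6 p u, y6 p u))
      (fun p u => (T.x8 p u, y8 p u)) 1 with hS
  have hex : ∀ g ∈ S, ∃ c : Cd K, g.1 = T.el c ∧
      g.2 = y1 c.a1 * y2 c.a2 c.b2 * y3 c.a3 * y4 c.a4 c.b4 * y5 c.a5 * y6 c.a6 c.b6 * y7 c.a7 * y8 c.a8 c.b8 := by
    intro g hg
    obtain ⟨c, hc⟩ := exists_el R hg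
    exact ⟨c, congrArg Prod.fst hc, congrArg Prod.snd hc⟩
  have hsurj : ∀ u : U, ∃ h : H, (u, h) ∈ S := by
    intro u
    obtain ⟨c, rfl⟩ := T.bij.2 u
    refine ⟨y1 c.a1 * y2 c.a2 c.b2 * y3 c.a3 * y4 c.a4 c.b4 * y5 c.a5 * y6 c.a6 c.b6 * y7 c.a7 * y8 c.a8 c.b8, ?_⟩
    exact Subgroup.mul_mem _ (Subgroup.mul_mem _ (Subgroup.mul_mem _ (Subgroup.mul_mem _ (Subgroup.mul_mem _
      (Subgroup.mul_mem _ (Subgroup.mul_mem _ (mem_MM (.g1 c.a1) (by norm_num)) (mem_MM (.g2 c.a2 c.b2) (by norm_num)))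
      (mem_MM (.g3 c.a3) (by norm_num))) (mem_MM (.g4 c.a4 c.b4) (by norm_num))) (mem_MM (.g5 c.a5) (by norm_num)))
      (mem_MM (.g6 c.a6 c.b6) (by norm_num))) (mem_MM (.g7 c.a7) (by norm_num))) (mem_MM (.g8 c.a8 c.b8) (by norm_num))
  have huniq : ∀ {u : U} {h h' : H}, (u, h) ∈ S → (u, h') ∈ S → h = h' := by
    intro u h h' h1 h2
    obtain ⟨c, h3, h4⟩ := hex _ h1
    obtain ⟨c', h5, h6⟩ := hex _ h2
    have h7 : c = c' := T.bij.1 (h3.symm.trans h5)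
    subst h7
    exact h4.trans h6.symm
  choose f hf using hsurj
  refine ⟨{ toFun := f
            map_one' := huniq (hf 1) S.one_mem
            map_mul' := fun a b => huniq (hf _) (S.mul_mem (hf a) (hf b)) }, ?_, ?_, ?_, ?_, ?_, ?_, ?_, ?_⟩
  · exact fun t => huniq (hf _) (mem_MM (.g1 t) (by norm_num))
  · exact fun p u => huniq (hf _) (mem_MM (.g2 p u) (by norm_num))
  · exact fun t => huniq (hf _) (mem_MM (.g3 t) (by norm_num))
  · exact fun p u => huniq (hf _) (mem_MM (.g4 p u) (by norm_num))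
  · exact fun t => huniq (hf _) (mem_MM (.g5 t) (by norm_num))
  · exact fun p u => huniq (hf _) (mem_MM (.g6 p u) (by norm_num))
  · exact fun t => huniq (hf _) (mem_MM (.g7 t) (by norm_num))
  · exact fun p u => huniq (hf _) (mem_MM (.g8 p u) (by norm_num))

end ump

end Cfsg.Agent.H659.TF
end

-- part: H181/TF/Coll
section
prune_inst 0x30104500652202000018008403003c22b200009000080001b06007020f8f5c00a4470821fab02d1088088ed46838006001100190426800002a000800011d00a080204200827cad0436008f80a000000000000000000000000000000000041004000000000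
set_option linter.all false
open scoped Cfsg.Agent.FastGrp

-- part: H181/TF/MulDef
section
/-!
# S5262: the product in coordinates, definitions (helper181)

`T.el c * T.el d = T.el (mul σ c d)` and `(T.el c)⁻¹ = T.el (minv σ c)` (characteristic 2, `σ (σ x) = x²`); computed by
collection from `OctRel`, proved in `H181/TF/Mul.lean`.
-/

set_option autoImplicit false

namespace Cfsg.Agent.H181.TF

open Cfsg.Agent.H745.TF

universe u

variable {K : Type u} [Field K]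

/-- the product in coordinates -/
def mul (σ : K →+* K) (c d : Cd K) : Cd K where
  a1 := c.a1 + d.a1
  a2 := c.a2 + d.a2 + c.a8 * d.a1
  b2 := c.b2 + d.b2 + c.a2 * σ d.a2 + c.a4 * d.a1 + c.a6 * σ d.a1 + c.a2 * σ c.a8 * σ d.a1 + c.a8 * d.a1 * σ d.a2 + c.b8 *
    d.a1 * σ d.a1
  a3 := c.a3 + d.a3 + c.a4 * d.a2 + σ c.a6 * d.a1 + c.a7 * σ d.a1 + c.a8 * d.b2 + c.a4 * c.a8 * d.a1 + c.a8 * d.a2 * σ d.a2
    + σ c.b8 * d.a1 * σ d.a1 + c.b8 * σ d.a1 * d.a2 + c.a8 * c.b8 * d.a1 * σ d.a1 + c.a8 ^ (2:ℕ) * σ c.a8 * d.a1 * σ d.a1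
  a4 := c.a4 + d.a4 + c.a8 * σ d.a2 + c.b8 * σ d.a1
  b4 := c.b4 + d.b4 + c.a4 * σ d.a4 + c.a5 * d.a2 + c.a6 * d.a3 + c.a7 * d.b2 + c.a8 * σ d.a3 + c.b6 * d.a1 + c.b8 * σ d.b2
    + c.a5 * c.a8 * d.a1 + c.a6 * c.a7 * σ d.a1 + c.a6 * c.a8 * d.b2 + σ c.a7 * d.a1 * d.a2 + c.a7 * d.a2 * σ d.a2 + σ
    c.a8 * d.a2 * d.a3 + c.a8 * σ d.a2 * σ d.a4 + σ c.b8 * d.a1 * d.b2 + c.b8 * σ d.a1 * σ d.a4 + c.b8 * d.a1 * d.a3 +
    c.b8 * d.a2 * d.b2 + c.a4 * σ c.a8 * d.a2 ^ (2:ℕ) + c.a4 * σ c.b8 * d.a1 ^ (2:ℕ) + c.a6 * c.a8 * d.a2 * σ d.a2 + c.a6 * σ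
    c.b8 * d.a1 * σ d.a1 + c.a6 * c.b8 * σ d.a1 * d.a2 + σ c.a7 * c.a8 * d.a1 ^ (2:ℕ) + c.a7 * σ c.a8 * σ d.a1 * d.a2 + c.a7
    * c.b8 * d.a1 * σ d.a1 + c.a8 * σ c.a8 * d.a1 * d.a3 + c.a8 * σ c.a8 * d.a2 * d.b2 + σ c.b8 * d.a1 * d.a2 * σ d.a2 +
    c.b8 * d.a2 ^ (2:ℕ) * σ d.a2 + c.a6 * c.a8 * c.b8 * d.a1 * σ d.a1 + c.a7 * c.a8 * σ c.a8 * d.a1 * σ d.a1 + σ c.a8 * σ
    c.b8 * d.a1 * σ d.a1 * d.a2 + σ c.a8 * c.b8 * σ d.a1 * d.a2 ^ (2:ℕ) + c.a8 * σ c.a8 * d.a2 ^ (2:ℕ) * σ d.a2 + c.b8 * σ c.b8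
    * d.a1 ^ (2:ℕ) * σ d.a1 + c.b8 ^ (2:ℕ) * d.a1 * σ d.a1 * d.a2 + c.a6 * c.a8 ^ (2:ℕ) * σ c.a8 * d.a1 * σ d.a1 + c.a8 * c.b8 ^ (2:ℕ) *
    d.a1 ^ (2:ℕ) * σ d.a1 + c.a8 * σ c.a8 * σ c.b8 * d.a1 ^ (2:ℕ) * σ d.a1 + c.a8 ^ (2:ℕ) * (σ c.a8) ^ (2:ℕ) * d.a1 * σ d.a1 * d.a2 +
    c.a8 ^ (3:ℕ) * (σ c.a8) ^ (2:ℕ) * d.a1 ^ (2:ℕ) * σ d.a1
  a5 := c.a5 + d.a5 + c.a6 * d.a4 + σ c.a7 * d.a1 + c.a7 * σ d.a2 + σ c.a8 * d.a3 + c.b8 * d.b2 + c.a6 * c.a8 * σ d.a2 +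
    c.a6 * c.b8 * σ d.a1 + c.a7 * σ c.a8 * σ d.a1 + σ c.a8 * d.a2 * d.a4 + c.a8 * σ c.a8 * d.b2 + σ c.b8 * d.a1 * σ d.a2
    + c.b8 * d.a1 * d.a4 + σ c.a8 * σ c.b8 * d.a1 * σ d.a1 + c.a8 * σ c.a8 * d.a1 * d.a4 + c.b8 ^ (2:ℕ) * d.a1 * σ d.a1 +
    c.a8 ^ (2:ℕ) * (σ c.a8) ^ (2:ℕ) * d.a1 * σ d.a1
  a6 := c.a6 + d.a6 + σ c.a8 * d.a2 + c.b8 * d.a1 + c.a8 * σ c.a8 * d.a1
  b6 := c.b6 + d.b6 + c.a6 * σ d.a6 + σ c.a7 * d.a2 + c.a7 * d.a4 + c.a8 * d.a5 + σ c.b8 * d.b2 + c.b8 * d.a3 + c.a6 * σ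
    c.b8 * σ d.a1 + σ c.a7 * c.a8 * d.a1 + c.a7 * c.a8 * σ d.a2 + c.a7 * c.b8 * σ d.a1 + σ c.a8 * d.a2 * σ d.a6 + c.a8 *
    c.b8 * d.b2 + σ c.b8 * d.a1 * d.a4 + σ c.b8 * d.a2 * σ d.a2 + c.b8 * d.a1 * σ d.a6 + c.b8 * d.a2 * d.a4 + c.a6 *
    c.a8 ^ (2:ℕ) * σ d.a2 + σ c.a8 * σ c.b8 * σ d.a1 * d.a2 + c.a8 * σ c.b8 * d.a1 * σ d.a2 + c.a8 * c.b8 * d.a1 * d.a4 +
    c.a8 * σ c.a8 * d.a1 * σ d.a6 + c.a8 ^ (2:ℕ) * σ c.a8 * d.b2 + c.b8 ^ (2:ℕ) * σ d.a1 * d.a2 + c.a6 * c.a8 ^ (2:ℕ) * σ c.a8 * σ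
    d.a1 + c.a8 * c.b8 ^ (2:ℕ) * d.a1 * σ d.a1 + c.a8 * σ c.a8 * σ c.b8 * d.a1 * σ d.a1 + c.a8 ^ (2:ℕ) * σ c.a8 * d.a1 * d.a4 +
    c.a8 ^ (2:ℕ) * (σ c.a8) ^ (2:ℕ) * σ d.a1 * d.a2 + c.a8 ^ (3:ℕ) * (σ c.a8) ^ (2:ℕ) * d.a1 * σ d.a1
  a7 := c.a7 + d.a7 + c.a8 * d.a6 + σ c.b8 * d.a1 + c.b8 * d.a2 + c.a8 * c.b8 * d.a1 + c.a8 ^ (2:ℕ) * σ c.a8 * d.a1
  a8 := c.a8 + d.a8
  b8 := c.b8 + d.b8 + c.a8 * σ d.a8

/-- the inverse in coordinates -/
def minv (σ : K →+* K) (c : Cd K) : Cd K where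
  a1 := c.a1
  a2 := c.a2 + c.a1 * c.a8
  b2 := c.b2 + σ c.a1 * c.a6 + c.a1 * c.a4 + c.a2 * σ c.a2 + c.a1 * σ c.a2 * c.a8 + c.a1 * σ c.a1 * c.b8 + c.a1 * σ c.a1 *
    c.a8 * σ c.a8
  a3 := c.a3 + σ c.a1 * c.a7 + c.a1 * σ c.a6 + c.a2 * c.a4 + c.a8 * c.b2 + σ c.a1 * c.a2 * c.b8 + σ c.a1 * c.a6 * c.a8 +
    c.a1 * c.a4 * c.a8 + c.a1 * σ c.a1 * σ c.b8 + σ c.a1 * c.a2 * c.a8 * σ c.a8 + c.a1 * σ c.a1 * c.a8 * c.b8 + c.a1 * σ
    c.a1 * c.a8 ^ (2:ℕ) * σ c.a8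
  a4 := c.a4 + σ c.a1 * c.b8 + σ c.a2 * c.a8 + σ c.a1 * c.a8 * σ c.a8
  b4 := c.b4 + c.a1 * c.b6 + c.a2 * c.a5 + σ c.a3 * c.a8 + c.a3 * c.a6 + c.a4 * σ c.a4 + c.a7 * c.b2 + σ c.b2 * c.b8 + σ
    c.a1 * c.a6 * c.a7 + c.a1 * c.a2 * σ c.a7 + c.a1 * c.a3 * c.b8 + c.a1 * c.a4 * c.a7 + c.a1 * c.a6 * σ c.a6 + c.a1 *
    c.b2 * σ c.b8 + c.a2 * c.a3 * σ c.a8 + c.a2 * c.a4 * c.a6 + c.a2 * c.b2 * c.b8 + c.a8 * σ c.a8 * σ c.b2 + σ c.a1 *
    c.a2 * c.a6 * c.b8 + σ c.a1 * c.a2 * c.a7 * σ c.a8 + σ c.a1 * c.a6 ^ (2:ℕ) * c.a8 + c.a1 * c.a2 * σ c.a6 * σ c.a8 + c.a1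
    * σ c.a1 * c.a6 * σ c.b8 + c.a1 * σ c.a1 * c.a7 * c.b8 + c.a1 ^ (2:ℕ) * c.a4 * σ c.b8 + c.a1 ^ (2:ℕ) * σ c.a7 * c.a8 + c.a2
    ^ (2:ℕ) * c.a4 * σ c.a8 + c.a2 ^ (2:ℕ) * σ c.a2 * c.b8 + σ c.a1 * c.a2 ^ (2:ℕ) * σ c.a8 * c.b8 + c.a1 * c.a8 ^ (2:ℕ) * σ c.a8 * c.b2
    + c.a1 * σ c.a1 * c.a2 * σ c.a8 * σ c.b8 + c.a1 * σ c.a1 * c.a2 * c.b8 ^ (2:ℕ) + c.a1 ^ (2:ℕ) * σ c.a6 * c.a8 * σ c.a8 +
    c.a1 ^ (2:ℕ) * σ c.a1 * c.b8 * σ c.b8 + c.a2 ^ (2:ℕ) * σ c.a2 * c.a8 * σ c.a8 + σ c.a1 * c.a2 ^ (2:ℕ) * c.a8 * (σ c.a8) ^ (2:ℕ) +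
    c.a1 * σ c.a1 * c.a6 * c.a8 ^ (2:ℕ) * σ c.a8 + c.a1 ^ (2:ℕ) * c.a4 * c.a8 ^ (2:ℕ) * σ c.a8 + c.a1 ^ (2:ℕ) * σ c.a1 * c.a8 * c.b8 ^ (2:ℕ)
    + c.a1 * σ c.a1 * c.a2 * c.a8 ^ (2:ℕ) * (σ c.a8) ^ (2:ℕ) + c.a1 ^ (2:ℕ) * σ c.a1 * c.a8 ^ (2:ℕ) * σ c.a8 * c.b8
  a5 := c.a5 + c.a1 * σ c.a7 + σ c.a2 * c.a7 + c.a3 * σ c.a8 + c.a4 * c.a6 + c.b2 * c.b8 + σ c.a1 * c.a6 * c.b8 + σ c.a1 *
    c.a7 * σ c.a8 + c.a1 * σ c.a2 * σ c.b8 + c.a1 * σ c.a6 * σ c.a8 + c.a2 * σ c.a2 * c.b8 + c.a1 * σ c.a1 * σ c.a8 * σ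
    c.b8 + c.a1 * σ c.a1 * c.b8 ^ (2:ℕ) + c.a1 * σ c.a2 * c.a8 ^ (2:ℕ) * σ c.a8 + c.a1 * σ c.a1 * c.a8 ^ (2:ℕ) * (σ c.a8) ^ (2:ℕ)
  a6 := c.a6 + c.a1 * c.b8 + c.a2 * σ c.a8
  b6 := c.b6 + c.a2 * σ c.a7 + c.a3 * c.b8 + c.a4 * c.a7 + c.a5 * c.a8 + c.a6 * σ c.a6 + c.b2 * σ c.b8 + σ c.a1 * c.a6 * σ
    c.b8 + σ c.a1 * c.a7 * c.b8 + c.a1 * σ c.a7 * c.a8 + σ c.a2 * c.a7 * c.a8 + c.a2 * σ c.a6 * σ c.a8 + c.a3 * c.a8 * σ
    c.a8 + c.a4 * c.a6 * c.a8 + c.a8 * c.b2 * c.b8 + σ c.a1 * c.a2 * σ c.a8 * σ c.b8 + σ c.a1 * c.a2 * c.b8 ^ (2:ℕ) + σ c.a1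
    * c.a6 * c.a8 * c.b8 + σ c.a1 * c.a7 * c.a8 * σ c.a8 + c.a1 * σ c.a2 * c.a8 * σ c.b8 + c.a1 * σ c.a6 * c.a8 * σ c.a8
    + c.a2 * σ c.a2 * c.a8 * c.b8 + c.a8 ^ (2:ℕ) * σ c.a8 * c.b2 + σ c.a1 * c.a6 * c.a8 ^ (2:ℕ) * σ c.a8 + c.a1 * σ c.a1 * c.a8
    * c.b8 ^ (2:ℕ) + c.a1 * σ c.a1 * c.a8 * σ c.a8 * σ c.b8 + σ c.a1 * c.a2 * c.a8 ^ (2:ℕ) * (σ c.a8) ^ (2:ℕ) + c.a1 * σ c.a2 * c.a8
    ^ (3:ℕ) * σ c.a8 + c.a1 * σ c.a1 * c.a8 ^ (3:ℕ) * (σ c.a8) ^ (2:ℕ)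
  a7 := c.a7 + c.a1 * σ c.b8 + c.a2 * c.b8 + c.a6 * c.a8 + c.a1 * c.a8 * c.b8 + c.a2 * c.a8 * σ c.a8 + c.a1 * c.a8 ^ (2:ℕ) * σ
    c.a8
  a8 := c.a8
  b8 := c.b8 + c.a8 * σ c.a8

end Cfsg.Agent.H181.TF
end

-- part: H181/TF/Coll
section
/-!
# S5262: the product in coordinates (helper181)

Collection from `OctRel` (generated; characteristic 2, `σ (σ x) = x²`): `el_mul`, `el_inv`, `el_one`.
-/

set_option autoImplicit false
set_option linter.all false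
set_option maxHeartbeats 1000000

namespace Cfsg.Agent.H181.TF

open Cfsg.Agent.H745.TF Cfsg.Agent.Octagon.Pkg

universe u v

/-- a family of root elements -/
structure Fam (K : Type u) (G : Type v) where
  x1 : K → G
  x3 : K → G
  x5 : K → G
  x7 : K → G
  x2 : K → K → G
  x4 : K → K → G
  x6 : K → K → G
  x8 : K → K → G

/-- the ordered product -/
def Fam.E {K : Type u} {G : Type v} [Group G] (F : Fam K G) (c : Cd K) : G :=
  F.x1 c.a1 * F.x2 c.a2 c.b2 * F.x3 c.a3 * F.x4 c.a4 c.b4 * F.x5 c.a5 * F.x6 c.a6 c.b6 * F.x7 c.a7 * F.x8 c.a8 c.b8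

/-- the relations, in characteristic 2 -/
structure Ok {K : Type u} [Field K] (σ : K →+* K) {G : Type v} [Group G] (F : Fam K G) : Prop where
  rel : OctRel σ F.x1 F.x3 F.x5 F.x7 F.x2 F.x4 F.x6 F.x8
  h2 : (2 : K) = 0
  hs : ∀ x, σ (σ x) = x ^ (2:ℕ)

namespace Ok

variable {K : Type u} [Field K] {σ : K →+* K} {G : Type v} [Group G] {F : Fam K G} (H : Ok σ F)
include H

theorem z1 : F.x1 0 = 1 := Cfsg.Agent.H659.TF.x1_zero H.rel
theorem z2 : F.x2 0 0 = 1 := Cfsg.Agent.H659.TF.x2_zero H.rel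
theorem z3 : F.x3 0 = 1 := Cfsg.Agent.H659.TF.x3_zero H.rel
theorem z4 : F.x4 0 0 = 1 := Cfsg.Agent.H659.TF.x4_zero H.rel
theorem z5 : F.x5 0 = 1 := Cfsg.Agent.H659.TF.x5_zero H.rel
theorem z6 : F.x6 0 0 = 1 := Cfsg.Agent.H659.TF.x6_zero H.rel
theorem z7 : F.x7 0 = 1 := Cfsg.Agent.H659.TF.x7_zero H.rel
theorem z8 : F.x8 0 0 = 1 := Cfsg.Agent.H659.TF.x8_zero H.rel

theorem dbl (x : K) : x + x = 0 := by rw [← two_mul, H.h2, zero_mul]
theorem i1 (t : K) : (F.x1 t)⁻¹ = F.x1 t := inv_eq_of_mul_eq_one_right (by rw [H.rel.m1, H.dbl, H.z1])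
theorem i2 (p u : K) : (F.x2 p u)⁻¹ = F.x2 p (u + p * σ p) := inv_eq_of_mul_eq_one_right (by
  rw [H.rel.m2, H.dbl, show u + (u + p * σ p) + p * σ p = (u + u) + (p * σ p + p * σ p) by ring, H.dbl, H.dbl, add_zero, H.z2])
theorem i3 (t : K) : (F.x3 t)⁻¹ = F.x3 t := inv_eq_of_mul_eq_one_right (by rw [H.rel.m3, H.dbl, H.z3])
theorem i4 (p u : K) : (F.x4 p u)⁻¹ = F.x4 p (u + p * σ p) := inv_eq_of_mul_eq_one_right (by
  rw [H.rel.m4, H.dbl, show u + (u + p * σ p) + p * σ p = (u + u) + (p * σ p + p * σ p) by ring, H.dbl, H.dbl, add_zero, H.z4])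
theorem i5 (t : K) : (F.x5 t)⁻¹ = F.x5 t := inv_eq_of_mul_eq_one_right (by rw [H.rel.m5, H.dbl, H.z5])
theorem i6 (p u : K) : (F.x6 p u)⁻¹ = F.x6 p (u + p * σ p) := inv_eq_of_mul_eq_one_right (by
  rw [H.rel.m6, H.dbl, show u + (u + p * σ p) + p * σ p = (u + u) + (p * σ p + p * σ p) by ring, H.dbl, H.dbl, add_zero, H.z6])
theorem i7 (t : K) : (F.x7 t)⁻¹ = F.x7 t := inv_eq_of_mul_eq_one_right (by rw [H.rel.m7, H.dbl, H.z7])
theorem i8 (p u : K) : (F.x8 p u)⁻¹ = F.x8 p (u + p * σ p) := inv_eq_of_mul_eq_one_right (by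
  rw [H.rel.m8, H.dbl, show u + (u + p * σ p) + p * σ p = (u + u) + (p * σ p + p * σ p) by ring, H.dbl, H.dbl, add_zero, H.z8])

omit H in
theorem swp {a b c : G} (h : a * b = b * a * c) : b * a = a * b * c⁻¹ := by rw [h]; group

theorem w21 (q v t : K) : F.x2 q v * F.x1 t = F.x1 t * F.x2 q v := (H.rel.r12 t q v).symm
theorem w31 (s t : K) : F.x3 s * F.x1 t = F.x1 t * F.x3 s := (H.rel.r13 t s).symm
theorem w32 (s p u : K) : F.x3 s * F.x2 p u = F.x2 p u * F.x3 s := (H.rel.r23 p u s).symm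
theorem w41 (q v t : K) : F.x4 q v * F.x1 t =
    F.x1 t * F.x4 q v * F.x2 (0) (q * t) := by
  have h := H.rel.r14 t q v
  have h1 := swp h
  rw [H.i2] at h1
  refine h1.trans ?_
  refine congrArg₂ (· * ·) (rfl) (congrArg₂ F.x2 ?_ ?_)
  · (try simp only [map_add, map_mul, map_pow, map_zero, H.hs]) <;> ring1
  · (try simp only [map_add, map_mul, map_pow, map_zero, H.hs]) <;> ring1
theorem w42 (q v p u : K) : F.x4 q v * F.x2 p u =
    F.x2 p u * F.x4 q v * F.x3 (p * q) := by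
  have h := H.rel.r24 p u q v
  have h1 := swp h
  rw [H.i3] at h1
  refine h1.trans ?_
  refine congrArg₂ (· * ·) (rfl) (congrArg F.x3 ?_)
  · (try simp only [map_add, map_mul, map_pow, map_zero, H.hs]) <;> ring1
theorem w43 (q v t : K) : F.x4 q v * F.x3 t = F.x3 t * F.x4 q v := (H.rel.r34 t q v).symm
theorem w51 (s t : K) : F.x5 s * F.x1 t = F.x1 t * F.x5 s := (H.rel.r15 t s).symm
theorem w52 (s p u : K) : F.x5 s * F.x2 p u =
    F.x2 p u * F.x5 s * F.x4 (0) (p * s) := by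
  have h := H.rel.r25 p u s
  have h1 := swp h
  rw [H.i4] at h1
  refine h1.trans ?_
  refine congrArg₂ (· * ·) (rfl) (congrArg₂ F.x4 ?_ ?_)
  · (try simp only [map_add, map_mul, map_pow, map_zero, H.hs]) <;> ring1
  · (try simp only [map_add, map_mul, map_pow, map_zero, H.hs]) <;> ring1
theorem w53 (s t : K) : F.x5 s * F.x3 t = F.x3 t * F.x5 s := (H.rel.r35 t s).symm
theorem w54 (s p u : K) : F.x5 s * F.x4 p u = F.x4 p u * F.x5 s := (H.rel.r45 p u s).symm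
theorem w61 (q v t : K) : F.x6 q v * F.x1 t =
    F.x1 t * F.x6 q v * F.x4 (0) (t * v + q * σ q * t) * F.x3 (σ q * t) * F.x2 (0) (q * σ t) := by
  have h := H.rel.r16 t q v
  simp only [mul_assoc (F.x6 q v * F.x1 t)] at h
  rw [swp h]
  simp only [mul_inv_rev, H.i2, H.i3, H.i4, ← mul_assoc]
  refine congrArg₂ (· * ·) (congrArg₂ (· * ·) (congrArg₂ (· * ·) (rfl) (congrArg₂ F.x4 ?_ ?_)) (congrArg F.x3 ?_)) (congrArg₂ F.x2 ?_ ?_)
  · (try simp only [map_add, map_mul, map_pow, map_zero, H.hs]) <;> ring1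
  · (try simp only [map_add, map_mul, map_pow, map_zero, H.hs]) <;> ring1
  · (try simp only [map_add, map_mul, map_pow, map_zero, H.hs]) <;> ring1
  · (try simp only [map_add, map_mul, map_pow, map_zero, H.hs]) <;> ring1
  · (try simp only [map_add, map_mul, map_pow, map_zero, H.hs]) <;> ring1
theorem w62 (q v p u : K) : F.x6 q v * F.x2 p u = F.x2 p u * F.x6 q v := (H.rel.r26 p u q v).symm
theorem w63 (q v t : K) : F.x6 q v * F.x3 t =
    F.x3 t * F.x6 q v * F.x4 (0) (q * t) := by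
  have h := H.rel.r36 t q v
  have h1 := swp h
  rw [H.i4] at h1
  refine h1.trans ?_
  refine congrArg₂ (· * ·) (rfl) (congrArg₂ F.x4 ?_ ?_)
  · (try simp only [map_add, map_mul, map_pow, map_zero, H.hs]) <;> ring1
  · (try simp only [map_add, map_mul, map_pow, map_zero, H.hs]) <;> ring1
theorem w64 (q v p u : K) : F.x6 q v * F.x4 p u =
    F.x4 p u * F.x6 q v * F.x5 (p * q) := by
  have h := H.rel.r46 p u q v
  have h1 := swp h
  rw [H.i5] at h1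
  refine h1.trans ?_
  refine congrArg₂ (· * ·) (rfl) (congrArg F.x5 ?_)
  · (try simp only [map_add, map_mul, map_pow, map_zero, H.hs]) <;> ring1
theorem w65 (q v t : K) : F.x6 q v * F.x5 t = F.x5 t * F.x6 q v := (H.rel.r56 t q v).symm
theorem w71 (s t : K) : F.x7 s * F.x1 t =
    F.x1 t * F.x7 s * F.x5 (σ s * t) * F.x3 (s * σ t) := by
  have h := H.rel.r17 t s
  simp only [mul_assoc (F.x7 s * F.x1 t)] at h
  rw [swp h]
  simp only [mul_inv_rev, H.i3, H.i5, ← mul_assoc]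
  refine congrArg₂ (· * ·) (congrArg₂ (· * ·) (rfl) (congrArg F.x5 ?_)) (congrArg F.x3 ?_)
  · (try simp only [map_add, map_mul, map_pow, map_zero, H.hs]) <;> ring1
  · (try simp only [map_add, map_mul, map_pow, map_zero, H.hs]) <;> ring1
theorem w72 (s p u : K) : F.x7 s * F.x2 p u =
    F.x2 p u * F.x7 s * F.x6 (0) (p * σ s) * F.x5 (σ p * s) * F.x4 (0) (s * u + p * σ p * s) := by
  have h := H.rel.r27 p u s
  simp only [mul_assoc (F.x7 s * F.x2 p u)] at h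
  rw [swp h]
  simp only [mul_inv_rev, H.i4, H.i5, H.i6, ← mul_assoc]
  refine congrArg₂ (· * ·) (congrArg₂ (· * ·) (congrArg₂ (· * ·) (rfl) (congrArg₂ F.x6 ?_ ?_)) (congrArg F.x5 ?_)) (congrArg₂ F.x4 ?_ ?_)
  · (try simp only [map_add, map_mul, map_pow, map_zero, H.hs]) <;> ring1
  · (try simp only [map_add, map_mul, map_pow, map_zero, H.hs]) <;> ring1
  · (try simp only [map_add, map_mul, map_pow, map_zero, H.hs]) <;> ring1
  · (try simp only [map_add, map_mul, map_pow, map_zero, H.hs]) <;> ring1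
  · (try simp only [map_add, map_mul, map_pow, map_zero, H.hs]) <;> ring1
theorem w73 (s t : K) : F.x7 s * F.x3 t = F.x3 t * F.x7 s := (H.rel.r37 t s).symm
theorem w74 (s p u : K) : F.x7 s * F.x4 p u =
    F.x4 p u * F.x7 s * F.x6 (0) (p * s) := by
  have h := H.rel.r47 p u s
  have h1 := swp h
  rw [H.i6] at h1
  refine h1.trans ?_
  refine congrArg₂ (· * ·) (rfl) (congrArg₂ F.x6 ?_ ?_)
  · (try simp only [map_add, map_mul, map_pow, map_zero, H.hs]) <;> ring1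
  · (try simp only [map_add, map_mul, map_pow, map_zero, H.hs]) <;> ring1
theorem w75 (s t : K) : F.x7 s * F.x5 t = F.x5 t * F.x7 s := (H.rel.r57 t s).symm
theorem w76 (s p u : K) : F.x7 s * F.x6 p u = F.x6 p u * F.x7 s := (H.rel.r67 p u s).symm
theorem w81 (q v t : K) : F.x8 q v * F.x1 t =
    F.x1 t * F.x8 q v * F.x7 (t * σ v + q * t * v + q ^ (2:ℕ) * σ q * t) * F.x6 (t * v) (t * σ t * v * σ v + q * t * σ
      t * v ^ (2:ℕ) + q * σ q * t * σ t * σ v + q ^ (3:ℕ) * (σ q) ^ (2:ℕ) * t * σ t) * F.x5 (σ q * t * σ t * σ v + t * σ t * v ^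
      (2:ℕ) + q ^ (2:ℕ) * (σ q) ^ (2:ℕ) * t * σ t) * F.x4 (σ t * v + q * σ q * σ t) (q * t ^ (2:ℕ) * σ t * v ^ (2:ℕ) + q * σ q * t ^ (2:ℕ) *
      σ t * σ v + q ^ (3:ℕ) * (σ q) ^ (2:ℕ) * t ^ (2:ℕ) * σ t) * F.x3 (t * σ t * σ v + q * t * σ t * v + q ^ (2:ℕ) * σ q * t * σ t)
      * F.x2 (q * t) (t * σ t * v) := by
  have h := H.rel.r18 t q v
  simp only [mul_assoc (F.x8 q v * F.x1 t)] at h
  rw [swp h]
  simp only [mul_inv_rev, H.i2, H.i3, H.i4, H.i5, H.i6, H.i7, ← mul_assoc]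
  refine congrArg₂ (· * ·) (congrArg₂ (· * ·) (congrArg₂ (· * ·) (congrArg₂ (· * ·) (congrArg₂ (· * ·) (congrArg₂ (· * ·) (rfl) (congrArg F.x7 ?_)) (congrArg₂ F.x6 ?_ ?_)) (congrArg F.x5 ?_)) (congrArg₂ F.x4 ?_ ?_)) (congrArg F.x3 ?_)) (congrArg₂ F.x2 ?_ ?_)
  · (try simp only [map_add, map_mul, map_pow, map_zero, H.hs]) <;> ring1
  · (try simp only [map_add, map_mul, map_pow, map_zero, H.hs]) <;> ring1
  · (try simp only [map_add, map_mul, map_pow, map_zero, H.hs]) <;> ring1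
  · (try simp only [map_add, map_mul, map_pow, map_zero, H.hs]) <;> ring1
  · (try simp only [map_add, map_mul, map_pow, map_zero, H.hs]) <;> ring1
  · try simp only [map_add, map_mul, map_pow, map_zero, H.hs]
    linear_combination (q ^ (2:ℕ) * σ q * t ^ (2:ℕ) * σ t * v + t ^ (2:ℕ) * σ t * v * σ v) * H.h2
  · (try simp only [map_add, map_mul, map_pow, map_zero, H.hs]) <;> ring1
  · (try simp only [map_add, map_mul, map_pow, map_zero, H.hs]) <;> ring1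
  · try simp only [map_add, map_mul, map_pow, map_zero, H.hs]
    linear_combination (q * σ q * t * σ t) * H.h2
theorem w82 (q v p u : K) : F.x8 q v * F.x2 p u =
    F.x2 p u * F.x8 q v * F.x7 (p * v + p * q * σ q) * F.x6 (p * σ q) (u * σ v + p * σ p * σ v + q * u * v + q ^ (2:ℕ)
      * σ q * u) * F.x5 (u * v) * F.x4 (σ p * q) (σ u * v + p * u * v + q * σ q * σ u + p ^ (2:ℕ) * σ p * v + p ^ (2:ℕ) * σ
      p * q * σ q) * F.x3 (q * u + p * σ p * q) := by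
  have h := H.rel.r28 p u q v
  simp only [mul_assoc (F.x8 q v * F.x2 p u)] at h
  rw [swp h]
  simp only [mul_inv_rev, H.i3, H.i4, H.i5, H.i6, H.i7, ← mul_assoc]
  refine congrArg₂ (· * ·) (congrArg₂ (· * ·) (congrArg₂ (· * ·) (congrArg₂ (· * ·) (congrArg₂ (· * ·) (rfl) (congrArg F.x7 ?_)) (congrArg₂ F.x6 ?_ ?_)) (congrArg F.x5 ?_)) (congrArg₂ F.x4 ?_ ?_)) (congrArg F.x3 ?_)
  · (try simp only [map_add, map_mul, map_pow, map_zero, H.hs]) <;> ring1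
  · (try simp only [map_add, map_mul, map_pow, map_zero, H.hs]) <;> ring1
  · try simp only [map_add, map_mul, map_pow, map_zero, H.hs]
    linear_combination (p * σ p * q ^ (2:ℕ) * σ q) * H.h2
  · (try simp only [map_add, map_mul, map_pow, map_zero, H.hs]) <;> ring1
  · (try simp only [map_add, map_mul, map_pow, map_zero, H.hs]) <;> ring1
  · (try simp only [map_add, map_mul, map_pow, map_zero, H.hs]) <;> ring1
  · (try simp only [map_add, map_mul, map_pow, map_zero, H.hs]) <;> ring1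
theorem w83 (q v t : K) : F.x8 q v * F.x3 t =
    F.x3 t * F.x8 q v * F.x6 (0) (t * v + q * σ q * t) * F.x5 (σ q * t) * F.x4 (0) (q * σ t) := by
  have h := H.rel.r38 t q v
  simp only [mul_assoc (F.x8 q v * F.x3 t)] at h
  rw [swp h]
  simp only [mul_inv_rev, H.i4, H.i5, H.i6, ← mul_assoc]
  refine congrArg₂ (· * ·) (congrArg₂ (· * ·) (congrArg₂ (· * ·) (rfl) (congrArg₂ F.x6 ?_ ?_)) (congrArg F.x5 ?_)) (congrArg₂ F.x4 ?_ ?_)
  · (try simp only [map_add, map_mul, map_pow, map_zero, H.hs]) <;> ring1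
  · (try simp only [map_add, map_mul, map_pow, map_zero, H.hs]) <;> ring1
  · (try simp only [map_add, map_mul, map_pow, map_zero, H.hs]) <;> ring1
  · (try simp only [map_add, map_mul, map_pow, map_zero, H.hs]) <;> ring1
  · (try simp only [map_add, map_mul, map_pow, map_zero, H.hs]) <;> ring1
theorem w84 (q v p u : K) : F.x8 q v * F.x4 p u = F.x4 p u * F.x8 q v := (H.rel.r48 p u q v).symm
theorem w85 (q v t : K) : F.x8 q v * F.x5 t =
    F.x5 t * F.x8 q v * F.x6 (0) (q * t) := by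
  have h := H.rel.r58 t q v
  have h1 := swp h
  rw [H.i6] at h1
  refine h1.trans ?_
  refine congrArg₂ (· * ·) (rfl) (congrArg₂ F.x6 ?_ ?_)
  · (try simp only [map_add, map_mul, map_pow, map_zero, H.hs]) <;> ring1
  · (try simp only [map_add, map_mul, map_pow, map_zero, H.hs]) <;> ring1
theorem w86 (q v p u : K) : F.x8 q v * F.x6 p u =
    F.x6 p u * F.x8 q v * F.x7 (p * q) := by
  have h := H.rel.r68 p u q v
  have h1 := swp h
  rw [H.i7] at h1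
  refine h1.trans ?_
  refine congrArg₂ (· * ·) (rfl) (congrArg F.x7 ?_)
  · (try simp only [map_add, map_mul, map_pow, map_zero, H.hs]) <;> ring1
theorem w87 (q v t : K) : F.x8 q v * F.x7 t = F.x7 t * F.x8 q v := (H.rel.r78 t q v).symm

theorem s8_8 (a1 a2 b2 a3 a4 b4 a5 a6 b6 a7 a8 b8 p u : K) : F.x1 a1 * F.x2 a2 b2 * F.x3 a3 * F.x4 a4 b4 * F.x5 a5 * F.x6 a6 b6 * F.x7 a7 * F.x8 a8 b8 * F.x8 p u =
    F.E ⟨a1, a2, b2, a3, a4, b4, a5, a6, b6, a7, a8 + p, b8 + u + a8 * σ p⟩ := by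
  rw [mul_assoc (F.x1 a1 * F.x2 a2 b2 * F.x3 a3 * F.x4 a4 b4 * F.x5 a5 * F.x6 a6 b6 * F.x7 a7) (F.x8 a8 b8) (F.x8 p u), H.rel.m8]
  simp only [Fam.E, H.z1, H.z2, H.z3, H.z4, H.z5, H.z6, H.z7, H.z8, mul_one]
/-- right multiplication by a root element of `X8` -/
theorem R8 (c : Cd K) (p u : K) : F.E c * F.x8 p u =
    F.E ⟨c.a1, c.a2, c.b2, c.a3, c.a4, c.b4, c.a5, c.a6, c.b6, c.a7, c.a8 + p, c.b8 + u + c.a8 * σ p⟩ :=
  H.s8_8 c.a1 c.a2 c.b2 c.a3 c.a4 c.b4 c.a5 c.a6 c.b6 c.a7 c.a8 c.b8 p u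

theorem s7_7 (a1 a2 b2 a3 a4 b4 a5 a6 b6 a7 t : K) : F.x1 a1 * F.x2 a2 b2 * F.x3 a3 * F.x4 a4 b4 * F.x5 a5 * F.x6 a6 b6 * F.x7 a7 * F.x7 t =
    F.E ⟨a1, a2, b2, a3, a4, b4, a5, a6, b6, a7 + t, 0, 0⟩ := by
  rw [mul_assoc (F.x1 a1 * F.x2 a2 b2 * F.x3 a3 * F.x4 a4 b4 * F.x5 a5 * F.x6 a6 b6) (F.x7 a7) (F.x7 t), H.rel.m7]
  simp only [Fam.E, H.z1, H.z2, H.z3, H.z4, H.z5, H.z6, H.z7, H.z8, mul_one]
theorem s7_8 (a1 a2 b2 a3 a4 b4 a5 a6 b6 a7 a8 b8 t : K) : F.x1 a1 * F.x2 a2 b2 * F.x3 a3 * F.x4 a4 b4 * F.x5 a5 * F.x6 a6 b6 * F.x7 a7 * F.x8 a8 b8 * F.x7 t =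
    F.E ⟨a1, a2, b2, a3, a4, b4, a5, a6, b6, a7 + t, a8, b8⟩ := by
  rw [mul_assoc (F.x1 a1 * F.x2 a2 b2 * F.x3 a3 * F.x4 a4 b4 * F.x5 a5 * F.x6 a6 b6 * F.x7 a7) (F.x8 a8 b8) (F.x7 t), H.w87]
  simp only [← mul_assoc]
  rw [H.s7_7 a1 a2 b2 a3 a4 b4 a5 a6 b6 a7 t]
  rw [show F.E ⟨a1, a2, b2, a3, a4, b4, a5, a6, b6, a7 + t, 0, 0⟩ *
      F.x8 a8 b8 =
      F.E ⟨a1, a2, b2, a3, a4, b4, a5, a6, b6, a7 + t, a8, b8⟩ by
    rw [H.R8]
    refine congrArg F.E (Cd.ext ?_ ?_ ?_ ?_ ?_ ?_ ?_ ?_ ?_ ?_ ?_ ?_)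
    · first | with_reducible rfl | ((try simp only [map_add, map_mul, map_pow, map_zero, H.hs]) <;> ring1)
    · first | with_reducible rfl | ((try simp only [map_add, map_mul, map_pow, map_zero, H.hs]) <;> ring1)
    · first | with_reducible rfl | ((try simp only [map_add, map_mul, map_pow, map_zero, H.hs]) <;> ring1)
    · first | with_reducible rfl | ((try simp only [map_add, map_mul, map_pow, map_zero, H.hs]) <;> ring1)
    · first | with_reducible rfl | ((try simp only [map_add, map_mul, map_pow, map_zero, H.hs]) <;> ring1)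
    · first | with_reducible rfl | ((try simp only [map_add, map_mul, map_pow, map_zero, H.hs]) <;> ring1)
    · first | with_reducible rfl | ((try simp only [map_add, map_mul, map_pow, map_zero, H.hs]) <;> ring1)
    · first | with_reducible rfl | ((try simp only [map_add, map_mul, map_pow, map_zero, H.hs]) <;> ring1)
    · first | with_reducible rfl | ((try simp only [map_add, map_mul, map_pow, map_zero, H.hs]) <;> ring1)
    · first | with_reducible rfl | ((try simp only [map_add, map_mul, map_pow, map_zero, H.hs]) <;> ring1)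
    · first | with_reducible rfl | ((try simp only [map_add, map_mul, map_pow, map_zero, H.hs]) <;> ring1)
    · first | with_reducible rfl | ((try simp only [map_add, map_mul, map_pow, map_zero, H.hs]) <;> ring1)
    ]
/-- right multiplication by a root element of `X7` -/
theorem R7 (c : Cd K) (t : K) : F.E c * F.x7 t =
    F.E ⟨c.a1, c.a2, c.b2, c.a3, c.a4, c.b4, c.a5, c.a6, c.b6, c.a7 + t, c.a8, c.b8⟩ :=
  H.s7_8 c.a1 c.a2 c.b2 c.a3 c.a4 c.b4 c.a5 c.a6 c.b6 c.a7 c.a8 c.b8 t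

theorem s6_6 (a1 a2 b2 a3 a4 b4 a5 a6 b6 p u : K) : F.x1 a1 * F.x2 a2 b2 * F.x3 a3 * F.x4 a4 b4 * F.x5 a5 * F.x6 a6 b6 * F.x6 p u =
    F.E ⟨a1, a2, b2, a3, a4, b4, a5, a6 + p, b6 + u + a6 * σ p, 0, 0, 0⟩ := by
  rw [mul_assoc (F.x1 a1 * F.x2 a2 b2 * F.x3 a3 * F.x4 a4 b4 * F.x5 a5) (F.x6 a6 b6) (F.x6 p u), H.rel.m6]
  simp only [Fam.E, H.z1, H.z2, H.z3, H.z4, H.z5, H.z6, H.z7, H.z8, mul_one]
theorem s6_7 (a1 a2 b2 a3 a4 b4 a5 a6 b6 a7 p u : K) : F.x1 a1 * F.x2 a2 b2 * F.x3 a3 * F.x4 a4 b4 * F.x5 a5 * F.x6 a6 b6 * F.x7 a7 * F.x6 p u =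
    F.E ⟨a1, a2, b2, a3, a4, b4, a5, a6 + p, b6 + u + a6 * σ p, a7, 0, 0⟩ := by
  rw [mul_assoc (F.x1 a1 * F.x2 a2 b2 * F.x3 a3 * F.x4 a4 b4 * F.x5 a5 * F.x6 a6 b6) (F.x7 a7) (F.x6 p u), H.w76]
  simp only [← mul_assoc]
  rw [H.s6_6 a1 a2 b2 a3 a4 b4 a5 a6 b6 p u]
  rw [show F.E ⟨a1, a2, b2, a3, a4, b4, a5, a6 + p, b6 + u + a6 * σ p, 0, 0, 0⟩ *
      F.x7 a7 =
      F.E ⟨a1, a2, b2, a3, a4, b4, a5, a6 + p, b6 + u + a6 * σ p, a7, 0, 0⟩ by
    rw [H.R7]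
    refine congrArg F.E (Cd.ext ?_ ?_ ?_ ?_ ?_ ?_ ?_ ?_ ?_ ?_ ?_ ?_)
    · first | with_reducible rfl | ((try simp only [map_add, map_mul, map_pow, map_zero, H.hs]) <;> ring1)
    · first | with_reducible rfl | ((try simp only [map_add, map_mul, map_pow, map_zero, H.hs]) <;> ring1)
    · first | with_reducible rfl | ((try simp only [map_add, map_mul, map_pow, map_zero, H.hs]) <;> ring1)
    · first | with_reducible rfl | ((try simp only [map_add, map_mul, map_pow, map_zero, H.hs]) <;> ring1)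
    · first | with_reducible rfl | ((try simp only [map_add, map_mul, map_pow, map_zero, H.hs]) <;> ring1)
    · first | with_reducible rfl | ((try simp only [map_add, map_mul, map_pow, map_zero, H.hs]) <;> ring1)
    · first | with_reducible rfl | ((try simp only [map_add, map_mul, map_pow, map_zero, H.hs]) <;> ring1)
    · first | with_reducible rfl | ((try simp only [map_add, map_mul, map_pow, map_zero, H.hs]) <;> ring1)
    · first | with_reducible rfl | ((try simp only [map_add, map_mul, map_pow, map_zero, H.hs]) <;> ring1)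
    · first | with_reducible rfl | ((try simp only [map_add, map_mul, map_pow, map_zero, H.hs]) <;> ring1)
    · first | with_reducible rfl | ((try simp only [map_add, map_mul, map_pow, map_zero, H.hs]) <;> ring1)
    · first | with_reducible rfl | ((try simp only [map_add, map_mul, map_pow, map_zero, H.hs]) <;> ring1)
    ]
theorem s6_8 (a1 a2 b2 a3 a4 b4 a5 a6 b6 a7 a8 b8 p u : K) : F.x1 a1 * F.x2 a2 b2 * F.x3 a3 * F.x4 a4 b4 * F.x5 a5 * F.x6 a6 b6 * F.x7 a7 * F.x8 a8 b8 * F.x6 p u =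
    F.E ⟨a1, a2, b2, a3, a4, b4, a5, a6 + p, b6 + u + a6 * σ p, a7 + a8 * p, a8, b8⟩ := by
  rw [mul_assoc (F.x1 a1 * F.x2 a2 b2 * F.x3 a3 * F.x4 a4 b4 * F.x5 a5 * F.x6 a6 b6 * F.x7 a7) (F.x8 a8 b8) (F.x6 p u), H.w86]
  simp only [← mul_assoc]
  rw [H.s6_7 a1 a2 b2 a3 a4 b4 a5 a6 b6 a7 p u]
  rw [show F.E ⟨a1, a2, b2, a3, a4, b4, a5, a6 + p, b6 + u + a6 * σ p, a7, 0, 0⟩ *
      F.x8 a8 b8 =
      F.E ⟨a1, a2, b2, a3, a4, b4, a5, a6 + p, b6 + u + a6 * σ p, a7, a8, b8⟩ by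
    rw [H.R8]
    refine congrArg F.E (Cd.ext ?_ ?_ ?_ ?_ ?_ ?_ ?_ ?_ ?_ ?_ ?_ ?_)
    · first | with_reducible rfl | ((try simp only [map_add, map_mul, map_pow, map_zero, H.hs]) <;> ring1)
    · first | with_reducible rfl | ((try simp only [map_add, map_mul, map_pow, map_zero, H.hs]) <;> ring1)
    · first | with_reducible rfl | ((try simp only [map_add, map_mul, map_pow, map_zero, H.hs]) <;> ring1)
    · first | with_reducible rfl | ((try simp only [map_add, map_mul, map_pow, map_zero, H.hs]) <;> ring1)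
    · first | with_reducible rfl | ((try simp only [map_add, map_mul, map_pow, map_zero, H.hs]) <;> ring1)
    · first | with_reducible rfl | ((try simp only [map_add, map_mul, map_pow, map_zero, H.hs]) <;> ring1)
    · first | with_reducible rfl | ((try simp only [map_add, map_mul, map_pow, map_zero, H.hs]) <;> ring1)
    · first | with_reducible rfl | ((try simp only [map_add, map_mul, map_pow, map_zero, H.hs]) <;> ring1)
    · first | with_reducible rfl | ((try simp only [map_add, map_mul, map_pow, map_zero, H.hs]) <;> ring1)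
    · first | with_reducible rfl | ((try simp only [map_add, map_mul, map_pow, map_zero, H.hs]) <;> ring1)
    · first | with_reducible rfl | ((try simp only [map_add, map_mul, map_pow, map_zero, H.hs]) <;> ring1)
    · first | with_reducible rfl | ((try simp only [map_add, map_mul, map_pow, map_zero, H.hs]) <;> ring1)
    ]
  rw [show F.E ⟨a1, a2, b2, a3, a4, b4, a5, a6 + p, b6 + u + a6 * σ p, a7, a8, b8⟩ *
      F.x7 (p * a8) =
      F.E ⟨a1, a2, b2, a3, a4, b4, a5, a6 + p, b6 + u + a6 * σ p, a7 + a8 * p, a8, b8⟩ by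
    rw [H.R7]
    refine congrArg F.E (Cd.ext ?_ ?_ ?_ ?_ ?_ ?_ ?_ ?_ ?_ ?_ ?_ ?_)
    · first | with_reducible rfl | ((try simp only [map_add, map_mul, map_pow, map_zero, H.hs]) <;> ring1)
    · first | with_reducible rfl | ((try simp only [map_add, map_mul, map_pow, map_zero, H.hs]) <;> ring1)
    · first | with_reducible rfl | ((try simp only [map_add, map_mul, map_pow, map_zero, H.hs]) <;> ring1)
    · first | with_reducible rfl | ((try simp only [map_add, map_mul, map_pow, map_zero, H.hs]) <;> ring1)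
    · first | with_reducible rfl | ((try simp only [map_add, map_mul, map_pow, map_zero, H.hs]) <;> ring1)
    · first | with_reducible rfl | ((try simp only [map_add, map_mul, map_pow, map_zero, H.hs]) <;> ring1)
    · first | with_reducible rfl | ((try simp only [map_add, map_mul, map_pow, map_zero, H.hs]) <;> ring1)
    · first | with_reducible rfl | ((try simp only [map_add, map_mul, map_pow, map_zero, H.hs]) <;> ring1)
    · first | with_reducible rfl | ((try simp only [map_add, map_mul, map_pow, map_zero, H.hs]) <;> ring1)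
    · first | with_reducible rfl | ((try simp only [map_add, map_mul, map_pow, map_zero, H.hs]) <;> ring1)
    · first | with_reducible rfl | ((try simp only [map_add, map_mul, map_pow, map_zero, H.hs]) <;> ring1)
    · first | with_reducible rfl | ((try simp only [map_add, map_mul, map_pow, map_zero, H.hs]) <;> ring1)
    ]
/-- right multiplication by a root element of `X6` -/
theorem R6 (c : Cd K) (p u : K) : F.E c * F.x6 p u =
    F.E ⟨c.a1, c.a2, c.b2, c.a3, c.a4, c.b4, c.a5, c.a6 + p, c.b6 + u + c.a6 * σ p, c.a7 + c.a8 * p, c.a8, c.b8⟩ :=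
  H.s6_8 c.a1 c.a2 c.b2 c.a3 c.a4 c.b4 c.a5 c.a6 c.b6 c.a7 c.a8 c.b8 p u

theorem s5_5 (a1 a2 b2 a3 a4 b4 a5 t : K) : F.x1 a1 * F.x2 a2 b2 * F.x3 a3 * F.x4 a4 b4 * F.x5 a5 * F.x5 t =
    F.E ⟨a1, a2, b2, a3, a4, b4, a5 + t, 0, 0, 0, 0, 0⟩ := by
  rw [mul_assoc (F.x1 a1 * F.x2 a2 b2 * F.x3 a3 * F.x4 a4 b4) (F.x5 a5) (F.x5 t), H.rel.m5]
  simp only [Fam.E, H.z1, H.z2, H.z3, H.z4, H.z5, H.z6, H.z7, H.z8, mul_one]
theorem s5_6 (a1 a2 b2 a3 a4 b4 a5 a6 b6 t : K) : F.x1 a1 * F.x2 a2 b2 * F.x3 a3 * F.x4 a4 b4 * F.x5 a5 * F.x6 a6 b6 * F.x5 t =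
    F.E ⟨a1, a2, b2, a3, a4, b4, a5 + t, a6, b6, 0, 0, 0⟩ := by
  rw [mul_assoc (F.x1 a1 * F.x2 a2 b2 * F.x3 a3 * F.x4 a4 b4 * F.x5 a5) (F.x6 a6 b6) (F.x5 t), H.w65]
  simp only [← mul_assoc]
  rw [H.s5_5 a1 a2 b2 a3 a4 b4 a5 t]
  rw [show F.E ⟨a1, a2, b2, a3, a4, b4, a5 + t, 0, 0, 0, 0, 0⟩ *
      F.x6 a6 b6 =
      F.E ⟨a1, a2, b2, a3, a4, b4, a5 + t, a6, b6, 0, 0, 0⟩ by
    rw [H.R6]
    refine congrArg F.E (Cd.ext ?_ ?_ ?_ ?_ ?_ ?_ ?_ ?_ ?_ ?_ ?_ ?_)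
    · first | with_reducible rfl | ((try simp only [map_add, map_mul, map_pow, map_zero, H.hs]) <;> ring1)
    · first | with_reducible rfl | ((try simp only [map_add, map_mul, map_pow, map_zero, H.hs]) <;> ring1)
    · first | with_reducible rfl | ((try simp only [map_add, map_mul, map_pow, map_zero, H.hs]) <;> ring1)
    · first | with_reducible rfl | ((try simp only [map_add, map_mul, map_pow, map_zero, H.hs]) <;> ring1)
    · first | with_reducible rfl | ((try simp only [map_add, map_mul, map_pow, map_zero, H.hs]) <;> ring1)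
    · first | with_reducible rfl | ((try simp only [map_add, map_mul, map_pow, map_zero, H.hs]) <;> ring1)
    · first | with_reducible rfl | ((try simp only [map_add, map_mul, map_pow, map_zero, H.hs]) <;> ring1)
    · first | with_reducible rfl | ((try simp only [map_add, map_mul, map_pow, map_zero, H.hs]) <;> ring1)
    · first | with_reducible rfl | ((try simp only [map_add, map_mul, map_pow, map_zero, H.hs]) <;> ring1)
    · first | with_reducible rfl | ((try simp only [map_add, map_mul, map_pow, map_zero, H.hs]) <;> ring1)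
    · first | with_reducible rfl | ((try simp only [map_add, map_mul, map_pow, map_zero, H.hs]) <;> ring1)
    · first | with_reducible rfl | ((try simp only [map_add, map_mul, map_pow, map_zero, H.hs]) <;> ring1)
    ]
theorem s5_7 (a1 a2 b2 a3 a4 b4 a5 a6 b6 a7 t : K) : F.x1 a1 * F.x2 a2 b2 * F.x3 a3 * F.x4 a4 b4 * F.x5 a5 * F.x6 a6 b6 * F.x7 a7 * F.x5 t =
    F.E ⟨a1, a2, b2, a3, a4, b4, a5 + t, a6, b6, a7, 0, 0⟩ := by
  rw [mul_assoc (F.x1 a1 * F.x2 a2 b2 * F.x3 a3 * F.x4 a4 b4 * F.x5 a5 * F.x6 a6 b6) (F.x7 a7) (F.x5 t), H.w75]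
  simp only [← mul_assoc]
  rw [H.s5_6 a1 a2 b2 a3 a4 b4 a5 a6 b6 t]
  rw [show F.E ⟨a1, a2, b2, a3, a4, b4, a5 + t, a6, b6, 0, 0, 0⟩ *
      F.x7 a7 =
      F.E ⟨a1, a2, b2, a3, a4, b4, a5 + t, a6, b6, a7, 0, 0⟩ by
    rw [H.R7]
    refine congrArg F.E (Cd.ext ?_ ?_ ?_ ?_ ?_ ?_ ?_ ?_ ?_ ?_ ?_ ?_)
    · first | with_reducible rfl | ((try simp only [map_add, map_mul, map_pow, map_zero, H.hs]) <;> ring1)
    · first | with_reducible rfl | ((try simp only [map_add, map_mul, map_pow, map_zero, H.hs]) <;> ring1)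
    · first | with_reducible rfl | ((try simp only [map_add, map_mul, map_pow, map_zero, H.hs]) <;> ring1)
    · first | with_reducible rfl | ((try simp only [map_add, map_mul, map_pow, map_zero, H.hs]) <;> ring1)
    · first | with_reducible rfl | ((try simp only [map_add, map_mul, map_pow, map_zero, H.hs]) <;> ring1)
    · first | with_reducible rfl | ((try simp only [map_add, map_mul, map_pow, map_zero, H.hs]) <;> ring1)
    · first | with_reducible rfl | ((try simp only [map_add, map_mul, map_pow, map_zero, H.hs]) <;> ring1)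
    · first | with_reducible rfl | ((try simp only [map_add, map_mul, map_pow, map_zero, H.hs]) <;> ring1)
    · first | with_reducible rfl | ((try simp only [map_add, map_mul, map_pow, map_zero, H.hs]) <;> ring1)
    · first | with_reducible rfl | ((try simp only [map_add, map_mul, map_pow, map_zero, H.hs]) <;> ring1)
    · first | with_reducible rfl | ((try simp only [map_add, map_mul, map_pow, map_zero, H.hs]) <;> ring1)
    · first | with_reducible rfl | ((try simp only [map_add, map_mul, map_pow, map_zero, H.hs]) <;> ring1)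
    ]
theorem s5_8 (a1 a2 b2 a3 a4 b4 a5 a6 b6 a7 a8 b8 t : K) : F.x1 a1 * F.x2 a2 b2 * F.x3 a3 * F.x4 a4 b4 * F.x5 a5 * F.x6 a6 b6 * F.x7 a7 * F.x8 a8 b8 * F.x5 t =
    F.E ⟨a1, a2, b2, a3, a4, b4, a5 + t, a6, b6 + a8 * t, a7, a8, b8⟩ := by
  rw [mul_assoc (F.x1 a1 * F.x2 a2 b2 * F.x3 a3 * F.x4 a4 b4 * F.x5 a5 * F.x6 a6 b6 * F.x7 a7) (F.x8 a8 b8) (F.x5 t), H.w85]
  simp only [← mul_assoc]
  rw [H.s5_7 a1 a2 b2 a3 a4 b4 a5 a6 b6 a7 t]
  rw [show F.E ⟨a1, a2, b2, a3, a4, b4, a5 + t, a6, b6, a7, 0, 0⟩ *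
      F.x8 a8 b8 =
      F.E ⟨a1, a2, b2, a3, a4, b4, a5 + t, a6, b6, a7, a8, b8⟩ by
    rw [H.R8]
    refine congrArg F.E (Cd.ext ?_ ?_ ?_ ?_ ?_ ?_ ?_ ?_ ?_ ?_ ?_ ?_)
    · first | with_reducible rfl | ((try simp only [map_add, map_mul, map_pow, map_zero, H.hs]) <;> ring1)
    · first | with_reducible rfl | ((try simp only [map_add, map_mul, map_pow, map_zero, H.hs]) <;> ring1)
    · first | with_reducible rfl | ((try simp only [map_add, map_mul, map_pow, map_zero, H.hs]) <;> ring1)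
    · first | with_reducible rfl | ((try simp only [map_add, map_mul, map_pow, map_zero, H.hs]) <;> ring1)
    · first | with_reducible rfl | ((try simp only [map_add, map_mul, map_pow, map_zero, H.hs]) <;> ring1)
    · first | with_reducible rfl | ((try simp only [map_add, map_mul, map_pow, map_zero, H.hs]) <;> ring1)
    · first | with_reducible rfl | ((try simp only [map_add, map_mul, map_pow, map_zero, H.hs]) <;> ring1)
    · first | with_reducible rfl | ((try simp only [map_add, map_mul, map_pow, map_zero, H.hs]) <;> ring1)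
    · first | with_reducible rfl | ((try simp only [map_add, map_mul, map_pow, map_zero, H.hs]) <;> ring1)
    · first | with_reducible rfl | ((try simp only [map_add, map_mul, map_pow, map_zero, H.hs]) <;> ring1)
    · first | with_reducible rfl | ((try simp only [map_add, map_mul, map_pow, map_zero, H.hs]) <;> ring1)
    · first | with_reducible rfl | ((try simp only [map_add, map_mul, map_pow, map_zero, H.hs]) <;> ring1)
    ]
  rw [show F.E ⟨a1, a2, b2, a3, a4, b4, a5 + t, a6, b6, a7, a8, b8⟩ *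
      F.x6 (0) (a8 * t) =
      F.E ⟨a1, a2, b2, a3, a4, b4, a5 + t, a6, b6 + a8 * t, a7, a8, b8⟩ by
    rw [H.R6]
    refine congrArg F.E (Cd.ext ?_ ?_ ?_ ?_ ?_ ?_ ?_ ?_ ?_ ?_ ?_ ?_)
    · first | with_reducible rfl | ((try simp only [map_add, map_mul, map_pow, map_zero, H.hs]) <;> ring1)
    · first | with_reducible rfl | ((try simp only [map_add, map_mul, map_pow, map_zero, H.hs]) <;> ring1)
    · first | with_reducible rfl | ((try simp only [map_add, map_mul, map_pow, map_zero, H.hs]) <;> ring1)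
    · first | with_reducible rfl | ((try simp only [map_add, map_mul, map_pow, map_zero, H.hs]) <;> ring1)
    · first | with_reducible rfl | ((try simp only [map_add, map_mul, map_pow, map_zero, H.hs]) <;> ring1)
    · first | with_reducible rfl | ((try simp only [map_add, map_mul, map_pow, map_zero, H.hs]) <;> ring1)
    · first | with_reducible rfl | ((try simp only [map_add, map_mul, map_pow, map_zero, H.hs]) <;> ring1)
    · first | with_reducible rfl | ((try simp only [map_add, map_mul, map_pow, map_zero, H.hs]) <;> ring1)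
    · first | with_reducible rfl | ((try simp only [map_add, map_mul, map_pow, map_zero, H.hs]) <;> ring1)
    · first | with_reducible rfl | ((try simp only [map_add, map_mul, map_pow, map_zero, H.hs]) <;> ring1)
    · first | with_reducible rfl | ((try simp only [map_add, map_mul, map_pow, map_zero, H.hs]) <;> ring1)
    · first | with_reducible rfl | ((try simp only [map_add, map_mul, map_pow, map_zero, H.hs]) <;> ring1)
    ]
/-- right multiplication by a root element of `X5` -/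
theorem R5 (c : Cd K) (t : K) : F.E c * F.x5 t =
    F.E ⟨c.a1, c.a2, c.b2, c.a3, c.a4, c.b4, c.a5 + t, c.a6, c.b6 + c.a8 * t, c.a7, c.a8, c.b8⟩ :=
  H.s5_8 c.a1 c.a2 c.b2 c.a3 c.a4 c.b4 c.a5 c.a6 c.b6 c.a7 c.a8 c.b8 t

theorem s4_4 (a1 a2 b2 a3 a4 b4 p u : K) : F.x1 a1 * F.x2 a2 b2 * F.x3 a3 * F.x4 a4 b4 * F.x4 p u =
    F.E ⟨a1, a2, b2, a3, a4 + p, b4 + u + a4 * σ p, 0, 0, 0, 0, 0, 0⟩ := by
  rw [mul_assoc (F.x1 a1 * F.x2 a2 b2 * F.x3 a3) (F.x4 a4 b4) (F.x4 p u), H.rel.m4]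
  simp only [Fam.E, H.z1, H.z2, H.z3, H.z4, H.z5, H.z6, H.z7, H.z8, mul_one]
theorem s4_5 (a1 a2 b2 a3 a4 b4 a5 p u : K) : F.x1 a1 * F.x2 a2 b2 * F.x3 a3 * F.x4 a4 b4 * F.x5 a5 * F.x4 p u =
    F.E ⟨a1, a2, b2, a3, a4 + p, b4 + u + a4 * σ p, a5, 0, 0, 0, 0, 0⟩ := by
  rw [mul_assoc (F.x1 a1 * F.x2 a2 b2 * F.x3 a3 * F.x4 a4 b4) (F.x5 a5) (F.x4 p u), H.w54]
  simp only [← mul_assoc]
  rw [H.s4_4 a1 a2 b2 a3 a4 b4 p u]
  rw [show F.E ⟨a1, a2, b2, a3, a4 + p, b4 + u + a4 * σ p, 0, 0, 0, 0, 0, 0⟩ *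
      F.x5 a5 =
      F.E ⟨a1, a2, b2, a3, a4 + p, b4 + u + a4 * σ p, a5, 0, 0, 0, 0, 0⟩ by
    rw [H.R5]
    refine congrArg F.E (Cd.ext ?_ ?_ ?_ ?_ ?_ ?_ ?_ ?_ ?_ ?_ ?_ ?_)
    · first | with_reducible rfl | ((try simp only [map_add, map_mul, map_pow, map_zero, H.hs]) <;> ring1)
    · first | with_reducible rfl | ((try simp only [map_add, map_mul, map_pow, map_zero, H.hs]) <;> ring1)
    · first | with_reducible rfl | ((try simp only [map_add, map_mul, map_pow, map_zero, H.hs]) <;> ring1)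
    · first | with_reducible rfl | ((try simp only [map_add, map_mul, map_pow, map_zero, H.hs]) <;> ring1)
    · first | with_reducible rfl | ((try simp only [map_add, map_mul, map_pow, map_zero, H.hs]) <;> ring1)
    · first | with_reducible rfl | ((try simp only [map_add, map_mul, map_pow, map_zero, H.hs]) <;> ring1)
    · first | with_reducible rfl | ((try simp only [map_add, map_mul, map_pow, map_zero, H.hs]) <;> ring1)
    · first | with_reducible rfl | ((try simp only [map_add, map_mul, map_pow, map_zero, H.hs]) <;> ring1)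
    · first | with_reducible rfl | ((try simp only [map_add, map_mul, map_pow, map_zero, H.hs]) <;> ring1)
    · first | with_reducible rfl | ((try simp only [map_add, map_mul, map_pow, map_zero, H.hs]) <;> ring1)
    · first | with_reducible rfl | ((try simp only [map_add, map_mul, map_pow, map_zero, H.hs]) <;> ring1)
    · first | with_reducible rfl | ((try simp only [map_add, map_mul, map_pow, map_zero, H.hs]) <;> ring1)
    ]
theorem s4_6 (a1 a2 b2 a3 a4 b4 a5 a6 b6 p u : K) : F.x1 a1 * F.x2 a2 b2 * F.x3 a3 * F.x4 a4 b4 * F.x5 a5 * F.x6 a6 b6 * F.x4 p u =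
    F.E ⟨a1, a2, b2, a3, a4 + p, b4 + u + a4 * σ p, a5 + a6 * p, a6, b6, 0, 0, 0⟩ := by
  rw [mul_assoc (F.x1 a1 * F.x2 a2 b2 * F.x3 a3 * F.x4 a4 b4 * F.x5 a5) (F.x6 a6 b6) (F.x4 p u), H.w64]
  simp only [← mul_assoc]
  rw [H.s4_5 a1 a2 b2 a3 a4 b4 a5 p u]
  rw [show F.E ⟨a1, a2, b2, a3, a4 + p, b4 + u + a4 * σ p, a5, 0, 0, 0, 0, 0⟩ *
      F.x6 a6 b6 =
      F.E ⟨a1, a2, b2, a3, a4 + p, b4 + u + a4 * σ p, a5, a6, b6, 0, 0, 0⟩ by
    rw [H.R6]
    refine congrArg F.E (Cd.ext ?_ ?_ ?_ ?_ ?_ ?_ ?_ ?_ ?_ ?_ ?_ ?_)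
    · first | with_reducible rfl | ((try simp only [map_add, map_mul, map_pow, map_zero, H.hs]) <;> ring1)
    · first | with_reducible rfl | ((try simp only [map_add, map_mul, map_pow, map_zero, H.hs]) <;> ring1)
    · first | with_reducible rfl | ((try simp only [map_add, map_mul, map_pow, map_zero, H.hs]) <;> ring1)
    · first | with_reducible rfl | ((try simp only [map_add, map_mul, map_pow, map_zero, H.hs]) <;> ring1)
    · first | with_reducible rfl | ((try simp only [map_add, map_mul, map_pow, map_zero, H.hs]) <;> ring1)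
    · first | with_reducible rfl | ((try simp only [map_add, map_mul, map_pow, map_zero, H.hs]) <;> ring1)
    · first | with_reducible rfl | ((try simp only [map_add, map_mul, map_pow, map_zero, H.hs]) <;> ring1)
    · first | with_reducible rfl | ((try simp only [map_add, map_mul, map_pow, map_zero, H.hs]) <;> ring1)
    · first | with_reducible rfl | ((try simp only [map_add, map_mul, map_pow, map_zero, H.hs]) <;> ring1)
    · first | with_reducible rfl | ((try simp only [map_add, map_mul, map_pow, map_zero, H.hs]) <;> ring1)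
    · first | with_reducible rfl | ((try simp only [map_add, map_mul, map_pow, map_zero, H.hs]) <;> ring1)
    · first | with_reducible rfl | ((try simp only [map_add, map_mul, map_pow, map_zero, H.hs]) <;> ring1)
    ]
  rw [show F.E ⟨a1, a2, b2, a3, a4 + p, b4 + u + a4 * σ p, a5, a6, b6, 0, 0, 0⟩ *
      F.x5 (p * a6) =
      F.E ⟨a1, a2, b2, a3, a4 + p, b4 + u + a4 * σ p, a5 + a6 * p, a6, b6, 0, 0, 0⟩ by
    rw [H.R5]
    refine congrArg F.E (Cd.ext ?_ ?_ ?_ ?_ ?_ ?_ ?_ ?_ ?_ ?_ ?_ ?_)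
    · first | with_reducible rfl | ((try simp only [map_add, map_mul, map_pow, map_zero, H.hs]) <;> ring1)
    · first | with_reducible rfl | ((try simp only [map_add, map_mul, map_pow, map_zero, H.hs]) <;> ring1)
    · first | with_reducible rfl | ((try simp only [map_add, map_mul, map_pow, map_zero, H.hs]) <;> ring1)
    · first | with_reducible rfl | ((try simp only [map_add, map_mul, map_pow, map_zero, H.hs]) <;> ring1)
    · first | with_reducible rfl | ((try simp only [map_add, map_mul, map_pow, map_zero, H.hs]) <;> ring1)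
    · first | with_reducible rfl | ((try simp only [map_add, map_mul, map_pow, map_zero, H.hs]) <;> ring1)
    · first | with_reducible rfl | ((try simp only [map_add, map_mul, map_pow, map_zero, H.hs]) <;> ring1)
    · first | with_reducible rfl | ((try simp only [map_add, map_mul, map_pow, map_zero, H.hs]) <;> ring1)
    · first | with_reducible rfl | ((try simp only [map_add, map_mul, map_pow, map_zero, H.hs]) <;> ring1)
    · first | with_reducible rfl | ((try simp only [map_add, map_mul, map_pow, map_zero, H.hs]) <;> ring1)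
    · first | with_reducible rfl | ((try simp only [map_add, map_mul, map_pow, map_zero, H.hs]) <;> ring1)
    · first | with_reducible rfl | ((try simp only [map_add, map_mul, map_pow, map_zero, H.hs]) <;> ring1)
    ]
theorem s4_7 (a1 a2 b2 a3 a4 b4 a5 a6 b6 a7 p u : K) : F.x1 a1 * F.x2 a2 b2 * F.x3 a3 * F.x4 a4 b4 * F.x5 a5 * F.x6 a6 b6 * F.x7 a7 * F.x4 p u =
    F.E ⟨a1, a2, b2, a3, a4 + p, b4 + u + a4 * σ p, a5 + a6 * p, a6, b6 + a7 * p, a7, 0, 0⟩ := by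
  rw [mul_assoc (F.x1 a1 * F.x2 a2 b2 * F.x3 a3 * F.x4 a4 b4 * F.x5 a5 * F.x6 a6 b6) (F.x7 a7) (F.x4 p u), H.w74]
  simp only [← mul_assoc]
  rw [H.s4_6 a1 a2 b2 a3 a4 b4 a5 a6 b6 p u]
  rw [show F.E ⟨a1, a2, b2, a3, a4 + p, b4 + u + a4 * σ p, a5 + a6 * p, a6, b6, 0, 0, 0⟩ *
      F.x7 a7 =
      F.E ⟨a1, a2, b2, a3, a4 + p, b4 + u + a4 * σ p, a5 + a6 * p, a6, b6, a7, 0, 0⟩ by
    rw [H.R7]
    refine congrArg F.E (Cd.ext ?_ ?_ ?_ ?_ ?_ ?_ ?_ ?_ ?_ ?_ ?_ ?_)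
    · first | with_reducible rfl | ((try simp only [map_add, map_mul, map_pow, map_zero, H.hs]) <;> ring1)
    · first | with_reducible rfl | ((try simp only [map_add, map_mul, map_pow, map_zero, H.hs]) <;> ring1)
    · first | with_reducible rfl | ((try simp only [map_add, map_mul, map_pow, map_zero, H.hs]) <;> ring1)
    · first | with_reducible rfl | ((try simp only [map_add, map_mul, map_pow, map_zero, H.hs]) <;> ring1)
    · first | with_reducible rfl | ((try simp only [map_add, map_mul, map_pow, map_zero, H.hs]) <;> ring1)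
    · first | with_reducible rfl | ((try simp only [map_add, map_mul, map_pow, map_zero, H.hs]) <;> ring1)
    · first | with_reducible rfl | ((try simp only [map_add, map_mul, map_pow, map_zero, H.hs]) <;> ring1)
    · first | with_reducible rfl | ((try simp only [map_add, map_mul, map_pow, map_zero, H.hs]) <;> ring1)
    · first | with_reducible rfl | ((try simp only [map_add, map_mul, map_pow, map_zero, H.hs]) <;> ring1)
    · first | with_reducible rfl | ((try simp only [map_add, map_mul, map_pow, map_zero, H.hs]) <;> ring1)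
    · first | with_reducible rfl | ((try simp only [map_add, map_mul, map_pow, map_zero, H.hs]) <;> ring1)
    · first | with_reducible rfl | ((try simp only [map_add, map_mul, map_pow, map_zero, H.hs]) <;> ring1)
    ]
  rw [show F.E ⟨a1, a2, b2, a3, a4 + p, b4 + u + a4 * σ p, a5 + a6 * p, a6, b6, a7, 0, 0⟩ *
      F.x6 (0) (p * a7) =
      F.E ⟨a1, a2, b2, a3, a4 + p, b4 + u + a4 * σ p, a5 + a6 * p, a6, b6 + a7 * p, a7, 0, 0⟩ by
    rw [H.R6]
    refine congrArg F.E (Cd.ext ?_ ?_ ?_ ?_ ?_ ?_ ?_ ?_ ?_ ?_ ?_ ?_)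
    · first | with_reducible rfl | ((try simp only [map_add, map_mul, map_pow, map_zero, H.hs]) <;> ring1)
    · first | with_reducible rfl | ((try simp only [map_add, map_mul, map_pow, map_zero, H.hs]) <;> ring1)
    · first | with_reducible rfl | ((try simp only [map_add, map_mul, map_pow, map_zero, H.hs]) <;> ring1)
    · first | with_reducible rfl | ((try simp only [map_add, map_mul, map_pow, map_zero, H.hs]) <;> ring1)
    · first | with_reducible rfl | ((try simp only [map_add, map_mul, map_pow, map_zero, H.hs]) <;> ring1)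
    · first | with_reducible rfl | ((try simp only [map_add, map_mul, map_pow, map_zero, H.hs]) <;> ring1)
    · first | with_reducible rfl | ((try simp only [map_add, map_mul, map_pow, map_zero, H.hs]) <;> ring1)
    · first | with_reducible rfl | ((try simp only [map_add, map_mul, map_pow, map_zero, H.hs]) <;> ring1)
    · first | with_reducible rfl | ((try simp only [map_add, map_mul, map_pow, map_zero, H.hs]) <;> ring1)
    · first | with_reducible rfl | ((try simp only [map_add, map_mul, map_pow, map_zero, H.hs]) <;> ring1)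
    · first | with_reducible rfl | ((try simp only [map_add, map_mul, map_pow, map_zero, H.hs]) <;> ring1)
    · first | with_reducible rfl | ((try simp only [map_add, map_mul, map_pow, map_zero, H.hs]) <;> ring1)
    ]
theorem s4_8 (a1 a2 b2 a3 a4 b4 a5 a6 b6 a7 a8 b8 p u : K) : F.x1 a1 * F.x2 a2 b2 * F.x3 a3 * F.x4 a4 b4 * F.x5 a5 * F.x6 a6 b6 * F.x7 a7 * F.x8 a8 b8 * F.x4 p u =
    F.E ⟨a1, a2, b2, a3, a4 + p, b4 + u + a4 * σ p, a5 + a6 * p, a6, b6 + a7 * p, a7, a8, b8⟩ := by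
  rw [mul_assoc (F.x1 a1 * F.x2 a2 b2 * F.x3 a3 * F.x4 a4 b4 * F.x5 a5 * F.x6 a6 b6 * F.x7 a7) (F.x8 a8 b8) (F.x4 p u), H.w84]
  simp only [← mul_assoc]
  rw [H.s4_7 a1 a2 b2 a3 a4 b4 a5 a6 b6 a7 p u]
  rw [show F.E ⟨a1, a2, b2, a3, a4 + p, b4 + u + a4 * σ p, a5 + a6 * p, a6, b6 + a7 * p, a7, 0, 0⟩ *
      F.x8 a8 b8 =
      F.E ⟨a1, a2, b2, a3, a4 + p, b4 + u + a4 * σ p, a5 + a6 * p, a6, b6 + a7 * p, a7, a8, b8⟩ by
    rw [H.R8]
    refine congrArg F.E (Cd.ext ?_ ?_ ?_ ?_ ?_ ?_ ?_ ?_ ?_ ?_ ?_ ?_)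
    · first | with_reducible rfl | ((try simp only [map_add, map_mul, map_pow, map_zero, H.hs]) <;> ring1)
    · first | with_reducible rfl | ((try simp only [map_add, map_mul, map_pow, map_zero, H.hs]) <;> ring1)
    · first | with_reducible rfl | ((try simp only [map_add, map_mul, map_pow, map_zero, H.hs]) <;> ring1)
    · first | with_reducible rfl | ((try simp only [map_add, map_mul, map_pow, map_zero, H.hs]) <;> ring1)
    · first | with_reducible rfl | ((try simp only [map_add, map_mul, map_pow, map_zero, H.hs]) <;> ring1)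
    · first | with_reducible rfl | ((try simp only [map_add, map_mul, map_pow, map_zero, H.hs]) <;> ring1)
    · first | with_reducible rfl | ((try simp only [map_add, map_mul, map_pow, map_zero, H.hs]) <;> ring1)
    · first | with_reducible rfl | ((try simp only [map_add, map_mul, map_pow, map_zero, H.hs]) <;> ring1)
    · first | with_reducible rfl | ((try simp only [map_add, map_mul, map_pow, map_zero, H.hs]) <;> ring1)
    · first | with_reducible rfl | ((try simp only [map_add, map_mul, map_pow, map_zero, H.hs]) <;> ring1)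
    · first | with_reducible rfl | ((try simp only [map_add, map_mul, map_pow, map_zero, H.hs]) <;> ring1)
    · first | with_reducible rfl | ((try simp only [map_add, map_mul, map_pow, map_zero, H.hs]) <;> ring1)
    ]
/-- right multiplication by a root element of `X4` -/
theorem R4 (c : Cd K) (p u : K) : F.E c * F.x4 p u =
    F.E ⟨c.a1, c.a2, c.b2, c.a3, c.a4 + p, c.b4 + u + c.a4 * σ p, c.a5 + c.a6 * p, c.a6, c.b6 + c.a7 * p, c.a7, c.a8,
      c.b8⟩ :=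
  H.s4_8 c.a1 c.a2 c.b2 c.a3 c.a4 c.b4 c.a5 c.a6 c.b6 c.a7 c.a8 c.b8 p u

theorem s3_3 (a1 a2 b2 a3 t : K) : F.x1 a1 * F.x2 a2 b2 * F.x3 a3 * F.x3 t =
    F.E ⟨a1, a2, b2, a3 + t, 0, 0, 0, 0, 0, 0, 0, 0⟩ := by
  rw [mul_assoc (F.x1 a1 * F.x2 a2 b2) (F.x3 a3) (F.x3 t), H.rel.m3]
  simp only [Fam.E, H.z1, H.z2, H.z3, H.z4, H.z5, H.z6, H.z7, H.z8, mul_one]
theorem s3_4 (a1 a2 b2 a3 a4 b4 t : K) : F.x1 a1 * F.x2 a2 b2 * F.x3 a3 * F.x4 a4 b4 * F.x3 t =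
    F.E ⟨a1, a2, b2, a3 + t, a4, b4, 0, 0, 0, 0, 0, 0⟩ := by
  rw [mul_assoc (F.x1 a1 * F.x2 a2 b2 * F.x3 a3) (F.x4 a4 b4) (F.x3 t), H.w43]
  simp only [← mul_assoc]
  rw [H.s3_3 a1 a2 b2 a3 t]
  rw [show F.E ⟨a1, a2, b2, a3 + t, 0, 0, 0, 0, 0, 0, 0, 0⟩ *
      F.x4 a4 b4 =
      F.E ⟨a1, a2, b2, a3 + t, a4, b4, 0, 0, 0, 0, 0, 0⟩ by
    rw [H.R4]
    refine congrArg F.E (Cd.ext ?_ ?_ ?_ ?_ ?_ ?_ ?_ ?_ ?_ ?_ ?_ ?_)
    · first | with_reducible rfl | ((try simp only [map_add, map_mul, map_pow, map_zero, H.hs]) <;> ring1)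
    · first | with_reducible rfl | ((try simp only [map_add, map_mul, map_pow, map_zero, H.hs]) <;> ring1)
    · first | with_reducible rfl | ((try simp only [map_add, map_mul, map_pow, map_zero, H.hs]) <;> ring1)
    · first | with_reducible rfl | ((try simp only [map_add, map_mul, map_pow, map_zero, H.hs]) <;> ring1)
    · first | with_reducible rfl | ((try simp only [map_add, map_mul, map_pow, map_zero, H.hs]) <;> ring1)
    · first | with_reducible rfl | ((try simp only [map_add, map_mul, map_pow, map_zero, H.hs]) <;> ring1)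
    · first | with_reducible rfl | ((try simp only [map_add, map_mul, map_pow, map_zero, H.hs]) <;> ring1)
    · first | with_reducible rfl | ((try simp only [map_add, map_mul, map_pow, map_zero, H.hs]) <;> ring1)
    · first | with_reducible rfl | ((try simp only [map_add, map_mul, map_pow, map_zero, H.hs]) <;> ring1)
    · first | with_reducible rfl | ((try simp only [map_add, map_mul, map_pow, map_zero, H.hs]) <;> ring1)
    · first | with_reducible rfl | ((try simp only [map_add, map_mul, map_pow, map_zero, H.hs]) <;> ring1)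
    · first | with_reducible rfl | ((try simp only [map_add, map_mul, map_pow, map_zero, H.hs]) <;> ring1)
    ]
theorem s3_5 (a1 a2 b2 a3 a4 b4 a5 t : K) : F.x1 a1 * F.x2 a2 b2 * F.x3 a3 * F.x4 a4 b4 * F.x5 a5 * F.x3 t =
    F.E ⟨a1, a2, b2, a3 + t, a4, b4, a5, 0, 0, 0, 0, 0⟩ := by
  rw [mul_assoc (F.x1 a1 * F.x2 a2 b2 * F.x3 a3 * F.x4 a4 b4) (F.x5 a5) (F.x3 t), H.w53]
  simp only [← mul_assoc]
  rw [H.s3_4 a1 a2 b2 a3 a4 b4 t]
  rw [show F.E ⟨a1, a2, b2, a3 + t, a4, b4, 0, 0, 0, 0, 0, 0⟩ *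
      F.x5 a5 =
      F.E ⟨a1, a2, b2, a3 + t, a4, b4, a5, 0, 0, 0, 0, 0⟩ by
    rw [H.R5]
    refine congrArg F.E (Cd.ext ?_ ?_ ?_ ?_ ?_ ?_ ?_ ?_ ?_ ?_ ?_ ?_)
    · first | with_reducible rfl | ((try simp only [map_add, map_mul, map_pow, map_zero, H.hs]) <;> ring1)
    · first | with_reducible rfl | ((try simp only [map_add, map_mul, map_pow, map_zero, H.hs]) <;> ring1)
    · first | with_reducible rfl | ((try simp only [map_add, map_mul, map_pow, map_zero, H.hs]) <;> ring1)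
    · first | with_reducible rfl | ((try simp only [map_add, map_mul, map_pow, map_zero, H.hs]) <;> ring1)
    · first | with_reducible rfl | ((try simp only [map_add, map_mul, map_pow, map_zero, H.hs]) <;> ring1)
    · first | with_reducible rfl | ((try simp only [map_add, map_mul, map_pow, map_zero, H.hs]) <;> ring1)
    · first | with_reducible rfl | ((try simp only [map_add, map_mul, map_pow, map_zero, H.hs]) <;> ring1)
    · first | with_reducible rfl | ((try simp only [map_add, map_mul, map_pow, map_zero, H.hs]) <;> ring1)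
    · first | with_reducible rfl | ((try simp only [map_add, map_mul, map_pow, map_zero, H.hs]) <;> ring1)
    · first | with_reducible rfl | ((try simp only [map_add, map_mul, map_pow, map_zero, H.hs]) <;> ring1)
    · first | with_reducible rfl | ((try simp only [map_add, map_mul, map_pow, map_zero, H.hs]) <;> ring1)
    · first | with_reducible rfl | ((try simp only [map_add, map_mul, map_pow, map_zero, H.hs]) <;> ring1)
    ]
theorem s3_6 (a1 a2 b2 a3 a4 b4 a5 a6 b6 t : K) : F.x1 a1 * F.x2 a2 b2 * F.x3 a3 * F.x4 a4 b4 * F.x5 a5 * F.x6 a6 b6 * F.x3 t =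
    F.E ⟨a1, a2, b2, a3 + t, a4, b4 + a6 * t, a5, a6, b6, 0, 0, 0⟩ := by
  rw [mul_assoc (F.x1 a1 * F.x2 a2 b2 * F.x3 a3 * F.x4 a4 b4 * F.x5 a5) (F.x6 a6 b6) (F.x3 t), H.w63]
  simp only [← mul_assoc]
  rw [H.s3_5 a1 a2 b2 a3 a4 b4 a5 t]
  rw [show F.E ⟨a1, a2, b2, a3 + t, a4, b4, a5, 0, 0, 0, 0, 0⟩ *
      F.x6 a6 b6 =
      F.E ⟨a1, a2, b2, a3 + t, a4, b4, a5, a6, b6, 0, 0, 0⟩ by
    rw [H.R6]
    refine congrArg F.E (Cd.ext ?_ ?_ ?_ ?_ ?_ ?_ ?_ ?_ ?_ ?_ ?_ ?_)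
    · first | with_reducible rfl | ((try simp only [map_add, map_mul, map_pow, map_zero, H.hs]) <;> ring1)
    · first | with_reducible rfl | ((try simp only [map_add, map_mul, map_pow, map_zero, H.hs]) <;> ring1)
    · first | with_reducible rfl | ((try simp only [map_add, map_mul, map_pow, map_zero, H.hs]) <;> ring1)
    · first | with_reducible rfl | ((try simp only [map_add, map_mul, map_pow, map_zero, H.hs]) <;> ring1)
    · first | with_reducible rfl | ((try simp only [map_add, map_mul, map_pow, map_zero, H.hs]) <;> ring1)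
    · first | with_reducible rfl | ((try simp only [map_add, map_mul, map_pow, map_zero, H.hs]) <;> ring1)
    · first | with_reducible rfl | ((try simp only [map_add, map_mul, map_pow, map_zero, H.hs]) <;> ring1)
    · first | with_reducible rfl | ((try simp only [map_add, map_mul, map_pow, map_zero, H.hs]) <;> ring1)
    · first | with_reducible rfl | ((try simp only [map_add, map_mul, map_pow, map_zero, H.hs]) <;> ring1)
    · first | with_reducible rfl | ((try simp only [map_add, map_mul, map_pow, map_zero, H.hs]) <;> ring1)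
    · first | with_reducible rfl | ((try simp only [map_add, map_mul, map_pow, map_zero, H.hs]) <;> ring1)
    · first | with_reducible rfl | ((try simp only [map_add, map_mul, map_pow, map_zero, H.hs]) <;> ring1)
    ]
  rw [show F.E ⟨a1, a2, b2, a3 + t, a4, b4, a5, a6, b6, 0, 0, 0⟩ *
      F.x4 (0) (a6 * t) =
      F.E ⟨a1, a2, b2, a3 + t, a4, b4 + a6 * t, a5, a6, b6, 0, 0, 0⟩ by
    rw [H.R4]
    refine congrArg F.E (Cd.ext ?_ ?_ ?_ ?_ ?_ ?_ ?_ ?_ ?_ ?_ ?_ ?_)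
    · first | with_reducible rfl | ((try simp only [map_add, map_mul, map_pow, map_zero, H.hs]) <;> ring1)
    · first | with_reducible rfl | ((try simp only [map_add, map_mul, map_pow, map_zero, H.hs]) <;> ring1)
    · first | with_reducible rfl | ((try simp only [map_add, map_mul, map_pow, map_zero, H.hs]) <;> ring1)
    · first | with_reducible rfl | ((try simp only [map_add, map_mul, map_pow, map_zero, H.hs]) <;> ring1)
    · first | with_reducible rfl | ((try simp only [map_add, map_mul, map_pow, map_zero, H.hs]) <;> ring1)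
    · first | with_reducible rfl | ((try simp only [map_add, map_mul, map_pow, map_zero, H.hs]) <;> ring1)
    · first | with_reducible rfl | ((try simp only [map_add, map_mul, map_pow, map_zero, H.hs]) <;> ring1)
    · first | with_reducible rfl | ((try simp only [map_add, map_mul, map_pow, map_zero, H.hs]) <;> ring1)
    · first | with_reducible rfl | ((try simp only [map_add, map_mul, map_pow, map_zero, H.hs]) <;> ring1)
    · first | with_reducible rfl | ((try simp only [map_add, map_mul, map_pow, map_zero, H.hs]) <;> ring1)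
    · first | with_reducible rfl | ((try simp only [map_add, map_mul, map_pow, map_zero, H.hs]) <;> ring1)
    · first | with_reducible rfl | ((try simp only [map_add, map_mul, map_pow, map_zero, H.hs]) <;> ring1)
    ]
theorem s3_7 (a1 a2 b2 a3 a4 b4 a5 a6 b6 a7 t : K) : F.x1 a1 * F.x2 a2 b2 * F.x3 a3 * F.x4 a4 b4 * F.x5 a5 * F.x6 a6 b6 * F.x7 a7 * F.x3 t =
    F.E ⟨a1, a2, b2, a3 + t, a4, b4 + a6 * t, a5, a6, b6, a7, 0, 0⟩ := by
  rw [mul_assoc (F.x1 a1 * F.x2 a2 b2 * F.x3 a3 * F.x4 a4 b4 * F.x5 a5 * F.x6 a6 b6) (F.x7 a7) (F.x3 t), H.w73]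
  simp only [← mul_assoc]
  rw [H.s3_6 a1 a2 b2 a3 a4 b4 a5 a6 b6 t]
  rw [show F.E ⟨a1, a2, b2, a3 + t, a4, b4 + a6 * t, a5, a6, b6, 0, 0, 0⟩ *
      F.x7 a7 =
      F.E ⟨a1, a2, b2, a3 + t, a4, b4 + a6 * t, a5, a6, b6, a7, 0, 0⟩ by
    rw [H.R7]
    refine congrArg F.E (Cd.ext ?_ ?_ ?_ ?_ ?_ ?_ ?_ ?_ ?_ ?_ ?_ ?_)
    · first | with_reducible rfl | ((try simp only [map_add, map_mul, map_pow, map_zero, H.hs]) <;> ring1)
    · first | with_reducible rfl | ((try simp only [map_add, map_mul, map_pow, map_zero, H.hs]) <;> ring1)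
    · first | with_reducible rfl | ((try simp only [map_add, map_mul, map_pow, map_zero, H.hs]) <;> ring1)
    · first | with_reducible rfl | ((try simp only [map_add, map_mul, map_pow, map_zero, H.hs]) <;> ring1)
    · first | with_reducible rfl | ((try simp only [map_add, map_mul, map_pow, map_zero, H.hs]) <;> ring1)
    · first | with_reducible rfl | ((try simp only [map_add, map_mul, map_pow, map_zero, H.hs]) <;> ring1)
    · first | with_reducible rfl | ((try simp only [map_add, map_mul, map_pow, map_zero, H.hs]) <;> ring1)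
    · first | with_reducible rfl | ((try simp only [map_add, map_mul, map_pow, map_zero, H.hs]) <;> ring1)
    · first | with_reducible rfl | ((try simp only [map_add, map_mul, map_pow, map_zero, H.hs]) <;> ring1)
    · first | with_reducible rfl | ((try simp only [map_add, map_mul, map_pow, map_zero, H.hs]) <;> ring1)
    · first | with_reducible rfl | ((try simp only [map_add, map_mul, map_pow, map_zero, H.hs]) <;> ring1)
    · first | with_reducible rfl | ((try simp only [map_add, map_mul, map_pow, map_zero, H.hs]) <;> ring1)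
    ]
theorem s3_8 (a1 a2 b2 a3 a4 b4 a5 a6 b6 a7 a8 b8 t : K) : F.x1 a1 * F.x2 a2 b2 * F.x3 a3 * F.x4 a4 b4 * F.x5 a5 * F.x6 a6 b6 * F.x7 a7 * F.x8 a8 b8 * F.x3 t =
    F.E ⟨a1, a2, b2, a3 + t, a4, b4 + a6 * t + a8 * σ t, a5 + σ a8 * t, a6, b6 + b8 * t, a7, a8, b8⟩ := by
  rw [mul_assoc (F.x1 a1 * F.x2 a2 b2 * F.x3 a3 * F.x4 a4 b4 * F.x5 a5 * F.x6 a6 b6 * F.x7 a7) (F.x8 a8 b8) (F.x3 t), H.w83]
  simp only [← mul_assoc]
  rw [H.s3_7 a1 a2 b2 a3 a4 b4 a5 a6 b6 a7 t]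
  rw [show F.E ⟨a1, a2, b2, a3 + t, a4, b4 + a6 * t, a5, a6, b6, a7, 0, 0⟩ *
      F.x8 a8 b8 =
      F.E ⟨a1, a2, b2, a3 + t, a4, b4 + a6 * t, a5, a6, b6, a7, a8, b8⟩ by
    rw [H.R8]
    refine congrArg F.E (Cd.ext ?_ ?_ ?_ ?_ ?_ ?_ ?_ ?_ ?_ ?_ ?_ ?_)
    · first | with_reducible rfl | ((try simp only [map_add, map_mul, map_pow, map_zero, H.hs]) <;> ring1)
    · first | with_reducible rfl | ((try simp only [map_add, map_mul, map_pow, map_zero, H.hs]) <;> ring1)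
    · first | with_reducible rfl | ((try simp only [map_add, map_mul, map_pow, map_zero, H.hs]) <;> ring1)
    · first | with_reducible rfl | ((try simp only [map_add, map_mul, map_pow, map_zero, H.hs]) <;> ring1)
    · first | with_reducible rfl | ((try simp only [map_add, map_mul, map_pow, map_zero, H.hs]) <;> ring1)
    · first | with_reducible rfl | ((try simp only [map_add, map_mul, map_pow, map_zero, H.hs]) <;> ring1)
    · first | with_reducible rfl | ((try simp only [map_add, map_mul, map_pow, map_zero, H.hs]) <;> ring1)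
    · first | with_reducible rfl | ((try simp only [map_add, map_mul, map_pow, map_zero, H.hs]) <;> ring1)
    · first | with_reducible rfl | ((try simp only [map_add, map_mul, map_pow, map_zero, H.hs]) <;> ring1)
    · first | with_reducible rfl | ((try simp only [map_add, map_mul, map_pow, map_zero, H.hs]) <;> ring1)
    · first | with_reducible rfl | ((try simp only [map_add, map_mul, map_pow, map_zero, H.hs]) <;> ring1)
    · first | with_reducible rfl | ((try simp only [map_add, map_mul, map_pow, map_zero, H.hs]) <;> ring1)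
    ]
  rw [show F.E ⟨a1, a2, b2, a3 + t, a4, b4 + a6 * t, a5, a6, b6, a7, a8, b8⟩ *
      F.x6 (0) (t * b8 + a8 * σ a8 * t) =
      F.E ⟨a1, a2, b2, a3 + t, a4, b4 + a6 * t, a5, a6, b6 + b8 * t + a8 * σ a8 * t, a7, a8, b8⟩ by
    rw [H.R6]
    refine congrArg F.E (Cd.ext ?_ ?_ ?_ ?_ ?_ ?_ ?_ ?_ ?_ ?_ ?_ ?_)
    · first | with_reducible rfl | ((try simp only [map_add, map_mul, map_pow, map_zero, H.hs]) <;> ring1)
    · first | with_reducible rfl | ((try simp only [map_add, map_mul, map_pow, map_zero, H.hs]) <;> ring1)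
    · first | with_reducible rfl | ((try simp only [map_add, map_mul, map_pow, map_zero, H.hs]) <;> ring1)
    · first | with_reducible rfl | ((try simp only [map_add, map_mul, map_pow, map_zero, H.hs]) <;> ring1)
    · first | with_reducible rfl | ((try simp only [map_add, map_mul, map_pow, map_zero, H.hs]) <;> ring1)
    · first | with_reducible rfl | ((try simp only [map_add, map_mul, map_pow, map_zero, H.hs]) <;> ring1)
    · first | with_reducible rfl | ((try simp only [map_add, map_mul, map_pow, map_zero, H.hs]) <;> ring1)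
    · first | with_reducible rfl | ((try simp only [map_add, map_mul, map_pow, map_zero, H.hs]) <;> ring1)
    · first | with_reducible rfl | ((try simp only [map_add, map_mul, map_pow, map_zero, H.hs]) <;> ring1)
    · first | with_reducible rfl | ((try simp only [map_add, map_mul, map_pow, map_zero, H.hs]) <;> ring1)
    · first | with_reducible rfl | ((try simp only [map_add, map_mul, map_pow, map_zero, H.hs]) <;> ring1)
    · first | with_reducible rfl | ((try simp only [map_add, map_mul, map_pow, map_zero, H.hs]) <;> ring1)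
    ]
  rw [show F.E ⟨a1, a2, b2, a3 + t, a4, b4 + a6 * t, a5, a6, b6 + b8 * t + a8 * σ a8 * t, a7, a8, b8⟩ *
      F.x5 (σ a8 * t) =
      F.E ⟨a1, a2, b2, a3 + t, a4, b4 + a6 * t, a5 + σ a8 * t, a6, b6 + b8 * t, a7, a8, b8⟩ by
    rw [H.R5]
    refine congrArg F.E (Cd.ext ?_ ?_ ?_ ?_ ?_ ?_ ?_ ?_ ?_ ?_ ?_ ?_)
    · first | with_reducible rfl | ((try simp only [map_add, map_mul, map_pow, map_zero, H.hs]) <;> ring1)
    · first | with_reducible rfl | ((try simp only [map_add, map_mul, map_pow, map_zero, H.hs]) <;> ring1)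
    · first | with_reducible rfl | ((try simp only [map_add, map_mul, map_pow, map_zero, H.hs]) <;> ring1)
    · first | with_reducible rfl | ((try simp only [map_add, map_mul, map_pow, map_zero, H.hs]) <;> ring1)
    · first | with_reducible rfl | ((try simp only [map_add, map_mul, map_pow, map_zero, H.hs]) <;> ring1)
    · first | with_reducible rfl | ((try simp only [map_add, map_mul, map_pow, map_zero, H.hs]) <;> ring1)
    · first | with_reducible rfl | ((try simp only [map_add, map_mul, map_pow, map_zero, H.hs]) <;> ring1)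
    · first | with_reducible rfl | ((try simp only [map_add, map_mul, map_pow, map_zero, H.hs]) <;> ring1)
    · try simp only [map_add, map_mul, map_pow, map_zero, H.hs]
      linear_combination (a8 * σ a8 * t) * H.h2
    · first | with_reducible rfl | ((try simp only [map_add, map_mul, map_pow, map_zero, H.hs]) <;> ring1)
    · first | with_reducible rfl | ((try simp only [map_add, map_mul, map_pow, map_zero, H.hs]) <;> ring1)
    · first | with_reducible rfl | ((try simp only [map_add, map_mul, map_pow, map_zero, H.hs]) <;> ring1)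
    ]
  rw [show F.E ⟨a1, a2, b2, a3 + t, a4, b4 + a6 * t, a5 + σ a8 * t, a6, b6 + b8 * t, a7, a8, b8⟩ *
      F.x4 (0) (a8 * σ t) =
      F.E ⟨a1, a2, b2, a3 + t, a4, b4 + a6 * t + a8 * σ t, a5 + σ a8 * t, a6, b6 + b8 * t, a7, a8, b8⟩ by
    rw [H.R4]
    refine congrArg F.E (Cd.ext ?_ ?_ ?_ ?_ ?_ ?_ ?_ ?_ ?_ ?_ ?_ ?_)
    · first | with_reducible rfl | ((try simp only [map_add, map_mul, map_pow, map_zero, H.hs]) <;> ring1)
    · first | with_reducible rfl | ((try simp only [map_add, map_mul, map_pow, map_zero, H.hs]) <;> ring1)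
    · first | with_reducible rfl | ((try simp only [map_add, map_mul, map_pow, map_zero, H.hs]) <;> ring1)
    · first | with_reducible rfl | ((try simp only [map_add, map_mul, map_pow, map_zero, H.hs]) <;> ring1)
    · first | with_reducible rfl | ((try simp only [map_add, map_mul, map_pow, map_zero, H.hs]) <;> ring1)
    · first | with_reducible rfl | ((try simp only [map_add, map_mul, map_pow, map_zero, H.hs]) <;> ring1)
    · first | with_reducible rfl | ((try simp only [map_add, map_mul, map_pow, map_zero, H.hs]) <;> ring1)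
    · first | with_reducible rfl | ((try simp only [map_add, map_mul, map_pow, map_zero, H.hs]) <;> ring1)
    · first | with_reducible rfl | ((try simp only [map_add, map_mul, map_pow, map_zero, H.hs]) <;> ring1)
    · first | with_reducible rfl | ((try simp only [map_add, map_mul, map_pow, map_zero, H.hs]) <;> ring1)
    · first | with_reducible rfl | ((try simp only [map_add, map_mul, map_pow, map_zero, H.hs]) <;> ring1)
    · first | with_reducible rfl | ((try simp only [map_add, map_mul, map_pow, map_zero, H.hs]) <;> ring1)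
    ]
/-- right multiplication by a root element of `X3` -/
theorem R3 (c : Cd K) (t : K) : F.E c * F.x3 t =
    F.E ⟨c.a1, c.a2, c.b2, c.a3 + t, c.a4, c.b4 + c.a6 * t + c.a8 * σ t, c.a5 + σ c.a8 * t, c.a6, c.b6 + c.b8 * t,
      c.a7, c.a8, c.b8⟩ :=
  H.s3_8 c.a1 c.a2 c.b2 c.a3 c.a4 c.b4 c.a5 c.a6 c.b6 c.a7 c.a8 c.b8 t

theorem s2_2 (a1 a2 b2 p u : K) : F.x1 a1 * F.x2 a2 b2 * F.x2 p u =
    F.E ⟨a1, a2 + p, b2 + u + a2 * σ p, 0, 0, 0, 0, 0, 0, 0, 0, 0⟩ := by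
  rw [mul_assoc (F.x1 a1) (F.x2 a2 b2) (F.x2 p u), H.rel.m2]
  simp only [Fam.E, H.z1, H.z2, H.z3, H.z4, H.z5, H.z6, H.z7, H.z8, mul_one]
theorem s2_3 (a1 a2 b2 a3 p u : K) : F.x1 a1 * F.x2 a2 b2 * F.x3 a3 * F.x2 p u =
    F.E ⟨a1, a2 + p, b2 + u + a2 * σ p, a3, 0, 0, 0, 0, 0, 0, 0, 0⟩ := by
  rw [mul_assoc (F.x1 a1 * F.x2 a2 b2) (F.x3 a3) (F.x2 p u), H.w32]
  simp only [← mul_assoc]
  rw [H.s2_2 a1 a2 b2 p u]
  rw [show F.E ⟨a1, a2 + p, b2 + u + a2 * σ p, 0, 0, 0, 0, 0, 0, 0, 0, 0⟩ *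
      F.x3 a3 =
      F.E ⟨a1, a2 + p, b2 + u + a2 * σ p, a3, 0, 0, 0, 0, 0, 0, 0, 0⟩ by
    rw [H.R3]
    refine congrArg F.E (Cd.ext ?_ ?_ ?_ ?_ ?_ ?_ ?_ ?_ ?_ ?_ ?_ ?_)
    · first | with_reducible rfl | ((try simp only [map_add, map_mul, map_pow, map_zero, H.hs]) <;> ring1)
    · first | with_reducible rfl | ((try simp only [map_add, map_mul, map_pow, map_zero, H.hs]) <;> ring1)
    · first | with_reducible rfl | ((try simp only [map_add, map_mul, map_pow, map_zero, H.hs]) <;> ring1)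
    · first | with_reducible rfl | ((try simp only [map_add, map_mul, map_pow, map_zero, H.hs]) <;> ring1)
    · first | with_reducible rfl | ((try simp only [map_add, map_mul, map_pow, map_zero, H.hs]) <;> ring1)
    · first | with_reducible rfl | ((try simp only [map_add, map_mul, map_pow, map_zero, H.hs]) <;> ring1)
    · first | with_reducible rfl | ((try simp only [map_add, map_mul, map_pow, map_zero, H.hs]) <;> ring1)
    · first | with_reducible rfl | ((try simp only [map_add, map_mul, map_pow, map_zero, H.hs]) <;> ring1)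
    · first | with_reducible rfl | ((try simp only [map_add, map_mul, map_pow, map_zero, H.hs]) <;> ring1)
    · first | with_reducible rfl | ((try simp only [map_add, map_mul, map_pow, map_zero, H.hs]) <;> ring1)
    · first | with_reducible rfl | ((try simp only [map_add, map_mul, map_pow, map_zero, H.hs]) <;> ring1)
    · first | with_reducible rfl | ((try simp only [map_add, map_mul, map_pow, map_zero, H.hs]) <;> ring1)
    ]
theorem s2_4 (a1 a2 b2 a3 a4 b4 p u : K) : F.x1 a1 * F.x2 a2 b2 * F.x3 a3 * F.x4 a4 b4 * F.x2 p u =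
    F.E ⟨a1, a2 + p, b2 + u + a2 * σ p, a3 + a4 * p, a4, b4, 0, 0, 0, 0, 0, 0⟩ := by
  rw [mul_assoc (F.x1 a1 * F.x2 a2 b2 * F.x3 a3) (F.x4 a4 b4) (F.x2 p u), H.w42]
  simp only [← mul_assoc]
  rw [H.s2_3 a1 a2 b2 a3 p u]
  rw [show F.E ⟨a1, a2 + p, b2 + u + a2 * σ p, a3, 0, 0, 0, 0, 0, 0, 0, 0⟩ *
      F.x4 a4 b4 =
      F.E ⟨a1, a2 + p, b2 + u + a2 * σ p, a3, a4, b4, 0, 0, 0, 0, 0, 0⟩ by
    rw [H.R4]
    refine congrArg F.E (Cd.ext ?_ ?_ ?_ ?_ ?_ ?_ ?_ ?_ ?_ ?_ ?_ ?_)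
    · first | with_reducible rfl | ((try simp only [map_add, map_mul, map_pow, map_zero, H.hs]) <;> ring1)
    · first | with_reducible rfl | ((try simp only [map_add, map_mul, map_pow, map_zero, H.hs]) <;> ring1)
    · first | with_reducible rfl | ((try simp only [map_add, map_mul, map_pow, map_zero, H.hs]) <;> ring1)
    · first | with_reducible rfl | ((try simp only [map_add, map_mul, map_pow, map_zero, H.hs]) <;> ring1)
    · first | with_reducible rfl | ((try simp only [map_add, map_mul, map_pow, map_zero, H.hs]) <;> ring1)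
    · first | with_reducible rfl | ((try simp only [map_add, map_mul, map_pow, map_zero, H.hs]) <;> ring1)
    · first | with_reducible rfl | ((try simp only [map_add, map_mul, map_pow, map_zero, H.hs]) <;> ring1)
    · first | with_reducible rfl | ((try simp only [map_add, map_mul, map_pow, map_zero, H.hs]) <;> ring1)
    · first | with_reducible rfl | ((try simp only [map_add, map_mul, map_pow, map_zero, H.hs]) <;> ring1)
    · first | with_reducible rfl | ((try simp only [map_add, map_mul, map_pow, map_zero, H.hs]) <;> ring1)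
    · first | with_reducible rfl | ((try simp only [map_add, map_mul, map_pow, map_zero, H.hs]) <;> ring1)
    · first | with_reducible rfl | ((try simp only [map_add, map_mul, map_pow, map_zero, H.hs]) <;> ring1)
    ]
  rw [show F.E ⟨a1, a2 + p, b2 + u + a2 * σ p, a3, a4, b4, 0, 0, 0, 0, 0, 0⟩ *
      F.x3 (p * a4) =
      F.E ⟨a1, a2 + p, b2 + u + a2 * σ p, a3 + a4 * p, a4, b4, 0, 0, 0, 0, 0, 0⟩ by
    rw [H.R3]
    refine congrArg F.E (Cd.ext ?_ ?_ ?_ ?_ ?_ ?_ ?_ ?_ ?_ ?_ ?_ ?_)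
    · first | with_reducible rfl | ((try simp only [map_add, map_mul, map_pow, map_zero, H.hs]) <;> ring1)
    · first | with_reducible rfl | ((try simp only [map_add, map_mul, map_pow, map_zero, H.hs]) <;> ring1)
    · first | with_reducible rfl | ((try simp only [map_add, map_mul, map_pow, map_zero, H.hs]) <;> ring1)
    · first | with_reducible rfl | ((try simp only [map_add, map_mul, map_pow, map_zero, H.hs]) <;> ring1)
    · first | with_reducible rfl | ((try simp only [map_add, map_mul, map_pow, map_zero, H.hs]) <;> ring1)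
    · first | with_reducible rfl | ((try simp only [map_add, map_mul, map_pow, map_zero, H.hs]) <;> ring1)
    · first | with_reducible rfl | ((try simp only [map_add, map_mul, map_pow, map_zero, H.hs]) <;> ring1)
    · first | with_reducible rfl | ((try simp only [map_add, map_mul, map_pow, map_zero, H.hs]) <;> ring1)
    · first | with_reducible rfl | ((try simp only [map_add, map_mul, map_pow, map_zero, H.hs]) <;> ring1)
    · first | with_reducible rfl | ((try simp only [map_add, map_mul, map_pow, map_zero, H.hs]) <;> ring1)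
    · first | with_reducible rfl | ((try simp only [map_add, map_mul, map_pow, map_zero, H.hs]) <;> ring1)
    · first | with_reducible rfl | ((try simp only [map_add, map_mul, map_pow, map_zero, H.hs]) <;> ring1)
    ]
theorem s2_5 (a1 a2 b2 a3 a4 b4 a5 p u : K) : F.x1 a1 * F.x2 a2 b2 * F.x3 a3 * F.x4 a4 b4 * F.x5 a5 * F.x2 p u =
    F.E ⟨a1, a2 + p, b2 + u + a2 * σ p, a3 + a4 * p, a4, b4 + a5 * p, a5, 0, 0, 0, 0, 0⟩ := by
  rw [mul_assoc (F.x1 a1 * F.x2 a2 b2 * F.x3 a3 * F.x4 a4 b4) (F.x5 a5) (F.x2 p u), H.w52]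
  simp only [← mul_assoc]
  rw [H.s2_4 a1 a2 b2 a3 a4 b4 p u]
  rw [show F.E ⟨a1, a2 + p, b2 + u + a2 * σ p, a3 + a4 * p, a4, b4, 0, 0, 0, 0, 0, 0⟩ *
      F.x5 a5 =
      F.E ⟨a1, a2 + p, b2 + u + a2 * σ p, a3 + a4 * p, a4, b4, a5, 0, 0, 0, 0, 0⟩ by
    rw [H.R5]
    refine congrArg F.E (Cd.ext ?_ ?_ ?_ ?_ ?_ ?_ ?_ ?_ ?_ ?_ ?_ ?_)
    · first | with_reducible rfl | ((try simp only [map_add, map_mul, map_pow, map_zero, H.hs]) <;> ring1)
    · first | with_reducible rfl | ((try simp only [map_add, map_mul, map_pow, map_zero, H.hs]) <;> ring1)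
    · first | with_reducible rfl | ((try simp only [map_add, map_mul, map_pow, map_zero, H.hs]) <;> ring1)
    · first | with_reducible rfl | ((try simp only [map_add, map_mul, map_pow, map_zero, H.hs]) <;> ring1)
    · first | with_reducible rfl | ((try simp only [map_add, map_mul, map_pow, map_zero, H.hs]) <;> ring1)
    · first | with_reducible rfl | ((try simp only [map_add, map_mul, map_pow, map_zero, H.hs]) <;> ring1)
    · first | with_reducible rfl | ((try simp only [map_add, map_mul, map_pow, map_zero, H.hs]) <;> ring1)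
    · first | with_reducible rfl | ((try simp only [map_add, map_mul, map_pow, map_zero, H.hs]) <;> ring1)
    · first | with_reducible rfl | ((try simp only [map_add, map_mul, map_pow, map_zero, H.hs]) <;> ring1)
    · first | with_reducible rfl | ((try simp only [map_add, map_mul, map_pow, map_zero, H.hs]) <;> ring1)
    · first | with_reducible rfl | ((try simp only [map_add, map_mul, map_pow, map_zero, H.hs]) <;> ring1)
    · first | with_reducible rfl | ((try simp only [map_add, map_mul, map_pow, map_zero, H.hs]) <;> ring1)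
    ]
  rw [show F.E ⟨a1, a2 + p, b2 + u + a2 * σ p, a3 + a4 * p, a4, b4, a5, 0, 0, 0, 0, 0⟩ *
      F.x4 (0) (p * a5) =
      F.E ⟨a1, a2 + p, b2 + u + a2 * σ p, a3 + a4 * p, a4, b4 + a5 * p, a5, 0, 0, 0, 0, 0⟩ by
    rw [H.R4]
    refine congrArg F.E (Cd.ext ?_ ?_ ?_ ?_ ?_ ?_ ?_ ?_ ?_ ?_ ?_ ?_)
    · first | with_reducible rfl | ((try simp only [map_add, map_mul, map_pow, map_zero, H.hs]) <;> ring1)
    · first | with_reducible rfl | ((try simp only [map_add, map_mul, map_pow, map_zero, H.hs]) <;> ring1)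
    · first | with_reducible rfl | ((try simp only [map_add, map_mul, map_pow, map_zero, H.hs]) <;> ring1)
    · first | with_reducible rfl | ((try simp only [map_add, map_mul, map_pow, map_zero, H.hs]) <;> ring1)
    · first | with_reducible rfl | ((try simp only [map_add, map_mul, map_pow, map_zero, H.hs]) <;> ring1)
    · first | with_reducible rfl | ((try simp only [map_add, map_mul, map_pow, map_zero, H.hs]) <;> ring1)
    · first | with_reducible rfl | ((try simp only [map_add, map_mul, map_pow, map_zero, H.hs]) <;> ring1)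
    · first | with_reducible rfl | ((try simp only [map_add, map_mul, map_pow, map_zero, H.hs]) <;> ring1)
    · first | with_reducible rfl | ((try simp only [map_add, map_mul, map_pow, map_zero, H.hs]) <;> ring1)
    · first | with_reducible rfl | ((try simp only [map_add, map_mul, map_pow, map_zero, H.hs]) <;> ring1)
    · first | with_reducible rfl | ((try simp only [map_add, map_mul, map_pow, map_zero, H.hs]) <;> ring1)
    · first | with_reducible rfl | ((try simp only [map_add, map_mul, map_pow, map_zero, H.hs]) <;> ring1)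
    ]
theorem s2_6 (a1 a2 b2 a3 a4 b4 a5 a6 b6 p u : K) : F.x1 a1 * F.x2 a2 b2 * F.x3 a3 * F.x4 a4 b4 * F.x5 a5 * F.x6 a6 b6 * F.x2 p u =
    F.E ⟨a1, a2 + p, b2 + u + a2 * σ p, a3 + a4 * p, a4, b4 + a5 * p, a5, a6, b6, 0, 0, 0⟩ := by
  rw [mul_assoc (F.x1 a1 * F.x2 a2 b2 * F.x3 a3 * F.x4 a4 b4 * F.x5 a5) (F.x6 a6 b6) (F.x2 p u), H.w62]
  simp only [← mul_assoc]
  rw [H.s2_5 a1 a2 b2 a3 a4 b4 a5 p u]
  rw [show F.E ⟨a1, a2 + p, b2 + u + a2 * σ p, a3 + a4 * p, a4, b4 + a5 * p, a5, 0, 0, 0, 0, 0⟩ *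
      F.x6 a6 b6 =
      F.E ⟨a1, a2 + p, b2 + u + a2 * σ p, a3 + a4 * p, a4, b4 + a5 * p, a5, a6, b6, 0, 0, 0⟩ by
    rw [H.R6]
    refine congrArg F.E (Cd.ext ?_ ?_ ?_ ?_ ?_ ?_ ?_ ?_ ?_ ?_ ?_ ?_)
    · first | with_reducible rfl | ((try simp only [map_add, map_mul, map_pow, map_zero, H.hs]) <;> ring1)
    · first | with_reducible rfl | ((try simp only [map_add, map_mul, map_pow, map_zero, H.hs]) <;> ring1)
    · first | with_reducible rfl | ((try simp only [map_add, map_mul, map_pow, map_zero, H.hs]) <;> ring1)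
    · first | with_reducible rfl | ((try simp only [map_add, map_mul, map_pow, map_zero, H.hs]) <;> ring1)
    · first | with_reducible rfl | ((try simp only [map_add, map_mul, map_pow, map_zero, H.hs]) <;> ring1)
    · first | with_reducible rfl | ((try simp only [map_add, map_mul, map_pow, map_zero, H.hs]) <;> ring1)
    · first | with_reducible rfl | ((try simp only [map_add, map_mul, map_pow, map_zero, H.hs]) <;> ring1)
    · first | with_reducible rfl | ((try simp only [map_add, map_mul, map_pow, map_zero, H.hs]) <;> ring1)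
    · first | with_reducible rfl | ((try simp only [map_add, map_mul, map_pow, map_zero, H.hs]) <;> ring1)
    · first | with_reducible rfl | ((try simp only [map_add, map_mul, map_pow, map_zero, H.hs]) <;> ring1)
    · first | with_reducible rfl | ((try simp only [map_add, map_mul, map_pow, map_zero, H.hs]) <;> ring1)
    · first | with_reducible rfl | ((try simp only [map_add, map_mul, map_pow, map_zero, H.hs]) <;> ring1)
    ]
theorem s2_7 (a1 a2 b2 a3 a4 b4 a5 a6 b6 a7 p u : K) : F.x1 a1 * F.x2 a2 b2 * F.x3 a3 * F.x4 a4 b4 * F.x5 a5 * F.x6 a6 b6 * F.x7 a7 * F.x2 p u =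
    F.E ⟨a1, a2 + p, b2 + u + a2 * σ p, a3 + a4 * p, a4, b4 + a5 * p + a7 * u + a7 * p * σ p, a5 + a7 * σ p, a6, b6 +
      σ a7 * p, a7, 0, 0⟩ := by
  rw [mul_assoc (F.x1 a1 * F.x2 a2 b2 * F.x3 a3 * F.x4 a4 b4 * F.x5 a5 * F.x6 a6 b6) (F.x7 a7) (F.x2 p u), H.w72]
  simp only [← mul_assoc]
  rw [H.s2_6 a1 a2 b2 a3 a4 b4 a5 a6 b6 p u]
  rw [show F.E ⟨a1, a2 + p, b2 + u + a2 * σ p, a3 + a4 * p, a4, b4 + a5 * p, a5, a6, b6, 0, 0, 0⟩ *
      F.x7 a7 =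
      F.E ⟨a1, a2 + p, b2 + u + a2 * σ p, a3 + a4 * p, a4, b4 + a5 * p, a5, a6, b6, a7, 0, 0⟩ by
    rw [H.R7]
    refine congrArg F.E (Cd.ext ?_ ?_ ?_ ?_ ?_ ?_ ?_ ?_ ?_ ?_ ?_ ?_)
    · first | with_reducible rfl | ((try simp only [map_add, map_mul, map_pow, map_zero, H.hs]) <;> ring1)
    · first | with_reducible rfl | ((try simp only [map_add, map_mul, map_pow, map_zero, H.hs]) <;> ring1)
    · first | with_reducible rfl | ((try simp only [map_add, map_mul, map_pow, map_zero, H.hs]) <;> ring1)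
    · first | with_reducible rfl | ((try simp only [map_add, map_mul, map_pow, map_zero, H.hs]) <;> ring1)
    · first | with_reducible rfl | ((try simp only [map_add, map_mul, map_pow, map_zero, H.hs]) <;> ring1)
    · first | with_reducible rfl | ((try simp only [map_add, map_mul, map_pow, map_zero, H.hs]) <;> ring1)
    · first | with_reducible rfl | ((try simp only [map_add, map_mul, map_pow, map_zero, H.hs]) <;> ring1)
    · first | with_reducible rfl | ((try simp only [map_add, map_mul, map_pow, map_zero, H.hs]) <;> ring1)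
    · first | with_reducible rfl | ((try simp only [map_add, map_mul, map_pow, map_zero, H.hs]) <;> ring1)
    · first | with_reducible rfl | ((try simp only [map_add, map_mul, map_pow, map_zero, H.hs]) <;> ring1)
    · first | with_reducible rfl | ((try simp only [map_add, map_mul, map_pow, map_zero, H.hs]) <;> ring1)
    · first | with_reducible rfl | ((try simp only [map_add, map_mul, map_pow, map_zero, H.hs]) <;> ring1)
    ]
  rw [show F.E ⟨a1, a2 + p, b2 + u + a2 * σ p, a3 + a4 * p, a4, b4 + a5 * p, a5, a6, b6, a7, 0, 0⟩ *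
      F.x6 (0) (p * σ a7) =
      F.E ⟨a1, a2 + p, b2 + u + a2 * σ p, a3 + a4 * p, a4, b4 + a5 * p, a5, a6, b6 + σ a7 * p, a7, 0, 0⟩ by
    rw [H.R6]
    refine congrArg F.E (Cd.ext ?_ ?_ ?_ ?_ ?_ ?_ ?_ ?_ ?_ ?_ ?_ ?_)
    · first | with_reducible rfl | ((try simp only [map_add, map_mul, map_pow, map_zero, H.hs]) <;> ring1)
    · first | with_reducible rfl | ((try simp only [map_add, map_mul, map_pow, map_zero, H.hs]) <;> ring1)
    · first | with_reducible rfl | ((try simp only [map_add, map_mul, map_pow, map_zero, H.hs]) <;> ring1)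
    · first | with_reducible rfl | ((try simp only [map_add, map_mul, map_pow, map_zero, H.hs]) <;> ring1)
    · first | with_reducible rfl | ((try simp only [map_add, map_mul, map_pow, map_zero, H.hs]) <;> ring1)
    · first | with_reducible rfl | ((try simp only [map_add, map_mul, map_pow, map_zero, H.hs]) <;> ring1)
    · first | with_reducible rfl | ((try simp only [map_add, map_mul, map_pow, map_zero, H.hs]) <;> ring1)
    · first | with_reducible rfl | ((try simp only [map_add, map_mul, map_pow, map_zero, H.hs]) <;> ring1)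
    · first | with_reducible rfl | ((try simp only [map_add, map_mul, map_pow, map_zero, H.hs]) <;> ring1)
    · first | with_reducible rfl | ((try simp only [map_add, map_mul, map_pow, map_zero, H.hs]) <;> ring1)
    · first | with_reducible rfl | ((try simp only [map_add, map_mul, map_pow, map_zero, H.hs]) <;> ring1)
    · first | with_reducible rfl | ((try simp only [map_add, map_mul, map_pow, map_zero, H.hs]) <;> ring1)
    ]
  rw [show F.E ⟨a1, a2 + p, b2 + u + a2 * σ p, a3 + a4 * p, a4, b4 + a5 * p, a5, a6, b6 + σ a7 * p, a7, 0, 0⟩ *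
      F.x5 (σ p * a7) =
      F.E ⟨a1, a2 + p, b2 + u + a2 * σ p, a3 + a4 * p, a4, b4 + a5 * p, a5 + a7 * σ p, a6, b6 + σ a7 * p, a7, 0, 0⟩ by
    rw [H.R5]
    refine congrArg F.E (Cd.ext ?_ ?_ ?_ ?_ ?_ ?_ ?_ ?_ ?_ ?_ ?_ ?_)
    · first | with_reducible rfl | ((try simp only [map_add, map_mul, map_pow, map_zero, H.hs]) <;> ring1)
    · first | with_reducible rfl | ((try simp only [map_add, map_mul, map_pow, map_zero, H.hs]) <;> ring1)
    · first | with_reducible rfl | ((try simp only [map_add, map_mul, map_pow, map_zero, H.hs]) <;> ring1)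
    · first | with_reducible rfl | ((try simp only [map_add, map_mul, map_pow, map_zero, H.hs]) <;> ring1)
    · first | with_reducible rfl | ((try simp only [map_add, map_mul, map_pow, map_zero, H.hs]) <;> ring1)
    · first | with_reducible rfl | ((try simp only [map_add, map_mul, map_pow, map_zero, H.hs]) <;> ring1)
    · first | with_reducible rfl | ((try simp only [map_add, map_mul, map_pow, map_zero, H.hs]) <;> ring1)
    · first | with_reducible rfl | ((try simp only [map_add, map_mul, map_pow, map_zero, H.hs]) <;> ring1)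
    · first | with_reducible rfl | ((try simp only [map_add, map_mul, map_pow, map_zero, H.hs]) <;> ring1)
    · first | with_reducible rfl | ((try simp only [map_add, map_mul, map_pow, map_zero, H.hs]) <;> ring1)
    · first | with_reducible rfl | ((try simp only [map_add, map_mul, map_pow, map_zero, H.hs]) <;> ring1)
    · first | with_reducible rfl | ((try simp only [map_add, map_mul, map_pow, map_zero, H.hs]) <;> ring1)
    ]
  rw [show F.E ⟨a1, a2 + p, b2 + u + a2 * σ p, a3 + a4 * p, a4, b4 + a5 * p, a5 + a7 * σ p, a6, b6 + σ a7 * p, a7, 0, 0⟩ *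
      F.x4 (0) (a7 * u + p * σ p * a7) =
      F.E ⟨a1, a2 + p, b2 + u + a2 * σ p, a3 + a4 * p, a4, b4 + a5 * p + a7 * u + a7 * p * σ p, a5 + a7 * σ p, a6, b6 +
      σ a7 * p, a7, 0, 0⟩ by
    rw [H.R4]
    refine congrArg F.E (Cd.ext ?_ ?_ ?_ ?_ ?_ ?_ ?_ ?_ ?_ ?_ ?_ ?_)
    · first | with_reducible rfl | ((try simp only [map_add, map_mul, map_pow, map_zero, H.hs]) <;> ring1)
    · first | with_reducible rfl | ((try simp only [map_add, map_mul, map_pow, map_zero, H.hs]) <;> ring1)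
    · first | with_reducible rfl | ((try simp only [map_add, map_mul, map_pow, map_zero, H.hs]) <;> ring1)
    · first | with_reducible rfl | ((try simp only [map_add, map_mul, map_pow, map_zero, H.hs]) <;> ring1)
    · first | with_reducible rfl | ((try simp only [map_add, map_mul, map_pow, map_zero, H.hs]) <;> ring1)
    · first | with_reducible rfl | ((try simp only [map_add, map_mul, map_pow, map_zero, H.hs]) <;> ring1)
    · first | with_reducible rfl | ((try simp only [map_add, map_mul, map_pow, map_zero, H.hs]) <;> ring1)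
    · first | with_reducible rfl | ((try simp only [map_add, map_mul, map_pow, map_zero, H.hs]) <;> ring1)
    · first | with_reducible rfl | ((try simp only [map_add, map_mul, map_pow, map_zero, H.hs]) <;> ring1)
    · first | with_reducible rfl | ((try simp only [map_add, map_mul, map_pow, map_zero, H.hs]) <;> ring1)
    · first | with_reducible rfl | ((try simp only [map_add, map_mul, map_pow, map_zero, H.hs]) <;> ring1)
    · first | with_reducible rfl | ((try simp only [map_add, map_mul, map_pow, map_zero, H.hs]) <;> ring1)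
    ]
theorem s2_8 (a1 a2 b2 a3 a4 b4 a5 a6 b6 a7 a8 b8 p u : K) : F.x1 a1 * F.x2 a2 b2 * F.x3 a3 * F.x4 a4 b4 * F.x5 a5 * F.x6 a6 b6 * F.x7 a7 * F.x8 a8 b8 * F.x2 p u =
    F.E ⟨a1, a2 + p, b2 + u + a2 * σ p, a3 + a4 * p + a8 * u + a8 * p * σ p, a4 + a8 * σ p, b4 + a5 * p + a7 * u + b8
      * σ u + a6 * a8 * u + a7 * p * σ p + b8 * p * u + a4 * σ a8 * p ^ (2:ℕ) + a6 * a8 * p * σ p + a8 * σ a8 * p * u +
      b8 * p ^ (2:ℕ) * σ p + a8 * σ a8 * p ^ (2:ℕ) * σ p, a5 + a7 * σ p + b8 * u + a6 * a8 * σ p + a8 * σ a8 * u, a6 + σ a8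
      * p, b6 + σ a7 * p + σ b8 * u + a7 * a8 * σ p + a8 * b8 * u + σ b8 * p * σ p + a6 * a8 ^ (2:ℕ) * σ p + a8 ^ (2:ℕ) * σ
      a8 * u, a7 + b8 * p, a8, b8⟩ := by
  rw [mul_assoc (F.x1 a1 * F.x2 a2 b2 * F.x3 a3 * F.x4 a4 b4 * F.x5 a5 * F.x6 a6 b6 * F.x7 a7) (F.x8 a8 b8) (F.x2 p u), H.w82]
  simp only [← mul_assoc]
  rw [H.s2_7 a1 a2 b2 a3 a4 b4 a5 a6 b6 a7 p u]
  rw [show F.E ⟨a1, a2 + p, b2 + u + a2 * σ p, a3 + a4 * p, a4, b4 + a5 * p + a7 * u + a7 * p * σ p, a5 + a7 * σ p, a6, b6 +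
      σ a7 * p, a7, 0, 0⟩ *
      F.x8 a8 b8 =
      F.E ⟨a1, a2 + p, b2 + u + a2 * σ p, a3 + a4 * p, a4, b4 + a5 * p + a7 * u + a7 * p * σ p, a5 + a7 * σ p, a6, b6 +
      σ a7 * p, a7, a8, b8⟩ by
    rw [H.R8]
    refine congrArg F.E (Cd.ext ?_ ?_ ?_ ?_ ?_ ?_ ?_ ?_ ?_ ?_ ?_ ?_)
    · first | with_reducible rfl | ((try simp only [map_add, map_mul, map_pow, map_zero, H.hs]) <;> ring1)
    · first | with_reducible rfl | ((try simp only [map_add, map_mul, map_pow, map_zero, H.hs]) <;> ring1)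
    · first | with_reducible rfl | ((try simp only [map_add, map_mul, map_pow, map_zero, H.hs]) <;> ring1)
    · first | with_reducible rfl | ((try simp only [map_add, map_mul, map_pow, map_zero, H.hs]) <;> ring1)
    · first | with_reducible rfl | ((try simp only [map_add, map_mul, map_pow, map_zero, H.hs]) <;> ring1)
    · first | with_reducible rfl | ((try simp only [map_add, map_mul, map_pow, map_zero, H.hs]) <;> ring1)
    · first | with_reducible rfl | ((try simp only [map_add, map_mul, map_pow, map_zero, H.hs]) <;> ring1)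
    · first | with_reducible rfl | ((try simp only [map_add, map_mul, map_pow, map_zero, H.hs]) <;> ring1)
    · first | with_reducible rfl | ((try simp only [map_add, map_mul, map_pow, map_zero, H.hs]) <;> ring1)
    · first | with_reducible rfl | ((try simp only [map_add, map_mul, map_pow, map_zero, H.hs]) <;> ring1)
    · first | with_reducible rfl | ((try simp only [map_add, map_mul, map_pow, map_zero, H.hs]) <;> ring1)
    · first | with_reducible rfl | ((try simp only [map_add, map_mul, map_pow, map_zero, H.hs]) <;> ring1)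
    ]
  rw [show F.E ⟨a1, a2 + p, b2 + u + a2 * σ p, a3 + a4 * p, a4, b4 + a5 * p + a7 * u + a7 * p * σ p, a5 + a7 * σ p, a6, b6 +
      σ a7 * p, a7, a8, b8⟩ *
      F.x7 (p * b8 + p * a8 * σ a8) =
      F.E ⟨a1, a2 + p, b2 + u + a2 * σ p, a3 + a4 * p, a4, b4 + a5 * p + a7 * u + a7 * p * σ p, a5 + a7 * σ p, a6, b6 +
      σ a7 * p, a7 + b8 * p + a8 * σ a8 * p, a8, b8⟩ by
    rw [H.R7]
    refine congrArg F.E (Cd.ext ?_ ?_ ?_ ?_ ?_ ?_ ?_ ?_ ?_ ?_ ?_ ?_)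
    · first | with_reducible rfl | ((try simp only [map_add, map_mul, map_pow, map_zero, H.hs]) <;> ring1)
    · first | with_reducible rfl | ((try simp only [map_add, map_mul, map_pow, map_zero, H.hs]) <;> ring1)
    · first | with_reducible rfl | ((try simp only [map_add, map_mul, map_pow, map_zero, H.hs]) <;> ring1)
    · first | with_reducible rfl | ((try simp only [map_add, map_mul, map_pow, map_zero, H.hs]) <;> ring1)
    · first | with_reducible rfl | ((try simp only [map_add, map_mul, map_pow, map_zero, H.hs]) <;> ring1)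
    · first | with_reducible rfl | ((try simp only [map_add, map_mul, map_pow, map_zero, H.hs]) <;> ring1)
    · first | with_reducible rfl | ((try simp only [map_add, map_mul, map_pow, map_zero, H.hs]) <;> ring1)
    · first | with_reducible rfl | ((try simp only [map_add, map_mul, map_pow, map_zero, H.hs]) <;> ring1)
    · first | with_reducible rfl | ((try simp only [map_add, map_mul, map_pow, map_zero, H.hs]) <;> ring1)
    · first | with_reducible rfl | ((try simp only [map_add, map_mul, map_pow, map_zero, H.hs]) <;> ring1)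
    · first | with_reducible rfl | ((try simp only [map_add, map_mul, map_pow, map_zero, H.hs]) <;> ring1)
    · first | with_reducible rfl | ((try simp only [map_add, map_mul, map_pow, map_zero, H.hs]) <;> ring1)
    ]
  rw [show F.E ⟨a1, a2 + p, b2 + u + a2 * σ p, a3 + a4 * p, a4, b4 + a5 * p + a7 * u + a7 * p * σ p, a5 + a7 * σ p, a6, b6 +
      σ a7 * p, a7 + b8 * p + a8 * σ a8 * p, a8, b8⟩ *
      F.x6 (p * σ a8) (u * σ b8 + p * σ p * σ b8 + a8 * u * b8 + a8 ^ (2:ℕ) * σ a8 * u) =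
      F.E ⟨a1, a2 + p, b2 + u + a2 * σ p, a3 + a4 * p, a4, b4 + a5 * p + a7 * u + a7 * p * σ p, a5 + a7 * σ p, a6 + σ a8
      * p, b6 + σ a7 * p + σ b8 * u + a8 * b8 * u + σ b8 * p * σ p + a6 * a8 ^ (2:ℕ) * σ p + a8 ^ (2:ℕ) * σ a8 * u, a7 + b8
      * p, a8, b8⟩ by
    rw [H.R6]
    refine congrArg F.E (Cd.ext ?_ ?_ ?_ ?_ ?_ ?_ ?_ ?_ ?_ ?_ ?_ ?_)
    · first | with_reducible rfl | ((try simp only [map_add, map_mul, map_pow, map_zero, H.hs]) <;> ring1)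
    · first | with_reducible rfl | ((try simp only [map_add, map_mul, map_pow, map_zero, H.hs]) <;> ring1)
    · first | with_reducible rfl | ((try simp only [map_add, map_mul, map_pow, map_zero, H.hs]) <;> ring1)
    · first | with_reducible rfl | ((try simp only [map_add, map_mul, map_pow, map_zero, H.hs]) <;> ring1)
    · first | with_reducible rfl | ((try simp only [map_add, map_mul, map_pow, map_zero, H.hs]) <;> ring1)
    · first | with_reducible rfl | ((try simp only [map_add, map_mul, map_pow, map_zero, H.hs]) <;> ring1)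
    · first | with_reducible rfl | ((try simp only [map_add, map_mul, map_pow, map_zero, H.hs]) <;> ring1)
    · first | with_reducible rfl | ((try simp only [map_add, map_mul, map_pow, map_zero, H.hs]) <;> ring1)
    · first | with_reducible rfl | ((try simp only [map_add, map_mul, map_pow, map_zero, H.hs]) <;> ring1)
    · try simp only [map_add, map_mul, map_pow, map_zero, H.hs]
      linear_combination (a8 * σ a8 * p) * H.h2
    · first | with_reducible rfl | ((try simp only [map_add, map_mul, map_pow, map_zero, H.hs]) <;> ring1)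
    · first | with_reducible rfl | ((try simp only [map_add, map_mul, map_pow, map_zero, H.hs]) <;> ring1)
    ]
  rw [show F.E ⟨a1, a2 + p, b2 + u + a2 * σ p, a3 + a4 * p, a4, b4 + a5 * p + a7 * u + a7 * p * σ p, a5 + a7 * σ p, a6 + σ a8
      * p, b6 + σ a7 * p + σ b8 * u + a8 * b8 * u + σ b8 * p * σ p + a6 * a8 ^ (2:ℕ) * σ p + a8 ^ (2:ℕ) * σ a8 * u, a7 + b8
      * p, a8, b8⟩ *
      F.x5 (u * b8) =
      F.E ⟨a1, a2 + p, b2 + u + a2 * σ p, a3 + a4 * p, a4, b4 + a5 * p + a7 * u + a7 * p * σ p, a5 + a7 * σ p + b8 * u,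
      a6 + σ a8 * p, b6 + σ a7 * p + σ b8 * u + σ b8 * p * σ p + a6 * a8 ^ (2:ℕ) * σ p + a8 ^ (2:ℕ) * σ a8 * u, a7 + b8 * p,
      a8, b8⟩ by
    rw [H.R5]
    refine congrArg F.E (Cd.ext ?_ ?_ ?_ ?_ ?_ ?_ ?_ ?_ ?_ ?_ ?_ ?_)
    · first | with_reducible rfl | ((try simp only [map_add, map_mul, map_pow, map_zero, H.hs]) <;> ring1)
    · first | with_reducible rfl | ((try simp only [map_add, map_mul, map_pow, map_zero, H.hs]) <;> ring1)
    · first | with_reducible rfl | ((try simp only [map_add, map_mul, map_pow, map_zero, H.hs]) <;> ring1)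
    · first | with_reducible rfl | ((try simp only [map_add, map_mul, map_pow, map_zero, H.hs]) <;> ring1)
    · first | with_reducible rfl | ((try simp only [map_add, map_mul, map_pow, map_zero, H.hs]) <;> ring1)
    · first | with_reducible rfl | ((try simp only [map_add, map_mul, map_pow, map_zero, H.hs]) <;> ring1)
    · first | with_reducible rfl | ((try simp only [map_add, map_mul, map_pow, map_zero, H.hs]) <;> ring1)
    · first | with_reducible rfl | ((try simp only [map_add, map_mul, map_pow, map_zero, H.hs]) <;> ring1)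
    · try simp only [map_add, map_mul, map_pow, map_zero, H.hs]
      linear_combination (a8 * b8 * u) * H.h2
    · first | with_reducible rfl | ((try simp only [map_add, map_mul, map_pow, map_zero, H.hs]) <;> ring1)
    · first | with_reducible rfl | ((try simp only [map_add, map_mul, map_pow, map_zero, H.hs]) <;> ring1)
    · first | with_reducible rfl | ((try simp only [map_add, map_mul, map_pow, map_zero, H.hs]) <;> ring1)
    ]
  rw [show F.E ⟨a1, a2 + p, b2 + u + a2 * σ p, a3 + a4 * p, a4, b4 + a5 * p + a7 * u + a7 * p * σ p, a5 + a7 * σ p + b8 * u,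
      a6 + σ a8 * p, b6 + σ a7 * p + σ b8 * u + σ b8 * p * σ p + a6 * a8 ^ (2:ℕ) * σ p + a8 ^ (2:ℕ) * σ a8 * u, a7 + b8 * p,
      a8, b8⟩ *
      F.x4 (σ p * a8) (σ u * b8 + p * u * b8 + a8 * σ a8 * σ u + p ^ (2:ℕ) * σ p * b8 + p ^ (2:ℕ) * σ p * a8 * σ a8) =
      F.E ⟨a1, a2 + p, b2 + u + a2 * σ p, a3 + a4 * p, a4 + a8 * σ p, b4 + a5 * p + a7 * u + b8 * σ u + a7 * p * σ p +
      a8 * σ a8 * σ u + b8 * p * u + a4 * σ a8 * p ^ (2:ℕ) + b8 * p ^ (2:ℕ) * σ p + a8 * σ a8 * p ^ (2:ℕ) * σ p, a5 + a7 * σ p +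
      b8 * u + a6 * a8 * σ p + a8 * σ a8 * p * σ p, a6 + σ a8 * p, b6 + σ a7 * p + σ b8 * u + a7 * a8 * σ p + σ b8 *
      p * σ p + a6 * a8 ^ (2:ℕ) * σ p + a8 * b8 * p * σ p + a8 ^ (2:ℕ) * σ a8 * u, a7 + b8 * p, a8, b8⟩ by
    rw [H.R4]
    refine congrArg F.E (Cd.ext ?_ ?_ ?_ ?_ ?_ ?_ ?_ ?_ ?_ ?_ ?_ ?_)
    · first | with_reducible rfl | ((try simp only [map_add, map_mul, map_pow, map_zero, H.hs]) <;> ring1)
    · first | with_reducible rfl | ((try simp only [map_add, map_mul, map_pow, map_zero, H.hs]) <;> ring1)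
    · first | with_reducible rfl | ((try simp only [map_add, map_mul, map_pow, map_zero, H.hs]) <;> ring1)
    · first | with_reducible rfl | ((try simp only [map_add, map_mul, map_pow, map_zero, H.hs]) <;> ring1)
    · first | with_reducible rfl | ((try simp only [map_add, map_mul, map_pow, map_zero, H.hs]) <;> ring1)
    · first | with_reducible rfl | ((try simp only [map_add, map_mul, map_pow, map_zero, H.hs]) <;> ring1)
    · first | with_reducible rfl | ((try simp only [map_add, map_mul, map_pow, map_zero, H.hs]) <;> ring1)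
    · first | with_reducible rfl | ((try simp only [map_add, map_mul, map_pow, map_zero, H.hs]) <;> ring1)
    · first | with_reducible rfl | ((try simp only [map_add, map_mul, map_pow, map_zero, H.hs]) <;> ring1)
    · first | with_reducible rfl | ((try simp only [map_add, map_mul, map_pow, map_zero, H.hs]) <;> ring1)
    · first | with_reducible rfl | ((try simp only [map_add, map_mul, map_pow, map_zero, H.hs]) <;> ring1)
    · first | with_reducible rfl | ((try simp only [map_add, map_mul, map_pow, map_zero, H.hs]) <;> ring1)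
    ]
  rw [show F.E ⟨a1, a2 + p, b2 + u + a2 * σ p, a3 + a4 * p, a4 + a8 * σ p, b4 + a5 * p + a7 * u + b8 * σ u + a7 * p * σ p +
      a8 * σ a8 * σ u + b8 * p * u + a4 * σ a8 * p ^ (2:ℕ) + b8 * p ^ (2:ℕ) * σ p + a8 * σ a8 * p ^ (2:ℕ) * σ p, a5 + a7 * σ p +
      b8 * u + a6 * a8 * σ p + a8 * σ a8 * p * σ p, a6 + σ a8 * p, b6 + σ a7 * p + σ b8 * u + a7 * a8 * σ p + σ b8 *
      p * σ p + a6 * a8 ^ (2:ℕ) * σ p + a8 * b8 * p * σ p + a8 ^ (2:ℕ) * σ a8 * u, a7 + b8 * p, a8, b8⟩ *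
      F.x3 (a8 * u + p * σ p * a8) =
      F.E ⟨a1, a2 + p, b2 + u + a2 * σ p, a3 + a4 * p + a8 * u + a8 * p * σ p, a4 + a8 * σ p, b4 + a5 * p + a7 * u + b8
      * σ u + a6 * a8 * u + a7 * p * σ p + b8 * p * u + a4 * σ a8 * p ^ (2:ℕ) + a6 * a8 * p * σ p + a8 * σ a8 * p * u +
      b8 * p ^ (2:ℕ) * σ p + a8 * σ a8 * p ^ (2:ℕ) * σ p, a5 + a7 * σ p + b8 * u + a6 * a8 * σ p + a8 * σ a8 * u, a6 + σ a8
      * p, b6 + σ a7 * p + σ b8 * u + a7 * a8 * σ p + a8 * b8 * u + σ b8 * p * σ p + a6 * a8 ^ (2:ℕ) * σ p + a8 ^ (2:ℕ) * σ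
      a8 * u, a7 + b8 * p, a8, b8⟩ by
    rw [H.R3]
    refine congrArg F.E (Cd.ext ?_ ?_ ?_ ?_ ?_ ?_ ?_ ?_ ?_ ?_ ?_ ?_)
    · first | with_reducible rfl | ((try simp only [map_add, map_mul, map_pow, map_zero, H.hs]) <;> ring1)
    · first | with_reducible rfl | ((try simp only [map_add, map_mul, map_pow, map_zero, H.hs]) <;> ring1)
    · first | with_reducible rfl | ((try simp only [map_add, map_mul, map_pow, map_zero, H.hs]) <;> ring1)
    · first | with_reducible rfl | ((try simp only [map_add, map_mul, map_pow, map_zero, H.hs]) <;> ring1)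
    · first | with_reducible rfl | ((try simp only [map_add, map_mul, map_pow, map_zero, H.hs]) <;> ring1)
    · try simp only [map_add, map_mul, map_pow, map_zero, H.hs]
      linear_combination (a8 * σ a8 * p ^ (2:ℕ) * σ p + a8 * σ a8 * σ u) * H.h2
    · try simp only [map_add, map_mul, map_pow, map_zero, H.hs]
      linear_combination (a8 * σ a8 * p * σ p) * H.h2
    · first | with_reducible rfl | ((try simp only [map_add, map_mul, map_pow, map_zero, H.hs]) <;> ring1)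
    · try simp only [map_add, map_mul, map_pow, map_zero, H.hs]
      linear_combination (a8 * b8 * p * σ p) * H.h2
    · first | with_reducible rfl | ((try simp only [map_add, map_mul, map_pow, map_zero, H.hs]) <;> ring1)
    · first | with_reducible rfl | ((try simp only [map_add, map_mul, map_pow, map_zero, H.hs]) <;> ring1)
    · first | with_reducible rfl | ((try simp only [map_add, map_mul, map_pow, map_zero, H.hs]) <;> ring1)
    ]
/-- right multiplication by a root element of `X2` -/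
theorem R2 (c : Cd K) (p u : K) : F.E c * F.x2 p u =
    F.E ⟨c.a1, c.a2 + p, c.b2 + u + c.a2 * σ p, c.a3 + c.a4 * p + c.a8 * u + c.a8 * p * σ p, c.a4 + c.a8 * σ p, c.b4 +
      c.a5 * p + c.a7 * u + c.b8 * σ u + c.a6 * c.a8 * u + c.a7 * p * σ p + c.b8 * p * u + c.a4 * σ c.a8 * p ^ (2:ℕ) +
      c.a6 * c.a8 * p * σ p + c.a8 * σ c.a8 * p * u + c.b8 * p ^ (2:ℕ) * σ p + c.a8 * σ c.a8 * p ^ (2:ℕ) * σ p, c.a5 + c.a7
      * σ p + c.b8 * u + c.a6 * c.a8 * σ p + c.a8 * σ c.a8 * u, c.a6 + σ c.a8 * p, c.b6 + σ c.a7 * p + σ c.b8 * u +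
      c.a7 * c.a8 * σ p + c.a8 * c.b8 * u + σ c.b8 * p * σ p + c.a6 * c.a8 ^ (2:ℕ) * σ p + c.a8 ^ (2:ℕ) * σ c.a8 * u, c.a7 +
      c.b8 * p, c.a8, c.b8⟩ :=
  H.s2_8 c.a1 c.a2 c.b2 c.a3 c.a4 c.b4 c.a5 c.a6 c.b6 c.a7 c.a8 c.b8 p u

theorem s1_1 (a1 t : K) : F.x1 a1 * F.x1 t =
    F.E ⟨a1 + t, 0, 0, 0, 0, 0, 0, 0, 0, 0, 0, 0⟩ := by
  rw [H.rel.m1]
  simp only [Fam.E, H.z1, H.z2, H.z3, H.z4, H.z5, H.z6, H.z7, H.z8, mul_one]
theorem s1_2 (a1 a2 b2 t : K) : F.x1 a1 * F.x2 a2 b2 * F.x1 t =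
    F.E ⟨a1 + t, a2, b2, 0, 0, 0, 0, 0, 0, 0, 0, 0⟩ := by
  rw [mul_assoc (F.x1 a1) (F.x2 a2 b2) (F.x1 t), H.w21]
  simp only [← mul_assoc]
  rw [H.s1_1 a1 t]
  rw [show F.E ⟨a1 + t, 0, 0, 0, 0, 0, 0, 0, 0, 0, 0, 0⟩ *
      F.x2 a2 b2 =
      F.E ⟨a1 + t, a2, b2, 0, 0, 0, 0, 0, 0, 0, 0, 0⟩ by
    rw [H.R2]
    refine congrArg F.E (Cd.ext ?_ ?_ ?_ ?_ ?_ ?_ ?_ ?_ ?_ ?_ ?_ ?_)
    · first | with_reducible rfl | ((try simp only [map_add, map_mul, map_pow, map_zero, H.hs]) <;> ring1)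
    · first | with_reducible rfl | ((try simp only [map_add, map_mul, map_pow, map_zero, H.hs]) <;> ring1)
    · first | with_reducible rfl | ((try simp only [map_add, map_mul, map_pow, map_zero, H.hs]) <;> ring1)
    · first | with_reducible rfl | ((try simp only [map_add, map_mul, map_pow, map_zero, H.hs]) <;> ring1)
    · first | with_reducible rfl | ((try simp only [map_add, map_mul, map_pow, map_zero, H.hs]) <;> ring1)
    · first | with_reducible rfl | ((try simp only [map_add, map_mul, map_pow, map_zero, H.hs]) <;> ring1)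
    · first | with_reducible rfl | ((try simp only [map_add, map_mul, map_pow, map_zero, H.hs]) <;> ring1)
    · first | with_reducible rfl | ((try simp only [map_add, map_mul, map_pow, map_zero, H.hs]) <;> ring1)
    · first | with_reducible rfl | ((try simp only [map_add, map_mul, map_pow, map_zero, H.hs]) <;> ring1)
    · first | with_reducible rfl | ((try simp only [map_add, map_mul, map_pow, map_zero, H.hs]) <;> ring1)
    · first | with_reducible rfl | ((try simp only [map_add, map_mul, map_pow, map_zero, H.hs]) <;> ring1)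
    · first | with_reducible rfl | ((try simp only [map_add, map_mul, map_pow, map_zero, H.hs]) <;> ring1)
    ]
theorem s1_3 (a1 a2 b2 a3 t : K) : F.x1 a1 * F.x2 a2 b2 * F.x3 a3 * F.x1 t =
    F.E ⟨a1 + t, a2, b2, a3, 0, 0, 0, 0, 0, 0, 0, 0⟩ := by
  rw [mul_assoc (F.x1 a1 * F.x2 a2 b2) (F.x3 a3) (F.x1 t), H.w31]
  simp only [← mul_assoc]
  rw [H.s1_2 a1 a2 b2 t]
  rw [show F.E ⟨a1 + t, a2, b2, 0, 0, 0, 0, 0, 0, 0, 0, 0⟩ *
      F.x3 a3 =
      F.E ⟨a1 + t, a2, b2, a3, 0, 0, 0, 0, 0, 0, 0, 0⟩ by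
    rw [H.R3]
    refine congrArg F.E (Cd.ext ?_ ?_ ?_ ?_ ?_ ?_ ?_ ?_ ?_ ?_ ?_ ?_)
    · first | with_reducible rfl | ((try simp only [map_add, map_mul, map_pow, map_zero, H.hs]) <;> ring1)
    · first | with_reducible rfl | ((try simp only [map_add, map_mul, map_pow, map_zero, H.hs]) <;> ring1)
    · first | with_reducible rfl | ((try simp only [map_add, map_mul, map_pow, map_zero, H.hs]) <;> ring1)
    · first | with_reducible rfl | ((try simp only [map_add, map_mul, map_pow, map_zero, H.hs]) <;> ring1)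
    · first | with_reducible rfl | ((try simp only [map_add, map_mul, map_pow, map_zero, H.hs]) <;> ring1)
    · first | with_reducible rfl | ((try simp only [map_add, map_mul, map_pow, map_zero, H.hs]) <;> ring1)
    · first | with_reducible rfl | ((try simp only [map_add, map_mul, map_pow, map_zero, H.hs]) <;> ring1)
    · first | with_reducible rfl | ((try simp only [map_add, map_mul, map_pow, map_zero, H.hs]) <;> ring1)
    · first | with_reducible rfl | ((try simp only [map_add, map_mul, map_pow, map_zero, H.hs]) <;> ring1)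
    · first | with_reducible rfl | ((try simp only [map_add, map_mul, map_pow, map_zero, H.hs]) <;> ring1)
    · first | with_reducible rfl | ((try simp only [map_add, map_mul, map_pow, map_zero, H.hs]) <;> ring1)
    · first | with_reducible rfl | ((try simp only [map_add, map_mul, map_pow, map_zero, H.hs]) <;> ring1)
    ]
theorem s1_4 (a1 a2 b2 a3 a4 b4 t : K) : F.x1 a1 * F.x2 a2 b2 * F.x3 a3 * F.x4 a4 b4 * F.x1 t =
    F.E ⟨a1 + t, a2, b2 + a4 * t, a3, a4, b4, 0, 0, 0, 0, 0, 0⟩ := by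
  rw [mul_assoc (F.x1 a1 * F.x2 a2 b2 * F.x3 a3) (F.x4 a4 b4) (F.x1 t), H.w41]
  simp only [← mul_assoc]
  rw [H.s1_3 a1 a2 b2 a3 t]
  rw [show F.E ⟨a1 + t, a2, b2, a3, 0, 0, 0, 0, 0, 0, 0, 0⟩ *
      F.x4 a4 b4 =
      F.E ⟨a1 + t, a2, b2, a3, a4, b4, 0, 0, 0, 0, 0, 0⟩ by
    rw [H.R4]
    refine congrArg F.E (Cd.ext ?_ ?_ ?_ ?_ ?_ ?_ ?_ ?_ ?_ ?_ ?_ ?_)
    · first | with_reducible rfl | ((try simp only [map_add, map_mul, map_pow, map_zero, H.hs]) <;> ring1)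
    · first | with_reducible rfl | ((try simp only [map_add, map_mul, map_pow, map_zero, H.hs]) <;> ring1)
    · first | with_reducible rfl | ((try simp only [map_add, map_mul, map_pow, map_zero, H.hs]) <;> ring1)
    · first | with_reducible rfl | ((try simp only [map_add, map_mul, map_pow, map_zero, H.hs]) <;> ring1)
    · first | with_reducible rfl | ((try simp only [map_add, map_mul, map_pow, map_zero, H.hs]) <;> ring1)
    · first | with_reducible rfl | ((try simp only [map_add, map_mul, map_pow, map_zero, H.hs]) <;> ring1)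
    · first | with_reducible rfl | ((try simp only [map_add, map_mul, map_pow, map_zero, H.hs]) <;> ring1)
    · first | with_reducible rfl | ((try simp only [map_add, map_mul, map_pow, map_zero, H.hs]) <;> ring1)
    · first | with_reducible rfl | ((try simp only [map_add, map_mul, map_pow, map_zero, H.hs]) <;> ring1)
    · first | with_reducible rfl | ((try simp only [map_add, map_mul, map_pow, map_zero, H.hs]) <;> ring1)
    · first | with_reducible rfl | ((try simp only [map_add, map_mul, map_pow, map_zero, H.hs]) <;> ring1)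
    · first | with_reducible rfl | ((try simp only [map_add, map_mul, map_pow, map_zero, H.hs]) <;> ring1)
    ]
  rw [show F.E ⟨a1 + t, a2, b2, a3, a4, b4, 0, 0, 0, 0, 0, 0⟩ *
      F.x2 (0) (a4 * t) =
      F.E ⟨a1 + t, a2, b2 + a4 * t, a3, a4, b4, 0, 0, 0, 0, 0, 0⟩ by
    rw [H.R2]
    refine congrArg F.E (Cd.ext ?_ ?_ ?_ ?_ ?_ ?_ ?_ ?_ ?_ ?_ ?_ ?_)
    · first | with_reducible rfl | ((try simp only [map_add, map_mul, map_pow, map_zero, H.hs]) <;> ring1)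
    · first | with_reducible rfl | ((try simp only [map_add, map_mul, map_pow, map_zero, H.hs]) <;> ring1)
    · first | with_reducible rfl | ((try simp only [map_add, map_mul, map_pow, map_zero, H.hs]) <;> ring1)
    · first | with_reducible rfl | ((try simp only [map_add, map_mul, map_pow, map_zero, H.hs]) <;> ring1)
    · first | with_reducible rfl | ((try simp only [map_add, map_mul, map_pow, map_zero, H.hs]) <;> ring1)
    · first | with_reducible rfl | ((try simp only [map_add, map_mul, map_pow, map_zero, H.hs]) <;> ring1)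
    · first | with_reducible rfl | ((try simp only [map_add, map_mul, map_pow, map_zero, H.hs]) <;> ring1)
    · first | with_reducible rfl | ((try simp only [map_add, map_mul, map_pow, map_zero, H.hs]) <;> ring1)
    · first | with_reducible rfl | ((try simp only [map_add, map_mul, map_pow, map_zero, H.hs]) <;> ring1)
    · first | with_reducible rfl | ((try simp only [map_add, map_mul, map_pow, map_zero, H.hs]) <;> ring1)
    · first | with_reducible rfl | ((try simp only [map_add, map_mul, map_pow, map_zero, H.hs]) <;> ring1)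
    · first | with_reducible rfl | ((try simp only [map_add, map_mul, map_pow, map_zero, H.hs]) <;> ring1)
    ]
theorem s1_5 (a1 a2 b2 a3 a4 b4 a5 t : K) : F.x1 a1 * F.x2 a2 b2 * F.x3 a3 * F.x4 a4 b4 * F.x5 a5 * F.x1 t =
    F.E ⟨a1 + t, a2, b2 + a4 * t, a3, a4, b4, a5, 0, 0, 0, 0, 0⟩ := by
  rw [mul_assoc (F.x1 a1 * F.x2 a2 b2 * F.x3 a3 * F.x4 a4 b4) (F.x5 a5) (F.x1 t), H.w51]
  simp only [← mul_assoc]
  rw [H.s1_4 a1 a2 b2 a3 a4 b4 t]
  rw [show F.E ⟨a1 + t, a2, b2 + a4 * t, a3, a4, b4, 0, 0, 0, 0, 0, 0⟩ *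
      F.x5 a5 =
      F.E ⟨a1 + t, a2, b2 + a4 * t, a3, a4, b4, a5, 0, 0, 0, 0, 0⟩ by
    rw [H.R5]
    refine congrArg F.E (Cd.ext ?_ ?_ ?_ ?_ ?_ ?_ ?_ ?_ ?_ ?_ ?_ ?_)
    · first | with_reducible rfl | ((try simp only [map_add, map_mul, map_pow, map_zero, H.hs]) <;> ring1)
    · first | with_reducible rfl | ((try simp only [map_add, map_mul, map_pow, map_zero, H.hs]) <;> ring1)
    · first | with_reducible rfl | ((try simp only [map_add, map_mul, map_pow, map_zero, H.hs]) <;> ring1)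
    · first | with_reducible rfl | ((try simp only [map_add, map_mul, map_pow, map_zero, H.hs]) <;> ring1)
    · first | with_reducible rfl | ((try simp only [map_add, map_mul, map_pow, map_zero, H.hs]) <;> ring1)
    · first | with_reducible rfl | ((try simp only [map_add, map_mul, map_pow, map_zero, H.hs]) <;> ring1)
    · first | with_reducible rfl | ((try simp only [map_add, map_mul, map_pow, map_zero, H.hs]) <;> ring1)
    · first | with_reducible rfl | ((try simp only [map_add, map_mul, map_pow, map_zero, H.hs]) <;> ring1)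
    · first | with_reducible rfl | ((try simp only [map_add, map_mul, map_pow, map_zero, H.hs]) <;> ring1)
    · first | with_reducible rfl | ((try simp only [map_add, map_mul, map_pow, map_zero, H.hs]) <;> ring1)
    · first | with_reducible rfl | ((try simp only [map_add, map_mul, map_pow, map_zero, H.hs]) <;> ring1)
    · first | with_reducible rfl | ((try simp only [map_add, map_mul, map_pow, map_zero, H.hs]) <;> ring1)
    ]
theorem s1_6 (a1 a2 b2 a3 a4 b4 a5 a6 b6 t : K) : F.x1 a1 * F.x2 a2 b2 * F.x3 a3 * F.x4 a4 b4 * F.x5 a5 * F.x6 a6 b6 * F.x1 t =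
    F.E ⟨a1 + t, a2, b2 + a4 * t + a6 * σ t, a3 + σ a6 * t, a4, b4 + b6 * t, a5, a6, b6, 0, 0, 0⟩ := by
  rw [mul_assoc (F.x1 a1 * F.x2 a2 b2 * F.x3 a3 * F.x4 a4 b4 * F.x5 a5) (F.x6 a6 b6) (F.x1 t), H.w61]
  simp only [← mul_assoc]
  rw [H.s1_5 a1 a2 b2 a3 a4 b4 a5 t]
  rw [show F.E ⟨a1 + t, a2, b2 + a4 * t, a3, a4, b4, a5, 0, 0, 0, 0, 0⟩ *
      F.x6 a6 b6 =
      F.E ⟨a1 + t, a2, b2 + a4 * t, a3, a4, b4, a5, a6, b6, 0, 0, 0⟩ by
    rw [H.R6]
    refine congrArg F.E (Cd.ext ?_ ?_ ?_ ?_ ?_ ?_ ?_ ?_ ?_ ?_ ?_ ?_)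
    · first | with_reducible rfl | ((try simp only [map_add, map_mul, map_pow, map_zero, H.hs]) <;> ring1)
    · first | with_reducible rfl | ((try simp only [map_add, map_mul, map_pow, map_zero, H.hs]) <;> ring1)
    · first | with_reducible rfl | ((try simp only [map_add, map_mul, map_pow, map_zero, H.hs]) <;> ring1)
    · first | with_reducible rfl | ((try simp only [map_add, map_mul, map_pow, map_zero, H.hs]) <;> ring1)
    · first | with_reducible rfl | ((try simp only [map_add, map_mul, map_pow, map_zero, H.hs]) <;> ring1)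
    · first | with_reducible rfl | ((try simp only [map_add, map_mul, map_pow, map_zero, H.hs]) <;> ring1)
    · first | with_reducible rfl | ((try simp only [map_add, map_mul, map_pow, map_zero, H.hs]) <;> ring1)
    · first | with_reducible rfl | ((try simp only [map_add, map_mul, map_pow, map_zero, H.hs]) <;> ring1)
    · first | with_reducible rfl | ((try simp only [map_add, map_mul, map_pow, map_zero, H.hs]) <;> ring1)
    · first | with_reducible rfl | ((try simp only [map_add, map_mul, map_pow, map_zero, H.hs]) <;> ring1)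
    · first | with_reducible rfl | ((try simp only [map_add, map_mul, map_pow, map_zero, H.hs]) <;> ring1)
    · first | with_reducible rfl | ((try simp only [map_add, map_mul, map_pow, map_zero, H.hs]) <;> ring1)
    ]
  rw [show F.E ⟨a1 + t, a2, b2 + a4 * t, a3, a4, b4, a5, a6, b6, 0, 0, 0⟩ *
      F.x4 (0) (t * b6 + a6 * σ a6 * t) =
      F.E ⟨a1 + t, a2, b2 + a4 * t, a3, a4, b4 + b6 * t + a6 * σ a6 * t, a5, a6, b6, 0, 0, 0⟩ by
    rw [H.R4]
    refine congrArg F.E (Cd.ext ?_ ?_ ?_ ?_ ?_ ?_ ?_ ?_ ?_ ?_ ?_ ?_)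
    · first | with_reducible rfl | ((try simp only [map_add, map_mul, map_pow, map_zero, H.hs]) <;> ring1)
    · first | with_reducible rfl | ((try simp only [map_add, map_mul, map_pow, map_zero, H.hs]) <;> ring1)
    · first | with_reducible rfl | ((try simp only [map_add, map_mul, map_pow, map_zero, H.hs]) <;> ring1)
    · first | with_reducible rfl | ((try simp only [map_add, map_mul, map_pow, map_zero, H.hs]) <;> ring1)
    · first | with_reducible rfl | ((try simp only [map_add, map_mul, map_pow, map_zero, H.hs]) <;> ring1)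
    · first | with_reducible rfl | ((try simp only [map_add, map_mul, map_pow, map_zero, H.hs]) <;> ring1)
    · first | with_reducible rfl | ((try simp only [map_add, map_mul, map_pow, map_zero, H.hs]) <;> ring1)
    · first | with_reducible rfl | ((try simp only [map_add, map_mul, map_pow, map_zero, H.hs]) <;> ring1)
    · first | with_reducible rfl | ((try simp only [map_add, map_mul, map_pow, map_zero, H.hs]) <;> ring1)
    · first | with_reducible rfl | ((try simp only [map_add, map_mul, map_pow, map_zero, H.hs]) <;> ring1)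
    · first | with_reducible rfl | ((try simp only [map_add, map_mul, map_pow, map_zero, H.hs]) <;> ring1)
    · first | with_reducible rfl | ((try simp only [map_add, map_mul, map_pow, map_zero, H.hs]) <;> ring1)
    ]
  rw [show F.E ⟨a1 + t, a2, b2 + a4 * t, a3, a4, b4 + b6 * t + a6 * σ a6 * t, a5, a6, b6, 0, 0, 0⟩ *
      F.x3 (σ a6 * t) =
      F.E ⟨a1 + t, a2, b2 + a4 * t, a3 + σ a6 * t, a4, b4 + b6 * t, a5, a6, b6, 0, 0, 0⟩ by
    rw [H.R3]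
    refine congrArg F.E (Cd.ext ?_ ?_ ?_ ?_ ?_ ?_ ?_ ?_ ?_ ?_ ?_ ?_)
    · first | with_reducible rfl | ((try simp only [map_add, map_mul, map_pow, map_zero, H.hs]) <;> ring1)
    · first | with_reducible rfl | ((try simp only [map_add, map_mul, map_pow, map_zero, H.hs]) <;> ring1)
    · first | with_reducible rfl | ((try simp only [map_add, map_mul, map_pow, map_zero, H.hs]) <;> ring1)
    · first | with_reducible rfl | ((try simp only [map_add, map_mul, map_pow, map_zero, H.hs]) <;> ring1)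
    · first | with_reducible rfl | ((try simp only [map_add, map_mul, map_pow, map_zero, H.hs]) <;> ring1)
    · try simp only [map_add, map_mul, map_pow, map_zero, H.hs]
      linear_combination (a6 * σ a6 * t) * H.h2
    · first | with_reducible rfl | ((try simp only [map_add, map_mul, map_pow, map_zero, H.hs]) <;> ring1)
    · first | with_reducible rfl | ((try simp only [map_add, map_mul, map_pow, map_zero, H.hs]) <;> ring1)
    · first | with_reducible rfl | ((try simp only [map_add, map_mul, map_pow, map_zero, H.hs]) <;> ring1)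
    · first | with_reducible rfl | ((try simp only [map_add, map_mul, map_pow, map_zero, H.hs]) <;> ring1)
    · first | with_reducible rfl | ((try simp only [map_add, map_mul, map_pow, map_zero, H.hs]) <;> ring1)
    · first | with_reducible rfl | ((try simp only [map_add, map_mul, map_pow, map_zero, H.hs]) <;> ring1)
    ]
  rw [show F.E ⟨a1 + t, a2, b2 + a4 * t, a3 + σ a6 * t, a4, b4 + b6 * t, a5, a6, b6, 0, 0, 0⟩ *
      F.x2 (0) (a6 * σ t) =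
      F.E ⟨a1 + t, a2, b2 + a4 * t + a6 * σ t, a3 + σ a6 * t, a4, b4 + b6 * t, a5, a6, b6, 0, 0, 0⟩ by
    rw [H.R2]
    refine congrArg F.E (Cd.ext ?_ ?_ ?_ ?_ ?_ ?_ ?_ ?_ ?_ ?_ ?_ ?_)
    · first | with_reducible rfl | ((try simp only [map_add, map_mul, map_pow, map_zero, H.hs]) <;> ring1)
    · first | with_reducible rfl | ((try simp only [map_add, map_mul, map_pow, map_zero, H.hs]) <;> ring1)
    · first | with_reducible rfl | ((try simp only [map_add, map_mul, map_pow, map_zero, H.hs]) <;> ring1)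
    · first | with_reducible rfl | ((try simp only [map_add, map_mul, map_pow, map_zero, H.hs]) <;> ring1)
    · first | with_reducible rfl | ((try simp only [map_add, map_mul, map_pow, map_zero, H.hs]) <;> ring1)
    · first | with_reducible rfl | ((try simp only [map_add, map_mul, map_pow, map_zero, H.hs]) <;> ring1)
    · first | with_reducible rfl | ((try simp only [map_add, map_mul, map_pow, map_zero, H.hs]) <;> ring1)
    · first | with_reducible rfl | ((try simp only [map_add, map_mul, map_pow, map_zero, H.hs]) <;> ring1)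
    · first | with_reducible rfl | ((try simp only [map_add, map_mul, map_pow, map_zero, H.hs]) <;> ring1)
    · first | with_reducible rfl | ((try simp only [map_add, map_mul, map_pow, map_zero, H.hs]) <;> ring1)
    · first | with_reducible rfl | ((try simp only [map_add, map_mul, map_pow, map_zero, H.hs]) <;> ring1)
    · first | with_reducible rfl | ((try simp only [map_add, map_mul, map_pow, map_zero, H.hs]) <;> ring1)
    ]
theorem s1_7 (a1 a2 b2 a3 a4 b4 a5 a6 b6 a7 t : K) : F.x1 a1 * F.x2 a2 b2 * F.x3 a3 * F.x4 a4 b4 * F.x5 a5 * F.x6 a6 b6 * F.x7 a7 * F.x1 t =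
    F.E ⟨a1 + t, a2, b2 + a4 * t + a6 * σ t, a3 + σ a6 * t + a7 * σ t, a4, b4 + b6 * t + a6 * a7 * σ t, a5 + σ a7 * t,
      a6, b6, a7, 0, 0⟩ := by
  rw [mul_assoc (F.x1 a1 * F.x2 a2 b2 * F.x3 a3 * F.x4 a4 b4 * F.x5 a5 * F.x6 a6 b6) (F.x7 a7) (F.x1 t), H.w71]
  simp only [← mul_assoc]
  rw [H.s1_6 a1 a2 b2 a3 a4 b4 a5 a6 b6 t]
  rw [show F.E ⟨a1 + t, a2, b2 + a4 * t + a6 * σ t, a3 + σ a6 * t, a4, b4 + b6 * t, a5, a6, b6, 0, 0, 0⟩ *
      F.x7 a7 =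
      F.E ⟨a1 + t, a2, b2 + a4 * t + a6 * σ t, a3 + σ a6 * t, a4, b4 + b6 * t, a5, a6, b6, a7, 0, 0⟩ by
    rw [H.R7]
    refine congrArg F.E (Cd.ext ?_ ?_ ?_ ?_ ?_ ?_ ?_ ?_ ?_ ?_ ?_ ?_)
    · first | with_reducible rfl | ((try simp only [map_add, map_mul, map_pow, map_zero, H.hs]) <;> ring1)
    · first | with_reducible rfl | ((try simp only [map_add, map_mul, map_pow, map_zero, H.hs]) <;> ring1)
    · first | with_reducible rfl | ((try simp only [map_add, map_mul, map_pow, map_zero, H.hs]) <;> ring1)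
    · first | with_reducible rfl | ((try simp only [map_add, map_mul, map_pow, map_zero, H.hs]) <;> ring1)
    · first | with_reducible rfl | ((try simp only [map_add, map_mul, map_pow, map_zero, H.hs]) <;> ring1)
    · first | with_reducible rfl | ((try simp only [map_add, map_mul, map_pow, map_zero, H.hs]) <;> ring1)
    · first | with_reducible rfl | ((try simp only [map_add, map_mul, map_pow, map_zero, H.hs]) <;> ring1)
    · first | with_reducible rfl | ((try simp only [map_add, map_mul, map_pow, map_zero, H.hs]) <;> ring1)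
    · first | with_reducible rfl | ((try simp only [map_add, map_mul, map_pow, map_zero, H.hs]) <;> ring1)
    · first | with_reducible rfl | ((try simp only [map_add, map_mul, map_pow, map_zero, H.hs]) <;> ring1)
    · first | with_reducible rfl | ((try simp only [map_add, map_mul, map_pow, map_zero, H.hs]) <;> ring1)
    · first | with_reducible rfl | ((try simp only [map_add, map_mul, map_pow, map_zero, H.hs]) <;> ring1)
    ]
  rw [show F.E ⟨a1 + t, a2, b2 + a4 * t + a6 * σ t, a3 + σ a6 * t, a4, b4 + b6 * t, a5, a6, b6, a7, 0, 0⟩ *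
      F.x5 (σ a7 * t) =
      F.E ⟨a1 + t, a2, b2 + a4 * t + a6 * σ t, a3 + σ a6 * t, a4, b4 + b6 * t, a5 + σ a7 * t, a6, b6, a7, 0, 0⟩ by
    rw [H.R5]
    refine congrArg F.E (Cd.ext ?_ ?_ ?_ ?_ ?_ ?_ ?_ ?_ ?_ ?_ ?_ ?_)
    · first | with_reducible rfl | ((try simp only [map_add, map_mul, map_pow, map_zero, H.hs]) <;> ring1)
    · first | with_reducible rfl | ((try simp only [map_add, map_mul, map_pow, map_zero, H.hs]) <;> ring1)
    · first | with_reducible rfl | ((try simp only [map_add, map_mul, map_pow, map_zero, H.hs]) <;> ring1)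
    · first | with_reducible rfl | ((try simp only [map_add, map_mul, map_pow, map_zero, H.hs]) <;> ring1)
    · first | with_reducible rfl | ((try simp only [map_add, map_mul, map_pow, map_zero, H.hs]) <;> ring1)
    · first | with_reducible rfl | ((try simp only [map_add, map_mul, map_pow, map_zero, H.hs]) <;> ring1)
    · first | with_reducible rfl | ((try simp only [map_add, map_mul, map_pow, map_zero, H.hs]) <;> ring1)
    · first | with_reducible rfl | ((try simp only [map_add, map_mul, map_pow, map_zero, H.hs]) <;> ring1)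
    · first | with_reducible rfl | ((try simp only [map_add, map_mul, map_pow, map_zero, H.hs]) <;> ring1)
    · first | with_reducible rfl | ((try simp only [map_add, map_mul, map_pow, map_zero, H.hs]) <;> ring1)
    · first | with_reducible rfl | ((try simp only [map_add, map_mul, map_pow, map_zero, H.hs]) <;> ring1)
    · first | with_reducible rfl | ((try simp only [map_add, map_mul, map_pow, map_zero, H.hs]) <;> ring1)
    ]
  rw [show F.E ⟨a1 + t, a2, b2 + a4 * t + a6 * σ t, a3 + σ a6 * t, a4, b4 + b6 * t, a5 + σ a7 * t, a6, b6, a7, 0, 0⟩ *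
      F.x3 (a7 * σ t) =
      F.E ⟨a1 + t, a2, b2 + a4 * t + a6 * σ t, a3 + σ a6 * t + a7 * σ t, a4, b4 + b6 * t + a6 * a7 * σ t, a5 + σ a7 * t,
      a6, b6, a7, 0, 0⟩ by
    rw [H.R3]
    refine congrArg F.E (Cd.ext ?_ ?_ ?_ ?_ ?_ ?_ ?_ ?_ ?_ ?_ ?_ ?_)
    · first | with_reducible rfl | ((try simp only [map_add, map_mul, map_pow, map_zero, H.hs]) <;> ring1)
    · first | with_reducible rfl | ((try simp only [map_add, map_mul, map_pow, map_zero, H.hs]) <;> ring1)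
    · first | with_reducible rfl | ((try simp only [map_add, map_mul, map_pow, map_zero, H.hs]) <;> ring1)
    · first | with_reducible rfl | ((try simp only [map_add, map_mul, map_pow, map_zero, H.hs]) <;> ring1)
    · first | with_reducible rfl | ((try simp only [map_add, map_mul, map_pow, map_zero, H.hs]) <;> ring1)
    · first | with_reducible rfl | ((try simp only [map_add, map_mul, map_pow, map_zero, H.hs]) <;> ring1)
    · first | with_reducible rfl | ((try simp only [map_add, map_mul, map_pow, map_zero, H.hs]) <;> ring1)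
    · first | with_reducible rfl | ((try simp only [map_add, map_mul, map_pow, map_zero, H.hs]) <;> ring1)
    · first | with_reducible rfl | ((try simp only [map_add, map_mul, map_pow, map_zero, H.hs]) <;> ring1)
    · first | with_reducible rfl | ((try simp only [map_add, map_mul, map_pow, map_zero, H.hs]) <;> ring1)
    · first | with_reducible rfl | ((try simp only [map_add, map_mul, map_pow, map_zero, H.hs]) <;> ring1)
    · first | with_reducible rfl | ((try simp only [map_add, map_mul, map_pow, map_zero, H.hs]) <;> ring1)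
    ]
theorem s1_8 (a1 a2 b2 a3 a4 b4 a5 a6 b6 a7 a8 b8 t : K) : F.x1 a1 * F.x2 a2 b2 * F.x3 a3 * F.x4 a4 b4 * F.x5 a5 * F.x6 a6 b6 * F.x7 a7 * F.x8 a8 b8 * F.x1 t =
    F.E ⟨a1 + t, a2 + a8 * t, b2 + a4 * t + a6 * σ t + a2 * σ a8 * σ t + b8 * t * σ t, a3 + σ a6 * t + a7 * σ t + a4 *
      a8 * t + σ b8 * t * σ t + a8 * b8 * t * σ t + a8 ^ (2:ℕ) * σ a8 * t * σ t, a4 + b8 * σ t, b4 + b6 * t + a5 * a8 *
      t + a6 * a7 * σ t + a4 * σ b8 * t ^ (2:ℕ) + a6 * σ b8 * t * σ t + σ a7 * a8 * t ^ (2:ℕ) + a7 * b8 * t * σ t + a6 * a8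
      * b8 * t * σ t + a7 * a8 * σ a8 * t * σ t + b8 * σ b8 * t ^ (2:ℕ) * σ t + a6 * a8 ^ (2:ℕ) * σ a8 * t * σ t + a8 * b8 ^
      (2:ℕ) * t ^ (2:ℕ) * σ t + a8 * σ a8 * σ b8 * t ^ (2:ℕ) * σ t + a8 ^ (3:ℕ) * (σ a8) ^ (2:ℕ) * t ^ (2:ℕ) * σ t, a5 + σ a7 * t + a6 * b8
      * σ t + a7 * σ a8 * σ t + σ a8 * σ b8 * t * σ t + b8 ^ (2:ℕ) * t * σ t + a8 ^ (2:ℕ) * (σ a8) ^ (2:ℕ) * t * σ t, a6 + b8 *
      t + a8 * σ a8 * t, b6 + a6 * σ b8 * σ t + σ a7 * a8 * t + a7 * b8 * σ t + a6 * a8 ^ (2:ℕ) * σ a8 * σ t + a8 * b8 ^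
      (2:ℕ) * t * σ t + a8 * σ a8 * σ b8 * t * σ t + a8 ^ (3:ℕ) * (σ a8) ^ (2:ℕ) * t * σ t, a7 + σ b8 * t + a8 * b8 * t + a8 ^ (2:ℕ)
      * σ a8 * t, a8, b8⟩ := by
  rw [mul_assoc (F.x1 a1 * F.x2 a2 b2 * F.x3 a3 * F.x4 a4 b4 * F.x5 a5 * F.x6 a6 b6 * F.x7 a7) (F.x8 a8 b8) (F.x1 t), H.w81]
  simp only [← mul_assoc]
  rw [H.s1_7 a1 a2 b2 a3 a4 b4 a5 a6 b6 a7 t]
  rw [show F.E ⟨a1 + t, a2, b2 + a4 * t + a6 * σ t, a3 + σ a6 * t + a7 * σ t, a4, b4 + b6 * t + a6 * a7 * σ t, a5 + σ a7 * t,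
      a6, b6, a7, 0, 0⟩ *
      F.x8 a8 b8 =
      F.E ⟨a1 + t, a2, b2 + a4 * t + a6 * σ t, a3 + σ a6 * t + a7 * σ t, a4, b4 + b6 * t + a6 * a7 * σ t, a5 + σ a7 * t,
      a6, b6, a7, a8, b8⟩ by
    rw [H.R8]
    refine congrArg F.E (Cd.ext ?_ ?_ ?_ ?_ ?_ ?_ ?_ ?_ ?_ ?_ ?_ ?_)
    · first | with_reducible rfl | ((try simp only [map_add, map_mul, map_pow, map_zero, H.hs]) <;> ring1)
    · first | with_reducible rfl | ((try simp only [map_add, map_mul, map_pow, map_zero, H.hs]) <;> ring1)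
    · first | with_reducible rfl | ((try simp only [map_add, map_mul, map_pow, map_zero, H.hs]) <;> ring1)
    · first | with_reducible rfl | ((try simp only [map_add, map_mul, map_pow, map_zero, H.hs]) <;> ring1)
    · first | with_reducible rfl | ((try simp only [map_add, map_mul, map_pow, map_zero, H.hs]) <;> ring1)
    · first | with_reducible rfl | ((try simp only [map_add, map_mul, map_pow, map_zero, H.hs]) <;> ring1)
    · first | with_reducible rfl | ((try simp only [map_add, map_mul, map_pow, map_zero, H.hs]) <;> ring1)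
    · first | with_reducible rfl | ((try simp only [map_add, map_mul, map_pow, map_zero, H.hs]) <;> ring1)
    · first | with_reducible rfl | ((try simp only [map_add, map_mul, map_pow, map_zero, H.hs]) <;> ring1)
    · first | with_reducible rfl | ((try simp only [map_add, map_mul, map_pow, map_zero, H.hs]) <;> ring1)
    · first | with_reducible rfl | ((try simp only [map_add, map_mul, map_pow, map_zero, H.hs]) <;> ring1)
    · first | with_reducible rfl | ((try simp only [map_add, map_mul, map_pow, map_zero, H.hs]) <;> ring1)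
    ]
  rw [show F.E ⟨a1 + t, a2, b2 + a4 * t + a6 * σ t, a3 + σ a6 * t + a7 * σ t, a4, b4 + b6 * t + a6 * a7 * σ t, a5 + σ a7 * t,
      a6, b6, a7, a8, b8⟩ *
      F.x7 (t * σ b8 + a8 * t * b8 + a8 ^ (2:ℕ) * σ a8 * t) =
      F.E ⟨a1 + t, a2, b2 + a4 * t + a6 * σ t, a3 + σ a6 * t + a7 * σ t, a4, b4 + b6 * t + a6 * a7 * σ t, a5 + σ a7 * t,
      a6, b6, a7 + σ b8 * t + a8 * b8 * t + a8 ^ (2:ℕ) * σ a8 * t, a8, b8⟩ by
    rw [H.R7]
    refine congrArg F.E (Cd.ext ?_ ?_ ?_ ?_ ?_ ?_ ?_ ?_ ?_ ?_ ?_ ?_)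
    · first | with_reducible rfl | ((try simp only [map_add, map_mul, map_pow, map_zero, H.hs]) <;> ring1)
    · first | with_reducible rfl | ((try simp only [map_add, map_mul, map_pow, map_zero, H.hs]) <;> ring1)
    · first | with_reducible rfl | ((try simp only [map_add, map_mul, map_pow, map_zero, H.hs]) <;> ring1)
    · first | with_reducible rfl | ((try simp only [map_add, map_mul, map_pow, map_zero, H.hs]) <;> ring1)
    · first | with_reducible rfl | ((try simp only [map_add, map_mul, map_pow, map_zero, H.hs]) <;> ring1)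
    · first | with_reducible rfl | ((try simp only [map_add, map_mul, map_pow, map_zero, H.hs]) <;> ring1)
    · first | with_reducible rfl | ((try simp only [map_add, map_mul, map_pow, map_zero, H.hs]) <;> ring1)
    · first | with_reducible rfl | ((try simp only [map_add, map_mul, map_pow, map_zero, H.hs]) <;> ring1)
    · first | with_reducible rfl | ((try simp only [map_add, map_mul, map_pow, map_zero, H.hs]) <;> ring1)
    · first | with_reducible rfl | ((try simp only [map_add, map_mul, map_pow, map_zero, H.hs]) <;> ring1)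
    · first | with_reducible rfl | ((try simp only [map_add, map_mul, map_pow, map_zero, H.hs]) <;> ring1)
    · first | with_reducible rfl | ((try simp only [map_add, map_mul, map_pow, map_zero, H.hs]) <;> ring1)
    ]
  rw [show F.E ⟨a1 + t, a2, b2 + a4 * t + a6 * σ t, a3 + σ a6 * t + a7 * σ t, a4, b4 + b6 * t + a6 * a7 * σ t, a5 + σ a7 * t,
      a6, b6, a7 + σ b8 * t + a8 * b8 * t + a8 ^ (2:ℕ) * σ a8 * t, a8, b8⟩ *
      F.x6 (t * b8) (t * σ t * b8 * σ b8 + a8 * t * σ t * b8 ^ (2:ℕ) + a8 * σ a8 * t * σ t * σ b8 + a8 ^ (3:ℕ) * (σ a8) ^ (2:ℕ)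
      * t * σ t) =
      F.E ⟨a1 + t, a2, b2 + a4 * t + a6 * σ t, a3 + σ a6 * t + a7 * σ t, a4, b4 + b6 * t + a6 * a7 * σ t, a5 + σ a7 * t,
      a6 + b8 * t, b6 + a6 * σ b8 * σ t + b8 * σ b8 * t * σ t + a8 * b8 ^ (2:ℕ) * t * σ t + a8 * σ a8 * σ b8 * t * σ t +
      a8 ^ (3:ℕ) * (σ a8) ^ (2:ℕ) * t * σ t, a7 + σ b8 * t + a8 ^ (2:ℕ) * σ a8 * t, a8, b8⟩ by
    rw [H.R6]
    refine congrArg F.E (Cd.ext ?_ ?_ ?_ ?_ ?_ ?_ ?_ ?_ ?_ ?_ ?_ ?_)
    · first | with_reducible rfl | ((try simp only [map_add, map_mul, map_pow, map_zero, H.hs]) <;> ring1)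
    · first | with_reducible rfl | ((try simp only [map_add, map_mul, map_pow, map_zero, H.hs]) <;> ring1)
    · first | with_reducible rfl | ((try simp only [map_add, map_mul, map_pow, map_zero, H.hs]) <;> ring1)
    · first | with_reducible rfl | ((try simp only [map_add, map_mul, map_pow, map_zero, H.hs]) <;> ring1)
    · first | with_reducible rfl | ((try simp only [map_add, map_mul, map_pow, map_zero, H.hs]) <;> ring1)
    · first | with_reducible rfl | ((try simp only [map_add, map_mul, map_pow, map_zero, H.hs]) <;> ring1)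
    · first | with_reducible rfl | ((try simp only [map_add, map_mul, map_pow, map_zero, H.hs]) <;> ring1)
    · first | with_reducible rfl | ((try simp only [map_add, map_mul, map_pow, map_zero, H.hs]) <;> ring1)
    · first | with_reducible rfl | ((try simp only [map_add, map_mul, map_pow, map_zero, H.hs]) <;> ring1)
    · try simp only [map_add, map_mul, map_pow, map_zero, H.hs]
      linear_combination (a8 * b8 * t) * H.h2
    · first | with_reducible rfl | ((try simp only [map_add, map_mul, map_pow, map_zero, H.hs]) <;> ring1)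
    · first | with_reducible rfl | ((try simp only [map_add, map_mul, map_pow, map_zero, H.hs]) <;> ring1)
    ]
  rw [show F.E ⟨a1 + t, a2, b2 + a4 * t + a6 * σ t, a3 + σ a6 * t + a7 * σ t, a4, b4 + b6 * t + a6 * a7 * σ t, a5 + σ a7 * t,
      a6 + b8 * t, b6 + a6 * σ b8 * σ t + b8 * σ b8 * t * σ t + a8 * b8 ^ (2:ℕ) * t * σ t + a8 * σ a8 * σ b8 * t * σ t +
      a8 ^ (3:ℕ) * (σ a8) ^ (2:ℕ) * t * σ t, a7 + σ b8 * t + a8 ^ (2:ℕ) * σ a8 * t, a8, b8⟩ *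
      F.x5 (σ a8 * t * σ t * σ b8 + t * σ t * b8 ^ (2:ℕ) + a8 ^ (2:ℕ) * (σ a8) ^ (2:ℕ) * t * σ t) =
      F.E ⟨a1 + t, a2, b2 + a4 * t + a6 * σ t, a3 + σ a6 * t + a7 * σ t, a4, b4 + b6 * t + a6 * a7 * σ t, a5 + σ a7 * t
      + σ a8 * σ b8 * t * σ t + b8 ^ (2:ℕ) * t * σ t + a8 ^ (2:ℕ) * (σ a8) ^ (2:ℕ) * t * σ t, a6 + b8 * t, b6 + a6 * σ b8 * σ t
      + b8 * σ b8 * t * σ t, a7 + σ b8 * t + a8 ^ (2:ℕ) * σ a8 * t, a8, b8⟩ by
    rw [H.R5]
    refine congrArg F.E (Cd.ext ?_ ?_ ?_ ?_ ?_ ?_ ?_ ?_ ?_ ?_ ?_ ?_)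
    · first | with_reducible rfl | ((try simp only [map_add, map_mul, map_pow, map_zero, H.hs]) <;> ring1)
    · first | with_reducible rfl | ((try simp only [map_add, map_mul, map_pow, map_zero, H.hs]) <;> ring1)
    · first | with_reducible rfl | ((try simp only [map_add, map_mul, map_pow, map_zero, H.hs]) <;> ring1)
    · first | with_reducible rfl | ((try simp only [map_add, map_mul, map_pow, map_zero, H.hs]) <;> ring1)
    · first | with_reducible rfl | ((try simp only [map_add, map_mul, map_pow, map_zero, H.hs]) <;> ring1)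
    · first | with_reducible rfl | ((try simp only [map_add, map_mul, map_pow, map_zero, H.hs]) <;> ring1)
    · first | with_reducible rfl | ((try simp only [map_add, map_mul, map_pow, map_zero, H.hs]) <;> ring1)
    · first | with_reducible rfl | ((try simp only [map_add, map_mul, map_pow, map_zero, H.hs]) <;> ring1)
    · try simp only [map_add, map_mul, map_pow, map_zero, H.hs]
      linear_combination (a8 * b8 ^ (2:ℕ) * t * σ t + a8 * σ a8 * σ b8 * t * σ t + a8 ^ (3:ℕ) * (σ a8) ^ (2:ℕ) * t * σ t) * H.h2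
    · first | with_reducible rfl | ((try simp only [map_add, map_mul, map_pow, map_zero, H.hs]) <;> ring1)
    · first | with_reducible rfl | ((try simp only [map_add, map_mul, map_pow, map_zero, H.hs]) <;> ring1)
    · first | with_reducible rfl | ((try simp only [map_add, map_mul, map_pow, map_zero, H.hs]) <;> ring1)
    ]
  rw [show F.E ⟨a1 + t, a2, b2 + a4 * t + a6 * σ t, a3 + σ a6 * t + a7 * σ t, a4, b4 + b6 * t + a6 * a7 * σ t, a5 + σ a7 * t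
      + σ a8 * σ b8 * t * σ t + b8 ^ (2:ℕ) * t * σ t + a8 ^ (2:ℕ) * (σ a8) ^ (2:ℕ) * t * σ t, a6 + b8 * t, b6 + a6 * σ b8 * σ t
      + b8 * σ b8 * t * σ t, a7 + σ b8 * t + a8 ^ (2:ℕ) * σ a8 * t, a8, b8⟩ *
      F.x4 (σ t * b8 + a8 * σ a8 * σ t) (a8 * t ^ (2:ℕ) * σ t * b8 ^ (2:ℕ) + a8 * σ a8 * t ^ (2:ℕ) * σ t * σ b8 + a8 ^ (3:ℕ) * (σ
      a8) ^ (2:ℕ) * t ^ (2:ℕ) * σ t) =
      F.E ⟨a1 + t, a2, b2 + a4 * t + a6 * σ t, a3 + σ a6 * t + a7 * σ t, a4 + b8 * σ t + a8 * σ a8 * σ t, b4 + b6 * t +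
      a6 * a7 * σ t + a4 * σ b8 * t ^ (2:ℕ) + a4 * a8 ^ (2:ℕ) * σ a8 * t ^ (2:ℕ) + a8 * b8 ^ (2:ℕ) * t ^ (2:ℕ) * σ t + a8 * σ a8 * σ b8
      * t ^ (2:ℕ) * σ t + a8 ^ (3:ℕ) * (σ a8) ^ (2:ℕ) * t ^ (2:ℕ) * σ t, a5 + σ a7 * t + a6 * b8 * σ t + a6 * a8 * σ a8 * σ t + σ a8
      * σ b8 * t * σ t + a8 * σ a8 * b8 * t * σ t + a8 ^ (2:ℕ) * (σ a8) ^ (2:ℕ) * t * σ t, a6 + b8 * t, b6 + a6 * σ b8 * σ t
      + a7 * b8 * σ t + a7 * a8 * σ a8 * σ t + a8 * σ a8 * σ b8 * t * σ t + a8 ^ (2:ℕ) * σ a8 * b8 * t * σ t + a8 ^ (3:ℕ) *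
      (σ a8) ^ (2:ℕ) * t * σ t, a7 + σ b8 * t + a8 ^ (2:ℕ) * σ a8 * t, a8, b8⟩ by
    rw [H.R4]
    refine congrArg F.E (Cd.ext ?_ ?_ ?_ ?_ ?_ ?_ ?_ ?_ ?_ ?_ ?_ ?_)
    · first | with_reducible rfl | ((try simp only [map_add, map_mul, map_pow, map_zero, H.hs]) <;> ring1)
    · first | with_reducible rfl | ((try simp only [map_add, map_mul, map_pow, map_zero, H.hs]) <;> ring1)
    · first | with_reducible rfl | ((try simp only [map_add, map_mul, map_pow, map_zero, H.hs]) <;> ring1)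
    · first | with_reducible rfl | ((try simp only [map_add, map_mul, map_pow, map_zero, H.hs]) <;> ring1)
    · first | with_reducible rfl | ((try simp only [map_add, map_mul, map_pow, map_zero, H.hs]) <;> ring1)
    · first | with_reducible rfl | ((try simp only [map_add, map_mul, map_pow, map_zero, H.hs]) <;> ring1)
    · try simp only [map_add, map_mul, map_pow, map_zero, H.hs]
      linear_combination (b8 ^ (2:ℕ) * t * σ t) * H.h2
    · first | with_reducible rfl | ((try simp only [map_add, map_mul, map_pow, map_zero, H.hs]) <;> ring1)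
    · try simp only [map_add, map_mul, map_pow, map_zero, H.hs]
      linear_combination (b8 * σ b8 * t * σ t) * H.h2
    · first | with_reducible rfl | ((try simp only [map_add, map_mul, map_pow, map_zero, H.hs]) <;> ring1)
    · first | with_reducible rfl | ((try simp only [map_add, map_mul, map_pow, map_zero, H.hs]) <;> ring1)
    · first | with_reducible rfl | ((try simp only [map_add, map_mul, map_pow, map_zero, H.hs]) <;> ring1)
    ]
  rw [show F.E ⟨a1 + t, a2, b2 + a4 * t + a6 * σ t, a3 + σ a6 * t + a7 * σ t, a4 + b8 * σ t + a8 * σ a8 * σ t, b4 + b6 * t +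
      a6 * a7 * σ t + a4 * σ b8 * t ^ (2:ℕ) + a4 * a8 ^ (2:ℕ) * σ a8 * t ^ (2:ℕ) + a8 * b8 ^ (2:ℕ) * t ^ (2:ℕ) * σ t + a8 * σ a8 * σ b8
      * t ^ (2:ℕ) * σ t + a8 ^ (3:ℕ) * (σ a8) ^ (2:ℕ) * t ^ (2:ℕ) * σ t, a5 + σ a7 * t + a6 * b8 * σ t + a6 * a8 * σ a8 * σ t + σ a8
      * σ b8 * t * σ t + a8 * σ a8 * b8 * t * σ t + a8 ^ (2:ℕ) * (σ a8) ^ (2:ℕ) * t * σ t, a6 + b8 * t, b6 + a6 * σ b8 * σ t
      + a7 * b8 * σ t + a7 * a8 * σ a8 * σ t + a8 * σ a8 * σ b8 * t * σ t + a8 ^ (2:ℕ) * σ a8 * b8 * t * σ t + a8 ^ (3:ℕ) *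
      (σ a8) ^ (2:ℕ) * t * σ t, a7 + σ b8 * t + a8 ^ (2:ℕ) * σ a8 * t, a8, b8⟩ *
      F.x3 (t * σ t * σ b8 + a8 * t * σ t * b8 + a8 ^ (2:ℕ) * σ a8 * t * σ t) =
      F.E ⟨a1 + t, a2, b2 + a4 * t + a6 * σ t, a3 + σ a6 * t + a7 * σ t + σ b8 * t * σ t + a8 * b8 * t * σ t + a8 ^ (2:ℕ) *
      σ a8 * t * σ t, a4 + b8 * σ t + a8 * σ a8 * σ t, b4 + b6 * t + a6 * a7 * σ t + a4 * σ b8 * t ^ (2:ℕ) + a6 * σ b8 *
      t * σ t + a6 * a8 * b8 * t * σ t + b8 * σ b8 * t ^ (2:ℕ) * σ t + a4 * a8 ^ (2:ℕ) * σ a8 * t ^ (2:ℕ) + a6 * a8 ^ (2:ℕ) * σ a8 *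
      t * σ t + a8 * b8 ^ (2:ℕ) * t ^ (2:ℕ) * σ t + a8 ^ (2:ℕ) * σ a8 * b8 * t ^ (2:ℕ) * σ t, a5 + σ a7 * t + a6 * b8 * σ t + a6 *
      a8 * σ a8 * σ t, a6 + b8 * t, b6 + a6 * σ b8 * σ t + a7 * b8 * σ t + a7 * a8 * σ a8 * σ t + b8 * σ b8 * t * σ
      t + a8 * b8 ^ (2:ℕ) * t * σ t + a8 * σ a8 * σ b8 * t * σ t + a8 ^ (3:ℕ) * (σ a8) ^ (2:ℕ) * t * σ t, a7 + σ b8 * t + a8 ^ (2:ℕ)
      * σ a8 * t, a8, b8⟩ by
    rw [H.R3]
    refine congrArg F.E (Cd.ext ?_ ?_ ?_ ?_ ?_ ?_ ?_ ?_ ?_ ?_ ?_ ?_)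
    · first | with_reducible rfl | ((try simp only [map_add, map_mul, map_pow, map_zero, H.hs]) <;> ring1)
    · first | with_reducible rfl | ((try simp only [map_add, map_mul, map_pow, map_zero, H.hs]) <;> ring1)
    · first | with_reducible rfl | ((try simp only [map_add, map_mul, map_pow, map_zero, H.hs]) <;> ring1)
    · first | with_reducible rfl | ((try simp only [map_add, map_mul, map_pow, map_zero, H.hs]) <;> ring1)
    · first | with_reducible rfl | ((try simp only [map_add, map_mul, map_pow, map_zero, H.hs]) <;> ring1)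
    · try simp only [map_add, map_mul, map_pow, map_zero, H.hs]
      linear_combination (a8 * b8 ^ (2:ℕ) * t ^ (2:ℕ) * σ t + a8 * σ a8 * σ b8 * t ^ (2:ℕ) * σ t + a8 ^ (3:ℕ) * (σ a8) ^ (2:ℕ) * t ^ (2:ℕ) * σ t) * H.h2
    · try simp only [map_add, map_mul, map_pow, map_zero, H.hs]
      linear_combination (σ a8 * σ b8 * t * σ t + a8 * σ a8 * b8 * t * σ t + a8 ^ (2:ℕ) * (σ a8) ^ (2:ℕ) * t * σ t) * H.h2
    · first | with_reducible rfl | ((try simp only [map_add, map_mul, map_pow, map_zero, H.hs]) <;> ring1)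
    · try simp only [map_add, map_mul, map_pow, map_zero, H.hs]
      linear_combination (a8 ^ (2:ℕ) * σ a8 * b8 * t * σ t) * H.h2
    · first | with_reducible rfl | ((try simp only [map_add, map_mul, map_pow, map_zero, H.hs]) <;> ring1)
    · first | with_reducible rfl | ((try simp only [map_add, map_mul, map_pow, map_zero, H.hs]) <;> ring1)
    · first | with_reducible rfl | ((try simp only [map_add, map_mul, map_pow, map_zero, H.hs]) <;> ring1)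
    ]
  rw [show F.E ⟨a1 + t, a2, b2 + a4 * t + a6 * σ t, a3 + σ a6 * t + a7 * σ t + σ b8 * t * σ t + a8 * b8 * t * σ t + a8 ^ (2:ℕ) *
      σ a8 * t * σ t, a4 + b8 * σ t + a8 * σ a8 * σ t, b4 + b6 * t + a6 * a7 * σ t + a4 * σ b8 * t ^ (2:ℕ) + a6 * σ b8 *
      t * σ t + a6 * a8 * b8 * t * σ t + b8 * σ b8 * t ^ (2:ℕ) * σ t + a4 * a8 ^ (2:ℕ) * σ a8 * t ^ (2:ℕ) + a6 * a8 ^ (2:ℕ) * σ a8 *
      t * σ t + a8 * b8 ^ (2:ℕ) * t ^ (2:ℕ) * σ t + a8 ^ (2:ℕ) * σ a8 * b8 * t ^ (2:ℕ) * σ t, a5 + σ a7 * t + a6 * b8 * σ t + a6 *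
      a8 * σ a8 * σ t, a6 + b8 * t, b6 + a6 * σ b8 * σ t + a7 * b8 * σ t + a7 * a8 * σ a8 * σ t + b8 * σ b8 * t * σ
      t + a8 * b8 ^ (2:ℕ) * t * σ t + a8 * σ a8 * σ b8 * t * σ t + a8 ^ (3:ℕ) * (σ a8) ^ (2:ℕ) * t * σ t, a7 + σ b8 * t + a8 ^ (2:ℕ)
      * σ a8 * t, a8, b8⟩ *
      F.x2 (a8 * t) (t * σ t * b8) =
      F.E ⟨a1 + t, a2 + a8 * t, b2 + a4 * t + a6 * σ t + a2 * σ a8 * σ t + b8 * t * σ t, a3 + σ a6 * t + a7 * σ t + a4 *
      a8 * t + σ b8 * t * σ t + a8 * b8 * t * σ t + a8 ^ (2:ℕ) * σ a8 * t * σ t, a4 + b8 * σ t, b4 + b6 * t + a5 * a8 *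
      t + a6 * a7 * σ t + a4 * σ b8 * t ^ (2:ℕ) + a6 * σ b8 * t * σ t + σ a7 * a8 * t ^ (2:ℕ) + a7 * b8 * t * σ t + a6 * a8
      * b8 * t * σ t + a7 * a8 * σ a8 * t * σ t + b8 * σ b8 * t ^ (2:ℕ) * σ t + a6 * a8 ^ (2:ℕ) * σ a8 * t * σ t + a8 * b8 ^
      (2:ℕ) * t ^ (2:ℕ) * σ t + a8 * σ a8 * σ b8 * t ^ (2:ℕ) * σ t + a8 ^ (3:ℕ) * (σ a8) ^ (2:ℕ) * t ^ (2:ℕ) * σ t, a5 + σ a7 * t + a6 * b8
      * σ t + a7 * σ a8 * σ t + σ a8 * σ b8 * t * σ t + b8 ^ (2:ℕ) * t * σ t + a8 ^ (2:ℕ) * (σ a8) ^ (2:ℕ) * t * σ t, a6 + b8 *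
      t + a8 * σ a8 * t, b6 + a6 * σ b8 * σ t + σ a7 * a8 * t + a7 * b8 * σ t + a6 * a8 ^ (2:ℕ) * σ a8 * σ t + a8 * b8 ^
      (2:ℕ) * t * σ t + a8 * σ a8 * σ b8 * t * σ t + a8 ^ (3:ℕ) * (σ a8) ^ (2:ℕ) * t * σ t, a7 + σ b8 * t + a8 * b8 * t + a8 ^ (2:ℕ)
      * σ a8 * t, a8, b8⟩ by
    rw [H.R2]
    refine congrArg F.E (Cd.ext ?_ ?_ ?_ ?_ ?_ ?_ ?_ ?_ ?_ ?_ ?_ ?_)
    · first | with_reducible rfl | ((try simp only [map_add, map_mul, map_pow, map_zero, H.hs]) <;> ring1)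
    · first | with_reducible rfl | ((try simp only [map_add, map_mul, map_pow, map_zero, H.hs]) <;> ring1)
    · first | with_reducible rfl | ((try simp only [map_add, map_mul, map_pow, map_zero, H.hs]) <;> ring1)
    · try simp only [map_add, map_mul, map_pow, map_zero, H.hs]
      linear_combination (a8 * b8 * t * σ t + a8 ^ (2:ℕ) * σ a8 * t * σ t) * H.h2
    · try simp only [map_add, map_mul, map_pow, map_zero, H.hs]
      linear_combination (a8 * σ a8 * σ t) * H.h2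
    · try simp only [map_add, map_mul, map_pow, map_zero, H.hs]
      linear_combination (a4 * a8 ^ (2:ℕ) * σ a8 * t ^ (2:ℕ) + a6 * a8 * b8 * t * σ t + a6 * a8 ^ (2:ℕ) * σ a8 * t * σ t + a8 * b8 ^ (2:ℕ) * t ^ (2:ℕ) * σ t
      + 3 * a8 ^ (2:ℕ) * σ a8 * b8 * t ^ (2:ℕ) * σ t + a8 ^ (3:ℕ) * (σ a8) ^ (2:ℕ) * t ^ (2:ℕ) * σ t + b8 * σ b8 * t ^ (2:ℕ) * σ t) * H.h2
    · try simp only [map_add, map_mul, map_pow, map_zero, H.hs]
      linear_combination (a6 * a8 * σ a8 * σ t + a8 * σ a8 * b8 * t * σ t) * H.h2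
    · first | with_reducible rfl | ((try simp only [map_add, map_mul, map_pow, map_zero, H.hs]) <;> ring1)
    · try simp only [map_add, map_mul, map_pow, map_zero, H.hs]
      linear_combination (a7 * a8 * σ a8 * σ t + a8 * b8 ^ (2:ℕ) * t * σ t + a8 * σ a8 * σ b8 * t * σ t + a8 ^ (2:ℕ) * σ a8 * b8 * t * σ t + a8
      ^ (3:ℕ) * (σ a8) ^ (2:ℕ) * t * σ t + b8 * σ b8 * t * σ t) * H.h2
    · first | with_reducible rfl | ((try simp only [map_add, map_mul, map_pow, map_zero, H.hs]) <;> ring1)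
    · first | with_reducible rfl | ((try simp only [map_add, map_mul, map_pow, map_zero, H.hs]) <;> ring1)
    · first | with_reducible rfl | ((try simp only [map_add, map_mul, map_pow, map_zero, H.hs]) <;> ring1)
    ]
/-- right multiplication by a root element of `X1` -/
theorem R1 (c : Cd K) (t : K) : F.E c * F.x1 t =
    F.E ⟨c.a1 + t, c.a2 + c.a8 * t, c.b2 + c.a4 * t + c.a6 * σ t + c.a2 * σ c.a8 * σ t + c.b8 * t * σ t, c.a3 + σ c.a6
      * t + c.a7 * σ t + c.a4 * c.a8 * t + σ c.b8 * t * σ t + c.a8 * c.b8 * t * σ t + c.a8 ^ (2:ℕ) * σ c.a8 * t * σ t,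
      c.a4 + c.b8 * σ t, c.b4 + c.b6 * t + c.a5 * c.a8 * t + c.a6 * c.a7 * σ t + c.a4 * σ c.b8 * t ^ (2:ℕ) + c.a6 * σ
      c.b8 * t * σ t + σ c.a7 * c.a8 * t ^ (2:ℕ) + c.a7 * c.b8 * t * σ t + c.a6 * c.a8 * c.b8 * t * σ t + c.a7 * c.a8 *
      σ c.a8 * t * σ t + c.b8 * σ c.b8 * t ^ (2:ℕ) * σ t + c.a6 * c.a8 ^ (2:ℕ) * σ c.a8 * t * σ t + c.a8 * c.b8 ^ (2:ℕ) * t ^ (2:ℕ)
      * σ t + c.a8 * σ c.a8 * σ c.b8 * t ^ (2:ℕ) * σ t + c.a8 ^ (3:ℕ) * (σ c.a8) ^ (2:ℕ) * t ^ (2:ℕ) * σ t, c.a5 + σ c.a7 * t + c.a6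
      * c.b8 * σ t + c.a7 * σ c.a8 * σ t + σ c.a8 * σ c.b8 * t * σ t + c.b8 ^ (2:ℕ) * t * σ t + c.a8 ^ (2:ℕ) * (σ c.a8) ^ (2:ℕ)
      * t * σ t, c.a6 + c.b8 * t + c.a8 * σ c.a8 * t, c.b6 + c.a6 * σ c.b8 * σ t + σ c.a7 * c.a8 * t + c.a7 * c.b8 *
      σ t + c.a6 * c.a8 ^ (2:ℕ) * σ c.a8 * σ t + c.a8 * c.b8 ^ (2:ℕ) * t * σ t + c.a8 * σ c.a8 * σ c.b8 * t * σ t + c.a8 ^ (3:ℕ)
      * (σ c.a8) ^ (2:ℕ) * t * σ t, c.a7 + σ c.b8 * t + c.a8 * c.b8 * t + c.a8 ^ (2:ℕ) * σ c.a8 * t, c.a8, c.b8⟩ :=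
  H.s1_8 c.a1 c.a2 c.b2 c.a3 c.a4 c.b4 c.a5 c.a6 c.b6 c.a7 c.a8 c.b8 t

end Ok

end Cfsg.Agent.H181.TF
end

private theorem dce_a46fd2620e12 : _root_.True := by
  try have : _root_.True := by simp only [_root_.Cfsg.Agent.H181.TF.Fam.E.eq_1]
  exact _root_.True.intro
end

-- part: H181/TF/Mul
section
prune_inst 0x30104500652202000818008403003c22b200009000084001b06007020f8f5c00a4470821fab02d1088c88ed46838006001100190426800002a000800011d00a080234200827cad0436008f80a000000000000000000000000000000000041004000000000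
set_option linter.all false
open scoped Cfsg.Agent.FastGrp

/-!
# S5262: the product in coordinates, main statements (helper181)

`Ok.E_mul`, `Ok.E_inv` for a family with `OctRel`; `el_mul`, `el_inv`, `el_one` for `T : TF σ U`.
-/

set_option autoImplicit false
set_option linter.all false
set_option maxHeartbeats 1000000

namespace Cfsg.Agent.H181.TF

open Cfsg.Agent.H745.TF Cfsg.Agent.Octagon.Pkg

universe u v

namespace Ok

variable {K : Type u} [Field K] {σ : K →+* K} {G : Type v} [Group G] {F : Fam K G} (H : Ok σ F)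
include H

theorem E_one : F.E ⟨0, 0, 0, 0, 0, 0, 0, 0, 0, 0, 0, 0⟩ = 1 := by
  simp only [Fam.E, H.z1, H.z2, H.z3, H.z4, H.z5, H.z6, H.z7, H.z8, mul_one]

theorem E_mul (c d : Cd K) : F.E c * F.E d = F.E (mul σ c d) := by
  change F.E ⟨c.a1, c.a2, c.b2, c.a3, c.a4, c.b4, c.a5, c.a6, c.b6, c.a7, c.a8, c.b8⟩ *
    (F.x1 d.a1 * F.x2 d.a2 d.b2 * F.x3 d.a3 * F.x4 d.a4 d.b4 * F.x5 d.a5 * F.x6 d.a6 d.b6 * F.x7 d.a7 * F.x8 d.a8 d.b8) = _
  simp only [← mul_assoc]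
  rw [show F.E ⟨c.a1, c.a2, c.b2, c.a3, c.a4, c.b4, c.a5, c.a6, c.b6, c.a7, c.a8, c.b8⟩ *
      F.x1 d.a1 =
      F.E ⟨c.a1 + d.a1, c.a2 + c.a8 * d.a1, c.b2 + c.a4 * d.a1 + c.a6 * σ d.a1 + c.a2 * σ c.a8 * σ d.a1 + c.b8 * d.a1 *
      σ d.a1, c.a3 + σ c.a6 * d.a1 + c.a7 * σ d.a1 + c.a4 * c.a8 * d.a1 + σ c.b8 * d.a1 * σ d.a1 + c.a8 * c.b8 *
      d.a1 * σ d.a1 + c.a8 ^ (2:ℕ) * σ c.a8 * d.a1 * σ d.a1, c.a4 + c.b8 * σ d.a1, c.b4 + c.b6 * d.a1 + c.a5 * c.a8 *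
      d.a1 + c.a6 * c.a7 * σ d.a1 + c.a4 * σ c.b8 * d.a1 ^ (2:ℕ) + c.a6 * σ c.b8 * d.a1 * σ d.a1 + σ c.a7 * c.a8 * d.a1
      ^ (2:ℕ) + c.a7 * c.b8 * d.a1 * σ d.a1 + c.a6 * c.a8 * c.b8 * d.a1 * σ d.a1 + c.a7 * c.a8 * σ c.a8 * d.a1 * σ d.a1
      + c.b8 * σ c.b8 * d.a1 ^ (2:ℕ) * σ d.a1 + c.a6 * c.a8 ^ (2:ℕ) * σ c.a8 * d.a1 * σ d.a1 + c.a8 * c.b8 ^ (2:ℕ) * d.a1 ^ (2:ℕ) *
      σ d.a1 + c.a8 * σ c.a8 * σ c.b8 * d.a1 ^ (2:ℕ) * σ d.a1 + c.a8 ^ (3:ℕ) * (σ c.a8) ^ (2:ℕ) * d.a1 ^ (2:ℕ) * σ d.a1, c.a5 + σ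
      c.a7 * d.a1 + c.a6 * c.b8 * σ d.a1 + c.a7 * σ c.a8 * σ d.a1 + σ c.a8 * σ c.b8 * d.a1 * σ d.a1 + c.b8 ^ (2:ℕ) *
      d.a1 * σ d.a1 + c.a8 ^ (2:ℕ) * (σ c.a8) ^ (2:ℕ) * d.a1 * σ d.a1, c.a6 + c.b8 * d.a1 + c.a8 * σ c.a8 * d.a1, c.b6 +
      c.a6 * σ c.b8 * σ d.a1 + σ c.a7 * c.a8 * d.a1 + c.a7 * c.b8 * σ d.a1 + c.a6 * c.a8 ^ (2:ℕ) * σ c.a8 * σ d.a1 +
      c.a8 * c.b8 ^ (2:ℕ) * d.a1 * σ d.a1 + c.a8 * σ c.a8 * σ c.b8 * d.a1 * σ d.a1 + c.a8 ^ (3:ℕ) * (σ c.a8) ^ (2:ℕ) * d.a1 * σ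
      d.a1, c.a7 + σ c.b8 * d.a1 + c.a8 * c.b8 * d.a1 + c.a8 ^ (2:ℕ) * σ c.a8 * d.a1, c.a8, c.b8⟩ by
    refine (H.R1 _ _).trans ?_
    refine congrArg F.E (Cd.ext ?_ ?_ ?_ ?_ ?_ ?_ ?_ ?_ ?_ ?_ ?_ ?_)
    · first | with_reducible rfl | ((try simp only [map_add, map_mul, map_pow, map_zero, H.hs]) <;> ring1)
    · first | with_reducible rfl | ((try simp only [map_add, map_mul, map_pow, map_zero, H.hs]) <;> ring1)
    · first | with_reducible rfl | ((try simp only [map_add, map_mul, map_pow, map_zero, H.hs]) <;> ring1)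
    · first | with_reducible rfl | ((try simp only [map_add, map_mul, map_pow, map_zero, H.hs]) <;> ring1)
    · first | with_reducible rfl | ((try simp only [map_add, map_mul, map_pow, map_zero, H.hs]) <;> ring1)
    · first | with_reducible rfl | ((try simp only [map_add, map_mul, map_pow, map_zero, H.hs]) <;> ring1)
    · first | with_reducible rfl | ((try simp only [map_add, map_mul, map_pow, map_zero, H.hs]) <;> ring1)
    · first | with_reducible rfl | ((try simp only [map_add, map_mul, map_pow, map_zero, H.hs]) <;> ring1)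
    · first | with_reducible rfl | ((try simp only [map_add, map_mul, map_pow, map_zero, H.hs]) <;> ring1)
    · first | with_reducible rfl | ((try simp only [map_add, map_mul, map_pow, map_zero, H.hs]) <;> ring1)
    · first | with_reducible rfl | ((try simp only [map_add, map_mul, map_pow, map_zero, H.hs]) <;> ring1)
    · first | with_reducible rfl | ((try simp only [map_add, map_mul, map_pow, map_zero, H.hs]) <;> ring1)
    ]
  rw [show F.E ⟨c.a1 + d.a1, c.a2 + c.a8 * d.a1, c.b2 + c.a4 * d.a1 + c.a6 * σ d.a1 + c.a2 * σ c.a8 * σ d.a1 + c.b8 * d.a1 *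
      σ d.a1, c.a3 + σ c.a6 * d.a1 + c.a7 * σ d.a1 + c.a4 * c.a8 * d.a1 + σ c.b8 * d.a1 * σ d.a1 + c.a8 * c.b8 *
      d.a1 * σ d.a1 + c.a8 ^ (2:ℕ) * σ c.a8 * d.a1 * σ d.a1, c.a4 + c.b8 * σ d.a1, c.b4 + c.b6 * d.a1 + c.a5 * c.a8 *
      d.a1 + c.a6 * c.a7 * σ d.a1 + c.a4 * σ c.b8 * d.a1 ^ (2:ℕ) + c.a6 * σ c.b8 * d.a1 * σ d.a1 + σ c.a7 * c.a8 * d.a1
      ^ (2:ℕ) + c.a7 * c.b8 * d.a1 * σ d.a1 + c.a6 * c.a8 * c.b8 * d.a1 * σ d.a1 + c.a7 * c.a8 * σ c.a8 * d.a1 * σ d.a1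
      + c.b8 * σ c.b8 * d.a1 ^ (2:ℕ) * σ d.a1 + c.a6 * c.a8 ^ (2:ℕ) * σ c.a8 * d.a1 * σ d.a1 + c.a8 * c.b8 ^ (2:ℕ) * d.a1 ^ (2:ℕ) *
      σ d.a1 + c.a8 * σ c.a8 * σ c.b8 * d.a1 ^ (2:ℕ) * σ d.a1 + c.a8 ^ (3:ℕ) * (σ c.a8) ^ (2:ℕ) * d.a1 ^ (2:ℕ) * σ d.a1, c.a5 + σ
      c.a7 * d.a1 + c.a6 * c.b8 * σ d.a1 + c.a7 * σ c.a8 * σ d.a1 + σ c.a8 * σ c.b8 * d.a1 * σ d.a1 + c.b8 ^ (2:ℕ) *
      d.a1 * σ d.a1 + c.a8 ^ (2:ℕ) * (σ c.a8) ^ (2:ℕ) * d.a1 * σ d.a1, c.a6 + c.b8 * d.a1 + c.a8 * σ c.a8 * d.a1, c.b6 +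
      c.a6 * σ c.b8 * σ d.a1 + σ c.a7 * c.a8 * d.a1 + c.a7 * c.b8 * σ d.a1 + c.a6 * c.a8 ^ (2:ℕ) * σ c.a8 * σ d.a1 +
      c.a8 * c.b8 ^ (2:ℕ) * d.a1 * σ d.a1 + c.a8 * σ c.a8 * σ c.b8 * d.a1 * σ d.a1 + c.a8 ^ (3:ℕ) * (σ c.a8) ^ (2:ℕ) * d.a1 * σ
      d.a1, c.a7 + σ c.b8 * d.a1 + c.a8 * c.b8 * d.a1 + c.a8 ^ (2:ℕ) * σ c.a8 * d.a1, c.a8, c.b8⟩ *
      F.x2 d.a2 d.b2 =
      F.E ⟨c.a1 + d.a1, c.a2 + d.a2 + c.a8 * d.a1, c.b2 + d.b2 + c.a2 * σ d.a2 + c.a4 * d.a1 + c.a6 * σ d.a1 + c.a2 * σ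
      c.a8 * σ d.a1 + c.a8 * d.a1 * σ d.a2 + c.b8 * d.a1 * σ d.a1, c.a3 + c.a4 * d.a2 + σ c.a6 * d.a1 + c.a7 * σ
      d.a1 + c.a8 * d.b2 + c.a4 * c.a8 * d.a1 + c.a8 * d.a2 * σ d.a2 + σ c.b8 * d.a1 * σ d.a1 + c.b8 * σ d.a1 * d.a2
      + c.a8 * c.b8 * d.a1 * σ d.a1 + c.a8 ^ (2:ℕ) * σ c.a8 * d.a1 * σ d.a1, c.a4 + c.a8 * σ d.a2 + c.b8 * σ d.a1, c.b4
      + c.a5 * d.a2 + c.a7 * d.b2 + c.b6 * d.a1 + c.b8 * σ d.b2 + c.a5 * c.a8 * d.a1 + c.a6 * c.a7 * σ d.a1 + c.a6 *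
      c.a8 * d.b2 + σ c.a7 * d.a1 * d.a2 + c.a7 * d.a2 * σ d.a2 + σ c.b8 * d.a1 * d.b2 + c.b8 * d.a2 * d.b2 + c.a4 *
      σ c.a8 * d.a2 ^ (2:ℕ) + c.a4 * σ c.b8 * d.a1 ^ (2:ℕ) + c.a6 * c.a8 * d.a2 * σ d.a2 + c.a6 * σ c.b8 * d.a1 * σ d.a1 +
      c.a6 * c.b8 * σ d.a1 * d.a2 + σ c.a7 * c.a8 * d.a1 ^ (2:ℕ) + c.a7 * σ c.a8 * σ d.a1 * d.a2 + c.a7 * c.b8 * d.a1 *
      σ d.a1 + c.a8 * σ c.a8 * d.a2 * d.b2 + σ c.b8 * d.a1 * d.a2 * σ d.a2 + c.b8 * d.a2 ^ (2:ℕ) * σ d.a2 + c.a6 * c.a8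
      * c.b8 * d.a1 * σ d.a1 + c.a7 * c.a8 * σ c.a8 * d.a1 * σ d.a1 + σ c.a8 * σ c.b8 * d.a1 * σ d.a1 * d.a2 + σ
      c.a8 * c.b8 * σ d.a1 * d.a2 ^ (2:ℕ) + c.a8 * σ c.a8 * d.a2 ^ (2:ℕ) * σ d.a2 + c.b8 * σ c.b8 * d.a1 ^ (2:ℕ) * σ d.a1 + c.b8
      ^ (2:ℕ) * d.a1 * σ d.a1 * d.a2 + c.a6 * c.a8 ^ (2:ℕ) * σ c.a8 * d.a1 * σ d.a1 + c.a8 * c.b8 ^ (2:ℕ) * d.a1 ^ (2:ℕ) * σ d.a1 +
      c.a8 * σ c.a8 * σ c.b8 * d.a1 ^ (2:ℕ) * σ d.a1 + c.a8 ^ (2:ℕ) * (σ c.a8) ^ (2:ℕ) * d.a1 * σ d.a1 * d.a2 + c.a8 ^ (3:ℕ) * (σ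
      c.a8) ^ (2:ℕ) * d.a1 ^ (2:ℕ) * σ d.a1, c.a5 + σ c.a7 * d.a1 + c.a7 * σ d.a2 + c.b8 * d.b2 + c.a6 * c.a8 * σ d.a2 +
      c.a6 * c.b8 * σ d.a1 + c.a7 * σ c.a8 * σ d.a1 + c.a8 * σ c.a8 * d.b2 + σ c.b8 * d.a1 * σ d.a2 + σ c.a8 * σ
      c.b8 * d.a1 * σ d.a1 + c.b8 ^ (2:ℕ) * d.a1 * σ d.a1 + c.a8 ^ (2:ℕ) * (σ c.a8) ^ (2:ℕ) * d.a1 * σ d.a1, c.a6 + σ c.a8 *
      d.a2 + c.b8 * d.a1 + c.a8 * σ c.a8 * d.a1, c.b6 + σ c.a7 * d.a2 + σ c.b8 * d.b2 + c.a6 * σ c.b8 * σ d.a1 + σ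
      c.a7 * c.a8 * d.a1 + c.a7 * c.a8 * σ d.a2 + c.a7 * c.b8 * σ d.a1 + c.a8 * c.b8 * d.b2 + σ c.b8 * d.a2 * σ d.a2
      + c.a6 * c.a8 ^ (2:ℕ) * σ d.a2 + σ c.a8 * σ c.b8 * σ d.a1 * d.a2 + c.a8 * σ c.b8 * d.a1 * σ d.a2 + c.a8 ^ (2:ℕ) * σ
      c.a8 * d.b2 + c.b8 ^ (2:ℕ) * σ d.a1 * d.a2 + c.a6 * c.a8 ^ (2:ℕ) * σ c.a8 * σ d.a1 + c.a8 * c.b8 ^ (2:ℕ) * d.a1 * σ d.a1 +
      c.a8 * σ c.a8 * σ c.b8 * d.a1 * σ d.a1 + c.a8 ^ (2:ℕ) * (σ c.a8) ^ (2:ℕ) * σ d.a1 * d.a2 + c.a8 ^ (3:ℕ) * (σ c.a8) ^ (2:ℕ) *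
      d.a1 * σ d.a1, c.a7 + σ c.b8 * d.a1 + c.b8 * d.a2 + c.a8 * c.b8 * d.a1 + c.a8 ^ (2:ℕ) * σ c.a8 * d.a1, c.a8, c.b8⟩ by
    refine (H.R2 _ _ _).trans ?_
    refine congrArg F.E (Cd.ext ?_ ?_ ?_ ?_ ?_ ?_ ?_ ?_ ?_ ?_ ?_ ?_)
    · first | with_reducible rfl | ((try simp only [map_add, map_mul, map_pow, map_zero, H.hs]) <;> ring1)
    · first | with_reducible rfl | ((try simp only [map_add, map_mul, map_pow, map_zero, H.hs]) <;> ring1)
    · first | with_reducible rfl | ((try simp only [map_add, map_mul, map_pow, map_zero, H.hs]) <;> ring1)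
    · first | with_reducible rfl | ((try simp only [map_add, map_mul, map_pow, map_zero, H.hs]) <;> ring1)
    · first | with_reducible rfl | ((try simp only [map_add, map_mul, map_pow, map_zero, H.hs]) <;> ring1)
    · try simp only [map_add, map_mul, map_pow, map_zero, H.hs]
      linear_combination (c.a8 * c.b8 * d.a1 * d.a2 * σ d.a2 + c.a8 * c.b8 * d.a1 * d.b2 + c.a8 ^ (2:ℕ) * σ c.a8 * d.a1 * d.a2 * σ d.a2 +
      c.a8 ^ (2:ℕ) * σ c.a8 * d.a1 * d.b2) * H.h2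
    · try simp only [map_add, map_mul, map_pow, map_zero, H.hs]
      linear_combination (c.a8 * c.b8 * d.a1 * σ d.a2 + c.a8 ^ (2:ℕ) * σ c.a8 * d.a1 * σ d.a2) * H.h2
    · first | with_reducible rfl | ((try simp only [map_add, map_mul, map_pow, map_zero, H.hs]) <;> ring1)
    · try simp only [map_add, map_mul, map_pow, map_zero, H.hs]
      linear_combination (c.a8 ^ (2:ℕ) * c.b8 * d.a1 * σ d.a2 + c.a8 ^ (3:ℕ) * σ c.a8 * d.a1 * σ d.a2) * H.h2
    · first | with_reducible rfl | ((try simp only [map_add, map_mul, map_pow, map_zero, H.hs]) <;> ring1)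
    · first | with_reducible rfl | ((try simp only [map_add, map_mul, map_pow, map_zero, H.hs]) <;> ring1)
    · first | with_reducible rfl | ((try simp only [map_add, map_mul, map_pow, map_zero, H.hs]) <;> ring1)
    ]
  rw [show F.E ⟨c.a1 + d.a1, c.a2 + d.a2 + c.a8 * d.a1, c.b2 + d.b2 + c.a2 * σ d.a2 + c.a4 * d.a1 + c.a6 * σ d.a1 + c.a2 * σ
      c.a8 * σ d.a1 + c.a8 * d.a1 * σ d.a2 + c.b8 * d.a1 * σ d.a1, c.a3 + c.a4 * d.a2 + σ c.a6 * d.a1 + c.a7 * σ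
      d.a1 + c.a8 * d.b2 + c.a4 * c.a8 * d.a1 + c.a8 * d.a2 * σ d.a2 + σ c.b8 * d.a1 * σ d.a1 + c.b8 * σ d.a1 * d.a2
      + c.a8 * c.b8 * d.a1 * σ d.a1 + c.a8 ^ (2:ℕ) * σ c.a8 * d.a1 * σ d.a1, c.a4 + c.a8 * σ d.a2 + c.b8 * σ d.a1, c.b4
      + c.a5 * d.a2 + c.a7 * d.b2 + c.b6 * d.a1 + c.b8 * σ d.b2 + c.a5 * c.a8 * d.a1 + c.a6 * c.a7 * σ d.a1 + c.a6 *
      c.a8 * d.b2 + σ c.a7 * d.a1 * d.a2 + c.a7 * d.a2 * σ d.a2 + σ c.b8 * d.a1 * d.b2 + c.b8 * d.a2 * d.b2 + c.a4 *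
      σ c.a8 * d.a2 ^ (2:ℕ) + c.a4 * σ c.b8 * d.a1 ^ (2:ℕ) + c.a6 * c.a8 * d.a2 * σ d.a2 + c.a6 * σ c.b8 * d.a1 * σ d.a1 +
      c.a6 * c.b8 * σ d.a1 * d.a2 + σ c.a7 * c.a8 * d.a1 ^ (2:ℕ) + c.a7 * σ c.a8 * σ d.a1 * d.a2 + c.a7 * c.b8 * d.a1 *
      σ d.a1 + c.a8 * σ c.a8 * d.a2 * d.b2 + σ c.b8 * d.a1 * d.a2 * σ d.a2 + c.b8 * d.a2 ^ (2:ℕ) * σ d.a2 + c.a6 * c.a8
      * c.b8 * d.a1 * σ d.a1 + c.a7 * c.a8 * σ c.a8 * d.a1 * σ d.a1 + σ c.a8 * σ c.b8 * d.a1 * σ d.a1 * d.a2 + σ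
      c.a8 * c.b8 * σ d.a1 * d.a2 ^ (2:ℕ) + c.a8 * σ c.a8 * d.a2 ^ (2:ℕ) * σ d.a2 + c.b8 * σ c.b8 * d.a1 ^ (2:ℕ) * σ d.a1 + c.b8
      ^ (2:ℕ) * d.a1 * σ d.a1 * d.a2 + c.a6 * c.a8 ^ (2:ℕ) * σ c.a8 * d.a1 * σ d.a1 + c.a8 * c.b8 ^ (2:ℕ) * d.a1 ^ (2:ℕ) * σ d.a1 +
      c.a8 * σ c.a8 * σ c.b8 * d.a1 ^ (2:ℕ) * σ d.a1 + c.a8 ^ (2:ℕ) * (σ c.a8) ^ (2:ℕ) * d.a1 * σ d.a1 * d.a2 + c.a8 ^ (3:ℕ) * (σ
      c.a8) ^ (2:ℕ) * d.a1 ^ (2:ℕ) * σ d.a1, c.a5 + σ c.a7 * d.a1 + c.a7 * σ d.a2 + c.b8 * d.b2 + c.a6 * c.a8 * σ d.a2 +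
      c.a6 * c.b8 * σ d.a1 + c.a7 * σ c.a8 * σ d.a1 + c.a8 * σ c.a8 * d.b2 + σ c.b8 * d.a1 * σ d.a2 + σ c.a8 * σ
      c.b8 * d.a1 * σ d.a1 + c.b8 ^ (2:ℕ) * d.a1 * σ d.a1 + c.a8 ^ (2:ℕ) * (σ c.a8) ^ (2:ℕ) * d.a1 * σ d.a1, c.a6 + σ c.a8 *
      d.a2 + c.b8 * d.a1 + c.a8 * σ c.a8 * d.a1, c.b6 + σ c.a7 * d.a2 + σ c.b8 * d.b2 + c.a6 * σ c.b8 * σ d.a1 + σ
      c.a7 * c.a8 * d.a1 + c.a7 * c.a8 * σ d.a2 + c.a7 * c.b8 * σ d.a1 + c.a8 * c.b8 * d.b2 + σ c.b8 * d.a2 * σ d.a2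
      + c.a6 * c.a8 ^ (2:ℕ) * σ d.a2 + σ c.a8 * σ c.b8 * σ d.a1 * d.a2 + c.a8 * σ c.b8 * d.a1 * σ d.a2 + c.a8 ^ (2:ℕ) * σ
      c.a8 * d.b2 + c.b8 ^ (2:ℕ) * σ d.a1 * d.a2 + c.a6 * c.a8 ^ (2:ℕ) * σ c.a8 * σ d.a1 + c.a8 * c.b8 ^ (2:ℕ) * d.a1 * σ d.a1 +
      c.a8 * σ c.a8 * σ c.b8 * d.a1 * σ d.a1 + c.a8 ^ (2:ℕ) * (σ c.a8) ^ (2:ℕ) * σ d.a1 * d.a2 + c.a8 ^ (3:ℕ) * (σ c.a8) ^ (2:ℕ) *
      d.a1 * σ d.a1, c.a7 + σ c.b8 * d.a1 + c.b8 * d.a2 + c.a8 * c.b8 * d.a1 + c.a8 ^ (2:ℕ) * σ c.a8 * d.a1, c.a8, c.b8⟩ *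
      F.x3 d.a3 =
      F.E ⟨c.a1 + d.a1, c.a2 + d.a2 + c.a8 * d.a1, c.b2 + d.b2 + c.a2 * σ d.a2 + c.a4 * d.a1 + c.a6 * σ d.a1 + c.a2 * σ
      c.a8 * σ d.a1 + c.a8 * d.a1 * σ d.a2 + c.b8 * d.a1 * σ d.a1, c.a3 + d.a3 + c.a4 * d.a2 + σ c.a6 * d.a1 + c.a7
      * σ d.a1 + c.a8 * d.b2 + c.a4 * c.a8 * d.a1 + c.a8 * d.a2 * σ d.a2 + σ c.b8 * d.a1 * σ d.a1 + c.b8 * σ d.a1 *
      d.a2 + c.a8 * c.b8 * d.a1 * σ d.a1 + c.a8 ^ (2:ℕ) * σ c.a8 * d.a1 * σ d.a1, c.a4 + c.a8 * σ d.a2 + c.b8 * σ d.a1,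
      c.b4 + c.a5 * d.a2 + c.a6 * d.a3 + c.a7 * d.b2 + c.a8 * σ d.a3 + c.b6 * d.a1 + c.b8 * σ d.b2 + c.a5 * c.a8 *
      d.a1 + c.a6 * c.a7 * σ d.a1 + c.a6 * c.a8 * d.b2 + σ c.a7 * d.a1 * d.a2 + c.a7 * d.a2 * σ d.a2 + σ c.a8 * d.a2
      * d.a3 + σ c.b8 * d.a1 * d.b2 + c.b8 * d.a1 * d.a3 + c.b8 * d.a2 * d.b2 + c.a4 * σ c.a8 * d.a2 ^ (2:ℕ) + c.a4 * σ
      c.b8 * d.a1 ^ (2:ℕ) + c.a6 * c.a8 * d.a2 * σ d.a2 + c.a6 * σ c.b8 * d.a1 * σ d.a1 + c.a6 * c.b8 * σ d.a1 * d.a2 +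
      σ c.a7 * c.a8 * d.a1 ^ (2:ℕ) + c.a7 * σ c.a8 * σ d.a1 * d.a2 + c.a7 * c.b8 * d.a1 * σ d.a1 + c.a8 * σ c.a8 * d.a1
      * d.a3 + c.a8 * σ c.a8 * d.a2 * d.b2 + σ c.b8 * d.a1 * d.a2 * σ d.a2 + c.b8 * d.a2 ^ (2:ℕ) * σ d.a2 + c.a6 * c.a8
      * c.b8 * d.a1 * σ d.a1 + c.a7 * c.a8 * σ c.a8 * d.a1 * σ d.a1 + σ c.a8 * σ c.b8 * d.a1 * σ d.a1 * d.a2 + σ
      c.a8 * c.b8 * σ d.a1 * d.a2 ^ (2:ℕ) + c.a8 * σ c.a8 * d.a2 ^ (2:ℕ) * σ d.a2 + c.b8 * σ c.b8 * d.a1 ^ (2:ℕ) * σ d.a1 + c.b8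
      ^ (2:ℕ) * d.a1 * σ d.a1 * d.a2 + c.a6 * c.a8 ^ (2:ℕ) * σ c.a8 * d.a1 * σ d.a1 + c.a8 * c.b8 ^ (2:ℕ) * d.a1 ^ (2:ℕ) * σ d.a1 +
      c.a8 * σ c.a8 * σ c.b8 * d.a1 ^ (2:ℕ) * σ d.a1 + c.a8 ^ (2:ℕ) * (σ c.a8) ^ (2:ℕ) * d.a1 * σ d.a1 * d.a2 + c.a8 ^ (3:ℕ) * (σ
      c.a8) ^ (2:ℕ) * d.a1 ^ (2:ℕ) * σ d.a1, c.a5 + σ c.a7 * d.a1 + c.a7 * σ d.a2 + σ c.a8 * d.a3 + c.b8 * d.b2 + c.a6 *
      c.a8 * σ d.a2 + c.a6 * c.b8 * σ d.a1 + c.a7 * σ c.a8 * σ d.a1 + c.a8 * σ c.a8 * d.b2 + σ c.b8 * d.a1 * σ d.a2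
      + σ c.a8 * σ c.b8 * d.a1 * σ d.a1 + c.b8 ^ (2:ℕ) * d.a1 * σ d.a1 + c.a8 ^ (2:ℕ) * (σ c.a8) ^ (2:ℕ) * d.a1 * σ d.a1, c.a6 +
      σ c.a8 * d.a2 + c.b8 * d.a1 + c.a8 * σ c.a8 * d.a1, c.b6 + σ c.a7 * d.a2 + σ c.b8 * d.b2 + c.b8 * d.a3 + c.a6
      * σ c.b8 * σ d.a1 + σ c.a7 * c.a8 * d.a1 + c.a7 * c.a8 * σ d.a2 + c.a7 * c.b8 * σ d.a1 + c.a8 * c.b8 * d.b2 +
      σ c.b8 * d.a2 * σ d.a2 + c.a6 * c.a8 ^ (2:ℕ) * σ d.a2 + σ c.a8 * σ c.b8 * σ d.a1 * d.a2 + c.a8 * σ c.b8 * d.a1 * σ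
      d.a2 + c.a8 ^ (2:ℕ) * σ c.a8 * d.b2 + c.b8 ^ (2:ℕ) * σ d.a1 * d.a2 + c.a6 * c.a8 ^ (2:ℕ) * σ c.a8 * σ d.a1 + c.a8 * c.b8 ^
      (2:ℕ) * d.a1 * σ d.a1 + c.a8 * σ c.a8 * σ c.b8 * d.a1 * σ d.a1 + c.a8 ^ (2:ℕ) * (σ c.a8) ^ (2:ℕ) * σ d.a1 * d.a2 + c.a8 ^
      (3:ℕ) * (σ c.a8) ^ (2:ℕ) * d.a1 * σ d.a1, c.a7 + σ c.b8 * d.a1 + c.b8 * d.a2 + c.a8 * c.b8 * d.a1 + c.a8 ^ (2:ℕ) * σ c.a8
      * d.a1, c.a8, c.b8⟩ by
    refine (H.R3 _ _).trans ?_
    refine congrArg F.E (Cd.ext ?_ ?_ ?_ ?_ ?_ ?_ ?_ ?_ ?_ ?_ ?_ ?_)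
    · first | with_reducible rfl | ((try simp only [map_add, map_mul, map_pow, map_zero, H.hs]) <;> ring1)
    · first | with_reducible rfl | ((try simp only [map_add, map_mul, map_pow, map_zero, H.hs]) <;> ring1)
    · first | with_reducible rfl | ((try simp only [map_add, map_mul, map_pow, map_zero, H.hs]) <;> ring1)
    · first | with_reducible rfl | ((try simp only [map_add, map_mul, map_pow, map_zero, H.hs]) <;> ring1)
    · first | with_reducible rfl | ((try simp only [map_add, map_mul, map_pow, map_zero, H.hs]) <;> ring1)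
    · first | with_reducible rfl | ((try simp only [map_add, map_mul, map_pow, map_zero, H.hs]) <;> ring1)
    · first | with_reducible rfl | ((try simp only [map_add, map_mul, map_pow, map_zero, H.hs]) <;> ring1)
    · first | with_reducible rfl | ((try simp only [map_add, map_mul, map_pow, map_zero, H.hs]) <;> ring1)
    · first | with_reducible rfl | ((try simp only [map_add, map_mul, map_pow, map_zero, H.hs]) <;> ring1)
    · first | with_reducible rfl | ((try simp only [map_add, map_mul, map_pow, map_zero, H.hs]) <;> ring1)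
    · first | with_reducible rfl | ((try simp only [map_add, map_mul, map_pow, map_zero, H.hs]) <;> ring1)
    · first | with_reducible rfl | ((try simp only [map_add, map_mul, map_pow, map_zero, H.hs]) <;> ring1)
    ]
  rw [show F.E ⟨c.a1 + d.a1, c.a2 + d.a2 + c.a8 * d.a1, c.b2 + d.b2 + c.a2 * σ d.a2 + c.a4 * d.a1 + c.a6 * σ d.a1 + c.a2 * σ
      c.a8 * σ d.a1 + c.a8 * d.a1 * σ d.a2 + c.b8 * d.a1 * σ d.a1, c.a3 + d.a3 + c.a4 * d.a2 + σ c.a6 * d.a1 + c.a7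
      * σ d.a1 + c.a8 * d.b2 + c.a4 * c.a8 * d.a1 + c.a8 * d.a2 * σ d.a2 + σ c.b8 * d.a1 * σ d.a1 + c.b8 * σ d.a1 *
      d.a2 + c.a8 * c.b8 * d.a1 * σ d.a1 + c.a8 ^ (2:ℕ) * σ c.a8 * d.a1 * σ d.a1, c.a4 + c.a8 * σ d.a2 + c.b8 * σ d.a1,
      c.b4 + c.a5 * d.a2 + c.a6 * d.a3 + c.a7 * d.b2 + c.a8 * σ d.a3 + c.b6 * d.a1 + c.b8 * σ d.b2 + c.a5 * c.a8 *
      d.a1 + c.a6 * c.a7 * σ d.a1 + c.a6 * c.a8 * d.b2 + σ c.a7 * d.a1 * d.a2 + c.a7 * d.a2 * σ d.a2 + σ c.a8 * d.a2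
      * d.a3 + σ c.b8 * d.a1 * d.b2 + c.b8 * d.a1 * d.a3 + c.b8 * d.a2 * d.b2 + c.a4 * σ c.a8 * d.a2 ^ (2:ℕ) + c.a4 * σ
      c.b8 * d.a1 ^ (2:ℕ) + c.a6 * c.a8 * d.a2 * σ d.a2 + c.a6 * σ c.b8 * d.a1 * σ d.a1 + c.a6 * c.b8 * σ d.a1 * d.a2 +
      σ c.a7 * c.a8 * d.a1 ^ (2:ℕ) + c.a7 * σ c.a8 * σ d.a1 * d.a2 + c.a7 * c.b8 * d.a1 * σ d.a1 + c.a8 * σ c.a8 * d.a1
      * d.a3 + c.a8 * σ c.a8 * d.a2 * d.b2 + σ c.b8 * d.a1 * d.a2 * σ d.a2 + c.b8 * d.a2 ^ (2:ℕ) * σ d.a2 + c.a6 * c.a8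
      * c.b8 * d.a1 * σ d.a1 + c.a7 * c.a8 * σ c.a8 * d.a1 * σ d.a1 + σ c.a8 * σ c.b8 * d.a1 * σ d.a1 * d.a2 + σ
      c.a8 * c.b8 * σ d.a1 * d.a2 ^ (2:ℕ) + c.a8 * σ c.a8 * d.a2 ^ (2:ℕ) * σ d.a2 + c.b8 * σ c.b8 * d.a1 ^ (2:ℕ) * σ d.a1 + c.b8
      ^ (2:ℕ) * d.a1 * σ d.a1 * d.a2 + c.a6 * c.a8 ^ (2:ℕ) * σ c.a8 * d.a1 * σ d.a1 + c.a8 * c.b8 ^ (2:ℕ) * d.a1 ^ (2:ℕ) * σ d.a1 +
      c.a8 * σ c.a8 * σ c.b8 * d.a1 ^ (2:ℕ) * σ d.a1 + c.a8 ^ (2:ℕ) * (σ c.a8) ^ (2:ℕ) * d.a1 * σ d.a1 * d.a2 + c.a8 ^ (3:ℕ) * (σ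
      c.a8) ^ (2:ℕ) * d.a1 ^ (2:ℕ) * σ d.a1, c.a5 + σ c.a7 * d.a1 + c.a7 * σ d.a2 + σ c.a8 * d.a3 + c.b8 * d.b2 + c.a6 *
      c.a8 * σ d.a2 + c.a6 * c.b8 * σ d.a1 + c.a7 * σ c.a8 * σ d.a1 + c.a8 * σ c.a8 * d.b2 + σ c.b8 * d.a1 * σ d.a2
      + σ c.a8 * σ c.b8 * d.a1 * σ d.a1 + c.b8 ^ (2:ℕ) * d.a1 * σ d.a1 + c.a8 ^ (2:ℕ) * (σ c.a8) ^ (2:ℕ) * d.a1 * σ d.a1, c.a6 +
      σ c.a8 * d.a2 + c.b8 * d.a1 + c.a8 * σ c.a8 * d.a1, c.b6 + σ c.a7 * d.a2 + σ c.b8 * d.b2 + c.b8 * d.a3 + c.a6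
      * σ c.b8 * σ d.a1 + σ c.a7 * c.a8 * d.a1 + c.a7 * c.a8 * σ d.a2 + c.a7 * c.b8 * σ d.a1 + c.a8 * c.b8 * d.b2 +
      σ c.b8 * d.a2 * σ d.a2 + c.a6 * c.a8 ^ (2:ℕ) * σ d.a2 + σ c.a8 * σ c.b8 * σ d.a1 * d.a2 + c.a8 * σ c.b8 * d.a1 * σ
      d.a2 + c.a8 ^ (2:ℕ) * σ c.a8 * d.b2 + c.b8 ^ (2:ℕ) * σ d.a1 * d.a2 + c.a6 * c.a8 ^ (2:ℕ) * σ c.a8 * σ d.a1 + c.a8 * c.b8 ^
      (2:ℕ) * d.a1 * σ d.a1 + c.a8 * σ c.a8 * σ c.b8 * d.a1 * σ d.a1 + c.a8 ^ (2:ℕ) * (σ c.a8) ^ (2:ℕ) * σ d.a1 * d.a2 + c.a8 ^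
      (3:ℕ) * (σ c.a8) ^ (2:ℕ) * d.a1 * σ d.a1, c.a7 + σ c.b8 * d.a1 + c.b8 * d.a2 + c.a8 * c.b8 * d.a1 + c.a8 ^ (2:ℕ) * σ c.a8
      * d.a1, c.a8, c.b8⟩ *
      F.x4 d.a4 d.b4 =
      F.E ⟨c.a1 + d.a1, c.a2 + d.a2 + c.a8 * d.a1, c.b2 + d.b2 + c.a2 * σ d.a2 + c.a4 * d.a1 + c.a6 * σ d.a1 + c.a2 * σ
      c.a8 * σ d.a1 + c.a8 * d.a1 * σ d.a2 + c.b8 * d.a1 * σ d.a1, c.a3 + d.a3 + c.a4 * d.a2 + σ c.a6 * d.a1 + c.a7
      * σ d.a1 + c.a8 * d.b2 + c.a4 * c.a8 * d.a1 + c.a8 * d.a2 * σ d.a2 + σ c.b8 * d.a1 * σ d.a1 + c.b8 * σ d.a1 *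
      d.a2 + c.a8 * c.b8 * d.a1 * σ d.a1 + c.a8 ^ (2:ℕ) * σ c.a8 * d.a1 * σ d.a1, c.a4 + d.a4 + c.a8 * σ d.a2 + c.b8 * σ
      d.a1, c.b4 + d.b4 + c.a4 * σ d.a4 + c.a5 * d.a2 + c.a6 * d.a3 + c.a7 * d.b2 + c.a8 * σ d.a3 + c.b6 * d.a1 +
      c.b8 * σ d.b2 + c.a5 * c.a8 * d.a1 + c.a6 * c.a7 * σ d.a1 + c.a6 * c.a8 * d.b2 + σ c.a7 * d.a1 * d.a2 + c.a7 *
      d.a2 * σ d.a2 + σ c.a8 * d.a2 * d.a3 + c.a8 * σ d.a2 * σ d.a4 + σ c.b8 * d.a1 * d.b2 + c.b8 * σ d.a1 * σ d.a4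
      + c.b8 * d.a1 * d.a3 + c.b8 * d.a2 * d.b2 + c.a4 * σ c.a8 * d.a2 ^ (2:ℕ) + c.a4 * σ c.b8 * d.a1 ^ (2:ℕ) + c.a6 * c.a8
      * d.a2 * σ d.a2 + c.a6 * σ c.b8 * d.a1 * σ d.a1 + c.a6 * c.b8 * σ d.a1 * d.a2 + σ c.a7 * c.a8 * d.a1 ^ (2:ℕ) +
      c.a7 * σ c.a8 * σ d.a1 * d.a2 + c.a7 * c.b8 * d.a1 * σ d.a1 + c.a8 * σ c.a8 * d.a1 * d.a3 + c.a8 * σ c.a8 *
      d.a2 * d.b2 + σ c.b8 * d.a1 * d.a2 * σ d.a2 + c.b8 * d.a2 ^ (2:ℕ) * σ d.a2 + c.a6 * c.a8 * c.b8 * d.a1 * σ d.a1 +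
      c.a7 * c.a8 * σ c.a8 * d.a1 * σ d.a1 + σ c.a8 * σ c.b8 * d.a1 * σ d.a1 * d.a2 + σ c.a8 * c.b8 * σ d.a1 * d.a2
      ^ (2:ℕ) + c.a8 * σ c.a8 * d.a2 ^ (2:ℕ) * σ d.a2 + c.b8 * σ c.b8 * d.a1 ^ (2:ℕ) * σ d.a1 + c.b8 ^ (2:ℕ) * d.a1 * σ d.a1 * d.a2
      + c.a6 * c.a8 ^ (2:ℕ) * σ c.a8 * d.a1 * σ d.a1 + c.a8 * c.b8 ^ (2:ℕ) * d.a1 ^ (2:ℕ) * σ d.a1 + c.a8 * σ c.a8 * σ c.b8 *
      d.a1 ^ (2:ℕ) * σ d.a1 + c.a8 ^ (2:ℕ) * (σ c.a8) ^ (2:ℕ) * d.a1 * σ d.a1 * d.a2 + c.a8 ^ (3:ℕ) * (σ c.a8) ^ (2:ℕ) * d.a1 ^ (2:ℕ) * σ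
      d.a1, c.a5 + c.a6 * d.a4 + σ c.a7 * d.a1 + c.a7 * σ d.a2 + σ c.a8 * d.a3 + c.b8 * d.b2 + c.a6 * c.a8 * σ d.a2
      + c.a6 * c.b8 * σ d.a1 + c.a7 * σ c.a8 * σ d.a1 + σ c.a8 * d.a2 * d.a4 + c.a8 * σ c.a8 * d.b2 + σ c.b8 * d.a1
      * σ d.a2 + c.b8 * d.a1 * d.a4 + σ c.a8 * σ c.b8 * d.a1 * σ d.a1 + c.a8 * σ c.a8 * d.a1 * d.a4 + c.b8 ^ (2:ℕ) *
      d.a1 * σ d.a1 + c.a8 ^ (2:ℕ) * (σ c.a8) ^ (2:ℕ) * d.a1 * σ d.a1, c.a6 + σ c.a8 * d.a2 + c.b8 * d.a1 + c.a8 * σ c.a8 *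
      d.a1, c.b6 + σ c.a7 * d.a2 + c.a7 * d.a4 + σ c.b8 * d.b2 + c.b8 * d.a3 + c.a6 * σ c.b8 * σ d.a1 + σ c.a7 *
      c.a8 * d.a1 + c.a7 * c.a8 * σ d.a2 + c.a7 * c.b8 * σ d.a1 + c.a8 * c.b8 * d.b2 + σ c.b8 * d.a1 * d.a4 + σ c.b8
      * d.a2 * σ d.a2 + c.b8 * d.a2 * d.a4 + c.a6 * c.a8 ^ (2:ℕ) * σ d.a2 + σ c.a8 * σ c.b8 * σ d.a1 * d.a2 + c.a8 * σ
      c.b8 * d.a1 * σ d.a2 + c.a8 * c.b8 * d.a1 * d.a4 + c.a8 ^ (2:ℕ) * σ c.a8 * d.b2 + c.b8 ^ (2:ℕ) * σ d.a1 * d.a2 + c.a6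
      * c.a8 ^ (2:ℕ) * σ c.a8 * σ d.a1 + c.a8 * c.b8 ^ (2:ℕ) * d.a1 * σ d.a1 + c.a8 * σ c.a8 * σ c.b8 * d.a1 * σ d.a1 + c.a8
      ^ (2:ℕ) * σ c.a8 * d.a1 * d.a4 + c.a8 ^ (2:ℕ) * (σ c.a8) ^ (2:ℕ) * σ d.a1 * d.a2 + c.a8 ^ (3:ℕ) * (σ c.a8) ^ (2:ℕ) * d.a1 * σ
      d.a1, c.a7 + σ c.b8 * d.a1 + c.b8 * d.a2 + c.a8 * c.b8 * d.a1 + c.a8 ^ (2:ℕ) * σ c.a8 * d.a1, c.a8, c.b8⟩ by
    refine (H.R4 _ _ _).trans ?_
    refine congrArg F.E (Cd.ext ?_ ?_ ?_ ?_ ?_ ?_ ?_ ?_ ?_ ?_ ?_ ?_)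
    · first | with_reducible rfl | ((try simp only [map_add, map_mul, map_pow, map_zero, H.hs]) <;> ring1)
    · first | with_reducible rfl | ((try simp only [map_add, map_mul, map_pow, map_zero, H.hs]) <;> ring1)
    · first | with_reducible rfl | ((try simp only [map_add, map_mul, map_pow, map_zero, H.hs]) <;> ring1)
    · first | with_reducible rfl | ((try simp only [map_add, map_mul, map_pow, map_zero, H.hs]) <;> ring1)
    · first | with_reducible rfl | ((try simp only [map_add, map_mul, map_pow, map_zero, H.hs]) <;> ring1)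
    · first | with_reducible rfl | ((try simp only [map_add, map_mul, map_pow, map_zero, H.hs]) <;> ring1)
    · first | with_reducible rfl | ((try simp only [map_add, map_mul, map_pow, map_zero, H.hs]) <;> ring1)
    · first | with_reducible rfl | ((try simp only [map_add, map_mul, map_pow, map_zero, H.hs]) <;> ring1)
    · first | with_reducible rfl | ((try simp only [map_add, map_mul, map_pow, map_zero, H.hs]) <;> ring1)
    · first | with_reducible rfl | ((try simp only [map_add, map_mul, map_pow, map_zero, H.hs]) <;> ring1)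
    · first | with_reducible rfl | ((try simp only [map_add, map_mul, map_pow, map_zero, H.hs]) <;> ring1)
    · first | with_reducible rfl | ((try simp only [map_add, map_mul, map_pow, map_zero, H.hs]) <;> ring1)
    ]
  rw [show F.E ⟨c.a1 + d.a1, c.a2 + d.a2 + c.a8 * d.a1, c.b2 + d.b2 + c.a2 * σ d.a2 + c.a4 * d.a1 + c.a6 * σ d.a1 + c.a2 * σ
      c.a8 * σ d.a1 + c.a8 * d.a1 * σ d.a2 + c.b8 * d.a1 * σ d.a1, c.a3 + d.a3 + c.a4 * d.a2 + σ c.a6 * d.a1 + c.a7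
      * σ d.a1 + c.a8 * d.b2 + c.a4 * c.a8 * d.a1 + c.a8 * d.a2 * σ d.a2 + σ c.b8 * d.a1 * σ d.a1 + c.b8 * σ d.a1 *
      d.a2 + c.a8 * c.b8 * d.a1 * σ d.a1 + c.a8 ^ (2:ℕ) * σ c.a8 * d.a1 * σ d.a1, c.a4 + d.a4 + c.a8 * σ d.a2 + c.b8 * σ
      d.a1, c.b4 + d.b4 + c.a4 * σ d.a4 + c.a5 * d.a2 + c.a6 * d.a3 + c.a7 * d.b2 + c.a8 * σ d.a3 + c.b6 * d.a1 +
      c.b8 * σ d.b2 + c.a5 * c.a8 * d.a1 + c.a6 * c.a7 * σ d.a1 + c.a6 * c.a8 * d.b2 + σ c.a7 * d.a1 * d.a2 + c.a7 *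
      d.a2 * σ d.a2 + σ c.a8 * d.a2 * d.a3 + c.a8 * σ d.a2 * σ d.a4 + σ c.b8 * d.a1 * d.b2 + c.b8 * σ d.a1 * σ d.a4
      + c.b8 * d.a1 * d.a3 + c.b8 * d.a2 * d.b2 + c.a4 * σ c.a8 * d.a2 ^ (2:ℕ) + c.a4 * σ c.b8 * d.a1 ^ (2:ℕ) + c.a6 * c.a8
      * d.a2 * σ d.a2 + c.a6 * σ c.b8 * d.a1 * σ d.a1 + c.a6 * c.b8 * σ d.a1 * d.a2 + σ c.a7 * c.a8 * d.a1 ^ (2:ℕ) +
      c.a7 * σ c.a8 * σ d.a1 * d.a2 + c.a7 * c.b8 * d.a1 * σ d.a1 + c.a8 * σ c.a8 * d.a1 * d.a3 + c.a8 * σ c.a8 *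
      d.a2 * d.b2 + σ c.b8 * d.a1 * d.a2 * σ d.a2 + c.b8 * d.a2 ^ (2:ℕ) * σ d.a2 + c.a6 * c.a8 * c.b8 * d.a1 * σ d.a1 +
      c.a7 * c.a8 * σ c.a8 * d.a1 * σ d.a1 + σ c.a8 * σ c.b8 * d.a1 * σ d.a1 * d.a2 + σ c.a8 * c.b8 * σ d.a1 * d.a2
      ^ (2:ℕ) + c.a8 * σ c.a8 * d.a2 ^ (2:ℕ) * σ d.a2 + c.b8 * σ c.b8 * d.a1 ^ (2:ℕ) * σ d.a1 + c.b8 ^ (2:ℕ) * d.a1 * σ d.a1 * d.a2
      + c.a6 * c.a8 ^ (2:ℕ) * σ c.a8 * d.a1 * σ d.a1 + c.a8 * c.b8 ^ (2:ℕ) * d.a1 ^ (2:ℕ) * σ d.a1 + c.a8 * σ c.a8 * σ c.b8 *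
      d.a1 ^ (2:ℕ) * σ d.a1 + c.a8 ^ (2:ℕ) * (σ c.a8) ^ (2:ℕ) * d.a1 * σ d.a1 * d.a2 + c.a8 ^ (3:ℕ) * (σ c.a8) ^ (2:ℕ) * d.a1 ^ (2:ℕ) * σ
      d.a1, c.a5 + c.a6 * d.a4 + σ c.a7 * d.a1 + c.a7 * σ d.a2 + σ c.a8 * d.a3 + c.b8 * d.b2 + c.a6 * c.a8 * σ d.a2
      + c.a6 * c.b8 * σ d.a1 + c.a7 * σ c.a8 * σ d.a1 + σ c.a8 * d.a2 * d.a4 + c.a8 * σ c.a8 * d.b2 + σ c.b8 * d.a1
      * σ d.a2 + c.b8 * d.a1 * d.a4 + σ c.a8 * σ c.b8 * d.a1 * σ d.a1 + c.a8 * σ c.a8 * d.a1 * d.a4 + c.b8 ^ (2:ℕ) *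
      d.a1 * σ d.a1 + c.a8 ^ (2:ℕ) * (σ c.a8) ^ (2:ℕ) * d.a1 * σ d.a1, c.a6 + σ c.a8 * d.a2 + c.b8 * d.a1 + c.a8 * σ c.a8 *
      d.a1, c.b6 + σ c.a7 * d.a2 + c.a7 * d.a4 + σ c.b8 * d.b2 + c.b8 * d.a3 + c.a6 * σ c.b8 * σ d.a1 + σ c.a7 *
      c.a8 * d.a1 + c.a7 * c.a8 * σ d.a2 + c.a7 * c.b8 * σ d.a1 + c.a8 * c.b8 * d.b2 + σ c.b8 * d.a1 * d.a4 + σ c.b8
      * d.a2 * σ d.a2 + c.b8 * d.a2 * d.a4 + c.a6 * c.a8 ^ (2:ℕ) * σ d.a2 + σ c.a8 * σ c.b8 * σ d.a1 * d.a2 + c.a8 * σ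
      c.b8 * d.a1 * σ d.a2 + c.a8 * c.b8 * d.a1 * d.a4 + c.a8 ^ (2:ℕ) * σ c.a8 * d.b2 + c.b8 ^ (2:ℕ) * σ d.a1 * d.a2 + c.a6
      * c.a8 ^ (2:ℕ) * σ c.a8 * σ d.a1 + c.a8 * c.b8 ^ (2:ℕ) * d.a1 * σ d.a1 + c.a8 * σ c.a8 * σ c.b8 * d.a1 * σ d.a1 + c.a8
      ^ (2:ℕ) * σ c.a8 * d.a1 * d.a4 + c.a8 ^ (2:ℕ) * (σ c.a8) ^ (2:ℕ) * σ d.a1 * d.a2 + c.a8 ^ (3:ℕ) * (σ c.a8) ^ (2:ℕ) * d.a1 * σ
      d.a1, c.a7 + σ c.b8 * d.a1 + c.b8 * d.a2 + c.a8 * c.b8 * d.a1 + c.a8 ^ (2:ℕ) * σ c.a8 * d.a1, c.a8, c.b8⟩ *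
      F.x5 d.a5 =
      F.E ⟨c.a1 + d.a1, c.a2 + d.a2 + c.a8 * d.a1, c.b2 + d.b2 + c.a2 * σ d.a2 + c.a4 * d.a1 + c.a6 * σ d.a1 + c.a2 * σ
      c.a8 * σ d.a1 + c.a8 * d.a1 * σ d.a2 + c.b8 * d.a1 * σ d.a1, c.a3 + d.a3 + c.a4 * d.a2 + σ c.a6 * d.a1 + c.a7
      * σ d.a1 + c.a8 * d.b2 + c.a4 * c.a8 * d.a1 + c.a8 * d.a2 * σ d.a2 + σ c.b8 * d.a1 * σ d.a1 + c.b8 * σ d.a1 *
      d.a2 + c.a8 * c.b8 * d.a1 * σ d.a1 + c.a8 ^ (2:ℕ) * σ c.a8 * d.a1 * σ d.a1, c.a4 + d.a4 + c.a8 * σ d.a2 + c.b8 * σ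
      d.a1, c.b4 + d.b4 + c.a4 * σ d.a4 + c.a5 * d.a2 + c.a6 * d.a3 + c.a7 * d.b2 + c.a8 * σ d.a3 + c.b6 * d.a1 +
      c.b8 * σ d.b2 + c.a5 * c.a8 * d.a1 + c.a6 * c.a7 * σ d.a1 + c.a6 * c.a8 * d.b2 + σ c.a7 * d.a1 * d.a2 + c.a7 *
      d.a2 * σ d.a2 + σ c.a8 * d.a2 * d.a3 + c.a8 * σ d.a2 * σ d.a4 + σ c.b8 * d.a1 * d.b2 + c.b8 * σ d.a1 * σ d.a4
      + c.b8 * d.a1 * d.a3 + c.b8 * d.a2 * d.b2 + c.a4 * σ c.a8 * d.a2 ^ (2:ℕ) + c.a4 * σ c.b8 * d.a1 ^ (2:ℕ) + c.a6 * c.a8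
      * d.a2 * σ d.a2 + c.a6 * σ c.b8 * d.a1 * σ d.a1 + c.a6 * c.b8 * σ d.a1 * d.a2 + σ c.a7 * c.a8 * d.a1 ^ (2:ℕ) +
      c.a7 * σ c.a8 * σ d.a1 * d.a2 + c.a7 * c.b8 * d.a1 * σ d.a1 + c.a8 * σ c.a8 * d.a1 * d.a3 + c.a8 * σ c.a8 *
      d.a2 * d.b2 + σ c.b8 * d.a1 * d.a2 * σ d.a2 + c.b8 * d.a2 ^ (2:ℕ) * σ d.a2 + c.a6 * c.a8 * c.b8 * d.a1 * σ d.a1 +
      c.a7 * c.a8 * σ c.a8 * d.a1 * σ d.a1 + σ c.a8 * σ c.b8 * d.a1 * σ d.a1 * d.a2 + σ c.a8 * c.b8 * σ d.a1 * d.a2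
      ^ (2:ℕ) + c.a8 * σ c.a8 * d.a2 ^ (2:ℕ) * σ d.a2 + c.b8 * σ c.b8 * d.a1 ^ (2:ℕ) * σ d.a1 + c.b8 ^ (2:ℕ) * d.a1 * σ d.a1 * d.a2
      + c.a6 * c.a8 ^ (2:ℕ) * σ c.a8 * d.a1 * σ d.a1 + c.a8 * c.b8 ^ (2:ℕ) * d.a1 ^ (2:ℕ) * σ d.a1 + c.a8 * σ c.a8 * σ c.b8 *
      d.a1 ^ (2:ℕ) * σ d.a1 + c.a8 ^ (2:ℕ) * (σ c.a8) ^ (2:ℕ) * d.a1 * σ d.a1 * d.a2 + c.a8 ^ (3:ℕ) * (σ c.a8) ^ (2:ℕ) * d.a1 ^ (2:ℕ) * σ
      d.a1, c.a5 + d.a5 + c.a6 * d.a4 + σ c.a7 * d.a1 + c.a7 * σ d.a2 + σ c.a8 * d.a3 + c.b8 * d.b2 + c.a6 * c.a8 *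
      σ d.a2 + c.a6 * c.b8 * σ d.a1 + c.a7 * σ c.a8 * σ d.a1 + σ c.a8 * d.a2 * d.a4 + c.a8 * σ c.a8 * d.b2 + σ c.b8
      * d.a1 * σ d.a2 + c.b8 * d.a1 * d.a4 + σ c.a8 * σ c.b8 * d.a1 * σ d.a1 + c.a8 * σ c.a8 * d.a1 * d.a4 + c.b8 ^
      (2:ℕ) * d.a1 * σ d.a1 + c.a8 ^ (2:ℕ) * (σ c.a8) ^ (2:ℕ) * d.a1 * σ d.a1, c.a6 + σ c.a8 * d.a2 + c.b8 * d.a1 + c.a8 * σ
      c.a8 * d.a1, c.b6 + σ c.a7 * d.a2 + c.a7 * d.a4 + c.a8 * d.a5 + σ c.b8 * d.b2 + c.b8 * d.a3 + c.a6 * σ c.b8 *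
      σ d.a1 + σ c.a7 * c.a8 * d.a1 + c.a7 * c.a8 * σ d.a2 + c.a7 * c.b8 * σ d.a1 + c.a8 * c.b8 * d.b2 + σ c.b8 *
      d.a1 * d.a4 + σ c.b8 * d.a2 * σ d.a2 + c.b8 * d.a2 * d.a4 + c.a6 * c.a8 ^ (2:ℕ) * σ d.a2 + σ c.a8 * σ c.b8 * σ
      d.a1 * d.a2 + c.a8 * σ c.b8 * d.a1 * σ d.a2 + c.a8 * c.b8 * d.a1 * d.a4 + c.a8 ^ (2:ℕ) * σ c.a8 * d.b2 + c.b8 ^ (2:ℕ)
      * σ d.a1 * d.a2 + c.a6 * c.a8 ^ (2:ℕ) * σ c.a8 * σ d.a1 + c.a8 * c.b8 ^ (2:ℕ) * d.a1 * σ d.a1 + c.a8 * σ c.a8 * σ c.b8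
      * d.a1 * σ d.a1 + c.a8 ^ (2:ℕ) * σ c.a8 * d.a1 * d.a4 + c.a8 ^ (2:ℕ) * (σ c.a8) ^ (2:ℕ) * σ d.a1 * d.a2 + c.a8 ^ (3:ℕ) * (σ
      c.a8) ^ (2:ℕ) * d.a1 * σ d.a1, c.a7 + σ c.b8 * d.a1 + c.b8 * d.a2 + c.a8 * c.b8 * d.a1 + c.a8 ^ (2:ℕ) * σ c.a8 * d.a1,
      c.a8, c.b8⟩ by
    refine (H.R5 _ _).trans ?_
    refine congrArg F.E (Cd.ext ?_ ?_ ?_ ?_ ?_ ?_ ?_ ?_ ?_ ?_ ?_ ?_)
    · first | with_reducible rfl | ((try simp only [map_add, map_mul, map_pow, map_zero, H.hs]) <;> ring1)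
    · first | with_reducible rfl | ((try simp only [map_add, map_mul, map_pow, map_zero, H.hs]) <;> ring1)
    · first | with_reducible rfl | ((try simp only [map_add, map_mul, map_pow, map_zero, H.hs]) <;> ring1)
    · first | with_reducible rfl | ((try simp only [map_add, map_mul, map_pow, map_zero, H.hs]) <;> ring1)
    · first | with_reducible rfl | ((try simp only [map_add, map_mul, map_pow, map_zero, H.hs]) <;> ring1)
    · first | with_reducible rfl | ((try simp only [map_add, map_mul, map_pow, map_zero, H.hs]) <;> ring1)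
    · first | with_reducible rfl | ((try simp only [map_add, map_mul, map_pow, map_zero, H.hs]) <;> ring1)
    · first | with_reducible rfl | ((try simp only [map_add, map_mul, map_pow, map_zero, H.hs]) <;> ring1)
    · first | with_reducible rfl | ((try simp only [map_add, map_mul, map_pow, map_zero, H.hs]) <;> ring1)
    · first | with_reducible rfl | ((try simp only [map_add, map_mul, map_pow, map_zero, H.hs]) <;> ring1)
    · first | with_reducible rfl | ((try simp only [map_add, map_mul, map_pow, map_zero, H.hs]) <;> ring1)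
    · first | with_reducible rfl | ((try simp only [map_add, map_mul, map_pow, map_zero, H.hs]) <;> ring1)
    ]
  rw [show F.E ⟨c.a1 + d.a1, c.a2 + d.a2 + c.a8 * d.a1, c.b2 + d.b2 + c.a2 * σ d.a2 + c.a4 * d.a1 + c.a6 * σ d.a1 + c.a2 * σ
      c.a8 * σ d.a1 + c.a8 * d.a1 * σ d.a2 + c.b8 * d.a1 * σ d.a1, c.a3 + d.a3 + c.a4 * d.a2 + σ c.a6 * d.a1 + c.a7
      * σ d.a1 + c.a8 * d.b2 + c.a4 * c.a8 * d.a1 + c.a8 * d.a2 * σ d.a2 + σ c.b8 * d.a1 * σ d.a1 + c.b8 * σ d.a1 *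
      d.a2 + c.a8 * c.b8 * d.a1 * σ d.a1 + c.a8 ^ (2:ℕ) * σ c.a8 * d.a1 * σ d.a1, c.a4 + d.a4 + c.a8 * σ d.a2 + c.b8 * σ
      d.a1, c.b4 + d.b4 + c.a4 * σ d.a4 + c.a5 * d.a2 + c.a6 * d.a3 + c.a7 * d.b2 + c.a8 * σ d.a3 + c.b6 * d.a1 +
      c.b8 * σ d.b2 + c.a5 * c.a8 * d.a1 + c.a6 * c.a7 * σ d.a1 + c.a6 * c.a8 * d.b2 + σ c.a7 * d.a1 * d.a2 + c.a7 *
      d.a2 * σ d.a2 + σ c.a8 * d.a2 * d.a3 + c.a8 * σ d.a2 * σ d.a4 + σ c.b8 * d.a1 * d.b2 + c.b8 * σ d.a1 * σ d.a4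
      + c.b8 * d.a1 * d.a3 + c.b8 * d.a2 * d.b2 + c.a4 * σ c.a8 * d.a2 ^ (2:ℕ) + c.a4 * σ c.b8 * d.a1 ^ (2:ℕ) + c.a6 * c.a8
      * d.a2 * σ d.a2 + c.a6 * σ c.b8 * d.a1 * σ d.a1 + c.a6 * c.b8 * σ d.a1 * d.a2 + σ c.a7 * c.a8 * d.a1 ^ (2:ℕ) +
      c.a7 * σ c.a8 * σ d.a1 * d.a2 + c.a7 * c.b8 * d.a1 * σ d.a1 + c.a8 * σ c.a8 * d.a1 * d.a3 + c.a8 * σ c.a8 *
      d.a2 * d.b2 + σ c.b8 * d.a1 * d.a2 * σ d.a2 + c.b8 * d.a2 ^ (2:ℕ) * σ d.a2 + c.a6 * c.a8 * c.b8 * d.a1 * σ d.a1 +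
      c.a7 * c.a8 * σ c.a8 * d.a1 * σ d.a1 + σ c.a8 * σ c.b8 * d.a1 * σ d.a1 * d.a2 + σ c.a8 * c.b8 * σ d.a1 * d.a2
      ^ (2:ℕ) + c.a8 * σ c.a8 * d.a2 ^ (2:ℕ) * σ d.a2 + c.b8 * σ c.b8 * d.a1 ^ (2:ℕ) * σ d.a1 + c.b8 ^ (2:ℕ) * d.a1 * σ d.a1 * d.a2
      + c.a6 * c.a8 ^ (2:ℕ) * σ c.a8 * d.a1 * σ d.a1 + c.a8 * c.b8 ^ (2:ℕ) * d.a1 ^ (2:ℕ) * σ d.a1 + c.a8 * σ c.a8 * σ c.b8 *
      d.a1 ^ (2:ℕ) * σ d.a1 + c.a8 ^ (2:ℕ) * (σ c.a8) ^ (2:ℕ) * d.a1 * σ d.a1 * d.a2 + c.a8 ^ (3:ℕ) * (σ c.a8) ^ (2:ℕ) * d.a1 ^ (2:ℕ) * σ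
      d.a1, c.a5 + d.a5 + c.a6 * d.a4 + σ c.a7 * d.a1 + c.a7 * σ d.a2 + σ c.a8 * d.a3 + c.b8 * d.b2 + c.a6 * c.a8 *
      σ d.a2 + c.a6 * c.b8 * σ d.a1 + c.a7 * σ c.a8 * σ d.a1 + σ c.a8 * d.a2 * d.a4 + c.a8 * σ c.a8 * d.b2 + σ c.b8
      * d.a1 * σ d.a2 + c.b8 * d.a1 * d.a4 + σ c.a8 * σ c.b8 * d.a1 * σ d.a1 + c.a8 * σ c.a8 * d.a1 * d.a4 + c.b8 ^
      (2:ℕ) * d.a1 * σ d.a1 + c.a8 ^ (2:ℕ) * (σ c.a8) ^ (2:ℕ) * d.a1 * σ d.a1, c.a6 + σ c.a8 * d.a2 + c.b8 * d.a1 + c.a8 * σ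
      c.a8 * d.a1, c.b6 + σ c.a7 * d.a2 + c.a7 * d.a4 + c.a8 * d.a5 + σ c.b8 * d.b2 + c.b8 * d.a3 + c.a6 * σ c.b8 *
      σ d.a1 + σ c.a7 * c.a8 * d.a1 + c.a7 * c.a8 * σ d.a2 + c.a7 * c.b8 * σ d.a1 + c.a8 * c.b8 * d.b2 + σ c.b8 *
      d.a1 * d.a4 + σ c.b8 * d.a2 * σ d.a2 + c.b8 * d.a2 * d.a4 + c.a6 * c.a8 ^ (2:ℕ) * σ d.a2 + σ c.a8 * σ c.b8 * σ
      d.a1 * d.a2 + c.a8 * σ c.b8 * d.a1 * σ d.a2 + c.a8 * c.b8 * d.a1 * d.a4 + c.a8 ^ (2:ℕ) * σ c.a8 * d.b2 + c.b8 ^ (2:ℕ)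
      * σ d.a1 * d.a2 + c.a6 * c.a8 ^ (2:ℕ) * σ c.a8 * σ d.a1 + c.a8 * c.b8 ^ (2:ℕ) * d.a1 * σ d.a1 + c.a8 * σ c.a8 * σ c.b8
      * d.a1 * σ d.a1 + c.a8 ^ (2:ℕ) * σ c.a8 * d.a1 * d.a4 + c.a8 ^ (2:ℕ) * (σ c.a8) ^ (2:ℕ) * σ d.a1 * d.a2 + c.a8 ^ (3:ℕ) * (σ
      c.a8) ^ (2:ℕ) * d.a1 * σ d.a1, c.a7 + σ c.b8 * d.a1 + c.b8 * d.a2 + c.a8 * c.b8 * d.a1 + c.a8 ^ (2:ℕ) * σ c.a8 * d.a1,
      c.a8, c.b8⟩ *
      F.x6 d.a6 d.b6 =
      F.E ⟨c.a1 + d.a1, c.a2 + d.a2 + c.a8 * d.a1, c.b2 + d.b2 + c.a2 * σ d.a2 + c.a4 * d.a1 + c.a6 * σ d.a1 + c.a2 * σ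
      c.a8 * σ d.a1 + c.a8 * d.a1 * σ d.a2 + c.b8 * d.a1 * σ d.a1, c.a3 + d.a3 + c.a4 * d.a2 + σ c.a6 * d.a1 + c.a7
      * σ d.a1 + c.a8 * d.b2 + c.a4 * c.a8 * d.a1 + c.a8 * d.a2 * σ d.a2 + σ c.b8 * d.a1 * σ d.a1 + c.b8 * σ d.a1 *
      d.a2 + c.a8 * c.b8 * d.a1 * σ d.a1 + c.a8 ^ (2:ℕ) * σ c.a8 * d.a1 * σ d.a1, c.a4 + d.a4 + c.a8 * σ d.a2 + c.b8 * σ
      d.a1, c.b4 + d.b4 + c.a4 * σ d.a4 + c.a5 * d.a2 + c.a6 * d.a3 + c.a7 * d.b2 + c.a8 * σ d.a3 + c.b6 * d.a1 +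
      c.b8 * σ d.b2 + c.a5 * c.a8 * d.a1 + c.a6 * c.a7 * σ d.a1 + c.a6 * c.a8 * d.b2 + σ c.a7 * d.a1 * d.a2 + c.a7 *
      d.a2 * σ d.a2 + σ c.a8 * d.a2 * d.a3 + c.a8 * σ d.a2 * σ d.a4 + σ c.b8 * d.a1 * d.b2 + c.b8 * σ d.a1 * σ d.a4
      + c.b8 * d.a1 * d.a3 + c.b8 * d.a2 * d.b2 + c.a4 * σ c.a8 * d.a2 ^ (2:ℕ) + c.a4 * σ c.b8 * d.a1 ^ (2:ℕ) + c.a6 * c.a8
      * d.a2 * σ d.a2 + c.a6 * σ c.b8 * d.a1 * σ d.a1 + c.a6 * c.b8 * σ d.a1 * d.a2 + σ c.a7 * c.a8 * d.a1 ^ (2:ℕ) +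
      c.a7 * σ c.a8 * σ d.a1 * d.a2 + c.a7 * c.b8 * d.a1 * σ d.a1 + c.a8 * σ c.a8 * d.a1 * d.a3 + c.a8 * σ c.a8 *
      d.a2 * d.b2 + σ c.b8 * d.a1 * d.a2 * σ d.a2 + c.b8 * d.a2 ^ (2:ℕ) * σ d.a2 + c.a6 * c.a8 * c.b8 * d.a1 * σ d.a1 +
      c.a7 * c.a8 * σ c.a8 * d.a1 * σ d.a1 + σ c.a8 * σ c.b8 * d.a1 * σ d.a1 * d.a2 + σ c.a8 * c.b8 * σ d.a1 * d.a2
      ^ (2:ℕ) + c.a8 * σ c.a8 * d.a2 ^ (2:ℕ) * σ d.a2 + c.b8 * σ c.b8 * d.a1 ^ (2:ℕ) * σ d.a1 + c.b8 ^ (2:ℕ) * d.a1 * σ d.a1 * d.a2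
      + c.a6 * c.a8 ^ (2:ℕ) * σ c.a8 * d.a1 * σ d.a1 + c.a8 * c.b8 ^ (2:ℕ) * d.a1 ^ (2:ℕ) * σ d.a1 + c.a8 * σ c.a8 * σ c.b8 *
      d.a1 ^ (2:ℕ) * σ d.a1 + c.a8 ^ (2:ℕ) * (σ c.a8) ^ (2:ℕ) * d.a1 * σ d.a1 * d.a2 + c.a8 ^ (3:ℕ) * (σ c.a8) ^ (2:ℕ) * d.a1 ^ (2:ℕ) * σ
      d.a1, c.a5 + d.a5 + c.a6 * d.a4 + σ c.a7 * d.a1 + c.a7 * σ d.a2 + σ c.a8 * d.a3 + c.b8 * d.b2 + c.a6 * c.a8 *
      σ d.a2 + c.a6 * c.b8 * σ d.a1 + c.a7 * σ c.a8 * σ d.a1 + σ c.a8 * d.a2 * d.a4 + c.a8 * σ c.a8 * d.b2 + σ c.b8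
      * d.a1 * σ d.a2 + c.b8 * d.a1 * d.a4 + σ c.a8 * σ c.b8 * d.a1 * σ d.a1 + c.a8 * σ c.a8 * d.a1 * d.a4 + c.b8 ^
      (2:ℕ) * d.a1 * σ d.a1 + c.a8 ^ (2:ℕ) * (σ c.a8) ^ (2:ℕ) * d.a1 * σ d.a1, c.a6 + d.a6 + σ c.a8 * d.a2 + c.b8 * d.a1 + c.a8
      * σ c.a8 * d.a1, c.b6 + d.b6 + c.a6 * σ d.a6 + σ c.a7 * d.a2 + c.a7 * d.a4 + c.a8 * d.a5 + σ c.b8 * d.b2 +
      c.b8 * d.a3 + c.a6 * σ c.b8 * σ d.a1 + σ c.a7 * c.a8 * d.a1 + c.a7 * c.a8 * σ d.a2 + c.a7 * c.b8 * σ d.a1 + σ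
      c.a8 * d.a2 * σ d.a6 + c.a8 * c.b8 * d.b2 + σ c.b8 * d.a1 * d.a4 + σ c.b8 * d.a2 * σ d.a2 + c.b8 * d.a1 * σ
      d.a6 + c.b8 * d.a2 * d.a4 + c.a6 * c.a8 ^ (2:ℕ) * σ d.a2 + σ c.a8 * σ c.b8 * σ d.a1 * d.a2 + c.a8 * σ c.b8 * d.a1
      * σ d.a2 + c.a8 * c.b8 * d.a1 * d.a4 + c.a8 * σ c.a8 * d.a1 * σ d.a6 + c.a8 ^ (2:ℕ) * σ c.a8 * d.b2 + c.b8 ^ (2:ℕ) * σ
      d.a1 * d.a2 + c.a6 * c.a8 ^ (2:ℕ) * σ c.a8 * σ d.a1 + c.a8 * c.b8 ^ (2:ℕ) * d.a1 * σ d.a1 + c.a8 * σ c.a8 * σ c.b8 *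
      d.a1 * σ d.a1 + c.a8 ^ (2:ℕ) * σ c.a8 * d.a1 * d.a4 + c.a8 ^ (2:ℕ) * (σ c.a8) ^ (2:ℕ) * σ d.a1 * d.a2 + c.a8 ^ (3:ℕ) * (σ
      c.a8) ^ (2:ℕ) * d.a1 * σ d.a1, c.a7 + c.a8 * d.a6 + σ c.b8 * d.a1 + c.b8 * d.a2 + c.a8 * c.b8 * d.a1 + c.a8 ^ (2:ℕ) *
      σ c.a8 * d.a1, c.a8, c.b8⟩ by
    refine (H.R6 _ _ _).trans ?_
    refine congrArg F.E (Cd.ext ?_ ?_ ?_ ?_ ?_ ?_ ?_ ?_ ?_ ?_ ?_ ?_)
    · first | with_reducible rfl | ((try simp only [map_add, map_mul, map_pow, map_zero, H.hs]) <;> ring1)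
    · first | with_reducible rfl | ((try simp only [map_add, map_mul, map_pow, map_zero, H.hs]) <;> ring1)
    · first | with_reducible rfl | ((try simp only [map_add, map_mul, map_pow, map_zero, H.hs]) <;> ring1)
    · first | with_reducible rfl | ((try simp only [map_add, map_mul, map_pow, map_zero, H.hs]) <;> ring1)
    · first | with_reducible rfl | ((try simp only [map_add, map_mul, map_pow, map_zero, H.hs]) <;> ring1)
    · first | with_reducible rfl | ((try simp only [map_add, map_mul, map_pow, map_zero, H.hs]) <;> ring1)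
    · first | with_reducible rfl | ((try simp only [map_add, map_mul, map_pow, map_zero, H.hs]) <;> ring1)
    · first | with_reducible rfl | ((try simp only [map_add, map_mul, map_pow, map_zero, H.hs]) <;> ring1)
    · first | with_reducible rfl | ((try simp only [map_add, map_mul, map_pow, map_zero, H.hs]) <;> ring1)
    · first | with_reducible rfl | ((try simp only [map_add, map_mul, map_pow, map_zero, H.hs]) <;> ring1)
    · first | with_reducible rfl | ((try simp only [map_add, map_mul, map_pow, map_zero, H.hs]) <;> ring1)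
    · first | with_reducible rfl | ((try simp only [map_add, map_mul, map_pow, map_zero, H.hs]) <;> ring1)
    ]
  rw [show F.E ⟨c.a1 + d.a1, c.a2 + d.a2 + c.a8 * d.a1, c.b2 + d.b2 + c.a2 * σ d.a2 + c.a4 * d.a1 + c.a6 * σ d.a1 + c.a2 * σ
      c.a8 * σ d.a1 + c.a8 * d.a1 * σ d.a2 + c.b8 * d.a1 * σ d.a1, c.a3 + d.a3 + c.a4 * d.a2 + σ c.a6 * d.a1 + c.a7
      * σ d.a1 + c.a8 * d.b2 + c.a4 * c.a8 * d.a1 + c.a8 * d.a2 * σ d.a2 + σ c.b8 * d.a1 * σ d.a1 + c.b8 * σ d.a1 *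
      d.a2 + c.a8 * c.b8 * d.a1 * σ d.a1 + c.a8 ^ (2:ℕ) * σ c.a8 * d.a1 * σ d.a1, c.a4 + d.a4 + c.a8 * σ d.a2 + c.b8 * σ
      d.a1, c.b4 + d.b4 + c.a4 * σ d.a4 + c.a5 * d.a2 + c.a6 * d.a3 + c.a7 * d.b2 + c.a8 * σ d.a3 + c.b6 * d.a1 +
      c.b8 * σ d.b2 + c.a5 * c.a8 * d.a1 + c.a6 * c.a7 * σ d.a1 + c.a6 * c.a8 * d.b2 + σ c.a7 * d.a1 * d.a2 + c.a7 *
      d.a2 * σ d.a2 + σ c.a8 * d.a2 * d.a3 + c.a8 * σ d.a2 * σ d.a4 + σ c.b8 * d.a1 * d.b2 + c.b8 * σ d.a1 * σ d.a4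
      + c.b8 * d.a1 * d.a3 + c.b8 * d.a2 * d.b2 + c.a4 * σ c.a8 * d.a2 ^ (2:ℕ) + c.a4 * σ c.b8 * d.a1 ^ (2:ℕ) + c.a6 * c.a8
      * d.a2 * σ d.a2 + c.a6 * σ c.b8 * d.a1 * σ d.a1 + c.a6 * c.b8 * σ d.a1 * d.a2 + σ c.a7 * c.a8 * d.a1 ^ (2:ℕ) +
      c.a7 * σ c.a8 * σ d.a1 * d.a2 + c.a7 * c.b8 * d.a1 * σ d.a1 + c.a8 * σ c.a8 * d.a1 * d.a3 + c.a8 * σ c.a8 *
      d.a2 * d.b2 + σ c.b8 * d.a1 * d.a2 * σ d.a2 + c.b8 * d.a2 ^ (2:ℕ) * σ d.a2 + c.a6 * c.a8 * c.b8 * d.a1 * σ d.a1 +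
      c.a7 * c.a8 * σ c.a8 * d.a1 * σ d.a1 + σ c.a8 * σ c.b8 * d.a1 * σ d.a1 * d.a2 + σ c.a8 * c.b8 * σ d.a1 * d.a2
      ^ (2:ℕ) + c.a8 * σ c.a8 * d.a2 ^ (2:ℕ) * σ d.a2 + c.b8 * σ c.b8 * d.a1 ^ (2:ℕ) * σ d.a1 + c.b8 ^ (2:ℕ) * d.a1 * σ d.a1 * d.a2
      + c.a6 * c.a8 ^ (2:ℕ) * σ c.a8 * d.a1 * σ d.a1 + c.a8 * c.b8 ^ (2:ℕ) * d.a1 ^ (2:ℕ) * σ d.a1 + c.a8 * σ c.a8 * σ c.b8 *
      d.a1 ^ (2:ℕ) * σ d.a1 + c.a8 ^ (2:ℕ) * (σ c.a8) ^ (2:ℕ) * d.a1 * σ d.a1 * d.a2 + c.a8 ^ (3:ℕ) * (σ c.a8) ^ (2:ℕ) * d.a1 ^ (2:ℕ) * σ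
      d.a1, c.a5 + d.a5 + c.a6 * d.a4 + σ c.a7 * d.a1 + c.a7 * σ d.a2 + σ c.a8 * d.a3 + c.b8 * d.b2 + c.a6 * c.a8 *
      σ d.a2 + c.a6 * c.b8 * σ d.a1 + c.a7 * σ c.a8 * σ d.a1 + σ c.a8 * d.a2 * d.a4 + c.a8 * σ c.a8 * d.b2 + σ c.b8
      * d.a1 * σ d.a2 + c.b8 * d.a1 * d.a4 + σ c.a8 * σ c.b8 * d.a1 * σ d.a1 + c.a8 * σ c.a8 * d.a1 * d.a4 + c.b8 ^
      (2:ℕ) * d.a1 * σ d.a1 + c.a8 ^ (2:ℕ) * (σ c.a8) ^ (2:ℕ) * d.a1 * σ d.a1, c.a6 + d.a6 + σ c.a8 * d.a2 + c.b8 * d.a1 + c.a8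
      * σ c.a8 * d.a1, c.b6 + d.b6 + c.a6 * σ d.a6 + σ c.a7 * d.a2 + c.a7 * d.a4 + c.a8 * d.a5 + σ c.b8 * d.b2 +
      c.b8 * d.a3 + c.a6 * σ c.b8 * σ d.a1 + σ c.a7 * c.a8 * d.a1 + c.a7 * c.a8 * σ d.a2 + c.a7 * c.b8 * σ d.a1 + σ
      c.a8 * d.a2 * σ d.a6 + c.a8 * c.b8 * d.b2 + σ c.b8 * d.a1 * d.a4 + σ c.b8 * d.a2 * σ d.a2 + c.b8 * d.a1 * σ
      d.a6 + c.b8 * d.a2 * d.a4 + c.a6 * c.a8 ^ (2:ℕ) * σ d.a2 + σ c.a8 * σ c.b8 * σ d.a1 * d.a2 + c.a8 * σ c.b8 * d.a1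
      * σ d.a2 + c.a8 * c.b8 * d.a1 * d.a4 + c.a8 * σ c.a8 * d.a1 * σ d.a6 + c.a8 ^ (2:ℕ) * σ c.a8 * d.b2 + c.b8 ^ (2:ℕ) * σ
      d.a1 * d.a2 + c.a6 * c.a8 ^ (2:ℕ) * σ c.a8 * σ d.a1 + c.a8 * c.b8 ^ (2:ℕ) * d.a1 * σ d.a1 + c.a8 * σ c.a8 * σ c.b8 *
      d.a1 * σ d.a1 + c.a8 ^ (2:ℕ) * σ c.a8 * d.a1 * d.a4 + c.a8 ^ (2:ℕ) * (σ c.a8) ^ (2:ℕ) * σ d.a1 * d.a2 + c.a8 ^ (3:ℕ) * (σ
      c.a8) ^ (2:ℕ) * d.a1 * σ d.a1, c.a7 + c.a8 * d.a6 + σ c.b8 * d.a1 + c.b8 * d.a2 + c.a8 * c.b8 * d.a1 + c.a8 ^ (2:ℕ) *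
      σ c.a8 * d.a1, c.a8, c.b8⟩ *
      F.x7 d.a7 =
      F.E ⟨c.a1 + d.a1, c.a2 + d.a2 + c.a8 * d.a1, c.b2 + d.b2 + c.a2 * σ d.a2 + c.a4 * d.a1 + c.a6 * σ d.a1 + c.a2 * σ
      c.a8 * σ d.a1 + c.a8 * d.a1 * σ d.a2 + c.b8 * d.a1 * σ d.a1, c.a3 + d.a3 + c.a4 * d.a2 + σ c.a6 * d.a1 + c.a7
      * σ d.a1 + c.a8 * d.b2 + c.a4 * c.a8 * d.a1 + c.a8 * d.a2 * σ d.a2 + σ c.b8 * d.a1 * σ d.a1 + c.b8 * σ d.a1 *
      d.a2 + c.a8 * c.b8 * d.a1 * σ d.a1 + c.a8 ^ (2:ℕ) * σ c.a8 * d.a1 * σ d.a1, c.a4 + d.a4 + c.a8 * σ d.a2 + c.b8 * σ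
      d.a1, c.b4 + d.b4 + c.a4 * σ d.a4 + c.a5 * d.a2 + c.a6 * d.a3 + c.a7 * d.b2 + c.a8 * σ d.a3 + c.b6 * d.a1 +
      c.b8 * σ d.b2 + c.a5 * c.a8 * d.a1 + c.a6 * c.a7 * σ d.a1 + c.a6 * c.a8 * d.b2 + σ c.a7 * d.a1 * d.a2 + c.a7 *
      d.a2 * σ d.a2 + σ c.a8 * d.a2 * d.a3 + c.a8 * σ d.a2 * σ d.a4 + σ c.b8 * d.a1 * d.b2 + c.b8 * σ d.a1 * σ d.a4
      + c.b8 * d.a1 * d.a3 + c.b8 * d.a2 * d.b2 + c.a4 * σ c.a8 * d.a2 ^ (2:ℕ) + c.a4 * σ c.b8 * d.a1 ^ (2:ℕ) + c.a6 * c.a8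
      * d.a2 * σ d.a2 + c.a6 * σ c.b8 * d.a1 * σ d.a1 + c.a6 * c.b8 * σ d.a1 * d.a2 + σ c.a7 * c.a8 * d.a1 ^ (2:ℕ) +
      c.a7 * σ c.a8 * σ d.a1 * d.a2 + c.a7 * c.b8 * d.a1 * σ d.a1 + c.a8 * σ c.a8 * d.a1 * d.a3 + c.a8 * σ c.a8 *
      d.a2 * d.b2 + σ c.b8 * d.a1 * d.a2 * σ d.a2 + c.b8 * d.a2 ^ (2:ℕ) * σ d.a2 + c.a6 * c.a8 * c.b8 * d.a1 * σ d.a1 +
      c.a7 * c.a8 * σ c.a8 * d.a1 * σ d.a1 + σ c.a8 * σ c.b8 * d.a1 * σ d.a1 * d.a2 + σ c.a8 * c.b8 * σ d.a1 * d.a2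
      ^ (2:ℕ) + c.a8 * σ c.a8 * d.a2 ^ (2:ℕ) * σ d.a2 + c.b8 * σ c.b8 * d.a1 ^ (2:ℕ) * σ d.a1 + c.b8 ^ (2:ℕ) * d.a1 * σ d.a1 * d.a2
      + c.a6 * c.a8 ^ (2:ℕ) * σ c.a8 * d.a1 * σ d.a1 + c.a8 * c.b8 ^ (2:ℕ) * d.a1 ^ (2:ℕ) * σ d.a1 + c.a8 * σ c.a8 * σ c.b8 *
      d.a1 ^ (2:ℕ) * σ d.a1 + c.a8 ^ (2:ℕ) * (σ c.a8) ^ (2:ℕ) * d.a1 * σ d.a1 * d.a2 + c.a8 ^ (3:ℕ) * (σ c.a8) ^ (2:ℕ) * d.a1 ^ (2:ℕ) * σ
      d.a1, c.a5 + d.a5 + c.a6 * d.a4 + σ c.a7 * d.a1 + c.a7 * σ d.a2 + σ c.a8 * d.a3 + c.b8 * d.b2 + c.a6 * c.a8 *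
      σ d.a2 + c.a6 * c.b8 * σ d.a1 + c.a7 * σ c.a8 * σ d.a1 + σ c.a8 * d.a2 * d.a4 + c.a8 * σ c.a8 * d.b2 + σ c.b8
      * d.a1 * σ d.a2 + c.b8 * d.a1 * d.a4 + σ c.a8 * σ c.b8 * d.a1 * σ d.a1 + c.a8 * σ c.a8 * d.a1 * d.a4 + c.b8 ^
      (2:ℕ) * d.a1 * σ d.a1 + c.a8 ^ (2:ℕ) * (σ c.a8) ^ (2:ℕ) * d.a1 * σ d.a1, c.a6 + d.a6 + σ c.a8 * d.a2 + c.b8 * d.a1 + c.a8
      * σ c.a8 * d.a1, c.b6 + d.b6 + c.a6 * σ d.a6 + σ c.a7 * d.a2 + c.a7 * d.a4 + c.a8 * d.a5 + σ c.b8 * d.b2 +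
      c.b8 * d.a3 + c.a6 * σ c.b8 * σ d.a1 + σ c.a7 * c.a8 * d.a1 + c.a7 * c.a8 * σ d.a2 + c.a7 * c.b8 * σ d.a1 + σ
      c.a8 * d.a2 * σ d.a6 + c.a8 * c.b8 * d.b2 + σ c.b8 * d.a1 * d.a4 + σ c.b8 * d.a2 * σ d.a2 + c.b8 * d.a1 * σ
      d.a6 + c.b8 * d.a2 * d.a4 + c.a6 * c.a8 ^ (2:ℕ) * σ d.a2 + σ c.a8 * σ c.b8 * σ d.a1 * d.a2 + c.a8 * σ c.b8 * d.a1
      * σ d.a2 + c.a8 * c.b8 * d.a1 * d.a4 + c.a8 * σ c.a8 * d.a1 * σ d.a6 + c.a8 ^ (2:ℕ) * σ c.a8 * d.b2 + c.b8 ^ (2:ℕ) * σ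
      d.a1 * d.a2 + c.a6 * c.a8 ^ (2:ℕ) * σ c.a8 * σ d.a1 + c.a8 * c.b8 ^ (2:ℕ) * d.a1 * σ d.a1 + c.a8 * σ c.a8 * σ c.b8 *
      d.a1 * σ d.a1 + c.a8 ^ (2:ℕ) * σ c.a8 * d.a1 * d.a4 + c.a8 ^ (2:ℕ) * (σ c.a8) ^ (2:ℕ) * σ d.a1 * d.a2 + c.a8 ^ (3:ℕ) * (σ
      c.a8) ^ (2:ℕ) * d.a1 * σ d.a1, c.a7 + d.a7 + c.a8 * d.a6 + σ c.b8 * d.a1 + c.b8 * d.a2 + c.a8 * c.b8 * d.a1 + c.a8
      ^ (2:ℕ) * σ c.a8 * d.a1, c.a8, c.b8⟩ by
    refine (H.R7 _ _).trans ?_
    refine congrArg F.E (Cd.ext ?_ ?_ ?_ ?_ ?_ ?_ ?_ ?_ ?_ ?_ ?_ ?_)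
    · first | with_reducible rfl | ((try simp only [map_add, map_mul, map_pow, map_zero, H.hs]) <;> ring1)
    · first | with_reducible rfl | ((try simp only [map_add, map_mul, map_pow, map_zero, H.hs]) <;> ring1)
    · first | with_reducible rfl | ((try simp only [map_add, map_mul, map_pow, map_zero, H.hs]) <;> ring1)
    · first | with_reducible rfl | ((try simp only [map_add, map_mul, map_pow, map_zero, H.hs]) <;> ring1)
    · first | with_reducible rfl | ((try simp only [map_add, map_mul, map_pow, map_zero, H.hs]) <;> ring1)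
    · first | with_reducible rfl | ((try simp only [map_add, map_mul, map_pow, map_zero, H.hs]) <;> ring1)
    · first | with_reducible rfl | ((try simp only [map_add, map_mul, map_pow, map_zero, H.hs]) <;> ring1)
    · first | with_reducible rfl | ((try simp only [map_add, map_mul, map_pow, map_zero, H.hs]) <;> ring1)
    · first | with_reducible rfl | ((try simp only [map_add, map_mul, map_pow, map_zero, H.hs]) <;> ring1)
    · first | with_reducible rfl | ((try simp only [map_add, map_mul, map_pow, map_zero, H.hs]) <;> ring1)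
    · first | with_reducible rfl | ((try simp only [map_add, map_mul, map_pow, map_zero, H.hs]) <;> ring1)
    · first | with_reducible rfl | ((try simp only [map_add, map_mul, map_pow, map_zero, H.hs]) <;> ring1)
    ]
  rw [show F.E ⟨c.a1 + d.a1, c.a2 + d.a2 + c.a8 * d.a1, c.b2 + d.b2 + c.a2 * σ d.a2 + c.a4 * d.a1 + c.a6 * σ d.a1 + c.a2 * σ
      c.a8 * σ d.a1 + c.a8 * d.a1 * σ d.a2 + c.b8 * d.a1 * σ d.a1, c.a3 + d.a3 + c.a4 * d.a2 + σ c.a6 * d.a1 + c.a7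
      * σ d.a1 + c.a8 * d.b2 + c.a4 * c.a8 * d.a1 + c.a8 * d.a2 * σ d.a2 + σ c.b8 * d.a1 * σ d.a1 + c.b8 * σ d.a1 *
      d.a2 + c.a8 * c.b8 * d.a1 * σ d.a1 + c.a8 ^ (2:ℕ) * σ c.a8 * d.a1 * σ d.a1, c.a4 + d.a4 + c.a8 * σ d.a2 + c.b8 * σ
      d.a1, c.b4 + d.b4 + c.a4 * σ d.a4 + c.a5 * d.a2 + c.a6 * d.a3 + c.a7 * d.b2 + c.a8 * σ d.a3 + c.b6 * d.a1 +
      c.b8 * σ d.b2 + c.a5 * c.a8 * d.a1 + c.a6 * c.a7 * σ d.a1 + c.a6 * c.a8 * d.b2 + σ c.a7 * d.a1 * d.a2 + c.a7 *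
      d.a2 * σ d.a2 + σ c.a8 * d.a2 * d.a3 + c.a8 * σ d.a2 * σ d.a4 + σ c.b8 * d.a1 * d.b2 + c.b8 * σ d.a1 * σ d.a4
      + c.b8 * d.a1 * d.a3 + c.b8 * d.a2 * d.b2 + c.a4 * σ c.a8 * d.a2 ^ (2:ℕ) + c.a4 * σ c.b8 * d.a1 ^ (2:ℕ) + c.a6 * c.a8
      * d.a2 * σ d.a2 + c.a6 * σ c.b8 * d.a1 * σ d.a1 + c.a6 * c.b8 * σ d.a1 * d.a2 + σ c.a7 * c.a8 * d.a1 ^ (2:ℕ) +
      c.a7 * σ c.a8 * σ d.a1 * d.a2 + c.a7 * c.b8 * d.a1 * σ d.a1 + c.a8 * σ c.a8 * d.a1 * d.a3 + c.a8 * σ c.a8 *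
      d.a2 * d.b2 + σ c.b8 * d.a1 * d.a2 * σ d.a2 + c.b8 * d.a2 ^ (2:ℕ) * σ d.a2 + c.a6 * c.a8 * c.b8 * d.a1 * σ d.a1 +
      c.a7 * c.a8 * σ c.a8 * d.a1 * σ d.a1 + σ c.a8 * σ c.b8 * d.a1 * σ d.a1 * d.a2 + σ c.a8 * c.b8 * σ d.a1 * d.a2
      ^ (2:ℕ) + c.a8 * σ c.a8 * d.a2 ^ (2:ℕ) * σ d.a2 + c.b8 * σ c.b8 * d.a1 ^ (2:ℕ) * σ d.a1 + c.b8 ^ (2:ℕ) * d.a1 * σ d.a1 * d.a2
      + c.a6 * c.a8 ^ (2:ℕ) * σ c.a8 * d.a1 * σ d.a1 + c.a8 * c.b8 ^ (2:ℕ) * d.a1 ^ (2:ℕ) * σ d.a1 + c.a8 * σ c.a8 * σ c.b8 *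
      d.a1 ^ (2:ℕ) * σ d.a1 + c.a8 ^ (2:ℕ) * (σ c.a8) ^ (2:ℕ) * d.a1 * σ d.a1 * d.a2 + c.a8 ^ (3:ℕ) * (σ c.a8) ^ (2:ℕ) * d.a1 ^ (2:ℕ) * σ
      d.a1, c.a5 + d.a5 + c.a6 * d.a4 + σ c.a7 * d.a1 + c.a7 * σ d.a2 + σ c.a8 * d.a3 + c.b8 * d.b2 + c.a6 * c.a8 *
      σ d.a2 + c.a6 * c.b8 * σ d.a1 + c.a7 * σ c.a8 * σ d.a1 + σ c.a8 * d.a2 * d.a4 + c.a8 * σ c.a8 * d.b2 + σ c.b8
      * d.a1 * σ d.a2 + c.b8 * d.a1 * d.a4 + σ c.a8 * σ c.b8 * d.a1 * σ d.a1 + c.a8 * σ c.a8 * d.a1 * d.a4 + c.b8 ^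
      (2:ℕ) * d.a1 * σ d.a1 + c.a8 ^ (2:ℕ) * (σ c.a8) ^ (2:ℕ) * d.a1 * σ d.a1, c.a6 + d.a6 + σ c.a8 * d.a2 + c.b8 * d.a1 + c.a8
      * σ c.a8 * d.a1, c.b6 + d.b6 + c.a6 * σ d.a6 + σ c.a7 * d.a2 + c.a7 * d.a4 + c.a8 * d.a5 + σ c.b8 * d.b2 +
      c.b8 * d.a3 + c.a6 * σ c.b8 * σ d.a1 + σ c.a7 * c.a8 * d.a1 + c.a7 * c.a8 * σ d.a2 + c.a7 * c.b8 * σ d.a1 + σ
      c.a8 * d.a2 * σ d.a6 + c.a8 * c.b8 * d.b2 + σ c.b8 * d.a1 * d.a4 + σ c.b8 * d.a2 * σ d.a2 + c.b8 * d.a1 * σ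
      d.a6 + c.b8 * d.a2 * d.a4 + c.a6 * c.a8 ^ (2:ℕ) * σ d.a2 + σ c.a8 * σ c.b8 * σ d.a1 * d.a2 + c.a8 * σ c.b8 * d.a1
      * σ d.a2 + c.a8 * c.b8 * d.a1 * d.a4 + c.a8 * σ c.a8 * d.a1 * σ d.a6 + c.a8 ^ (2:ℕ) * σ c.a8 * d.b2 + c.b8 ^ (2:ℕ) * σ
      d.a1 * d.a2 + c.a6 * c.a8 ^ (2:ℕ) * σ c.a8 * σ d.a1 + c.a8 * c.b8 ^ (2:ℕ) * d.a1 * σ d.a1 + c.a8 * σ c.a8 * σ c.b8 *
      d.a1 * σ d.a1 + c.a8 ^ (2:ℕ) * σ c.a8 * d.a1 * d.a4 + c.a8 ^ (2:ℕ) * (σ c.a8) ^ (2:ℕ) * σ d.a1 * d.a2 + c.a8 ^ (3:ℕ) * (σ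
      c.a8) ^ (2:ℕ) * d.a1 * σ d.a1, c.a7 + d.a7 + c.a8 * d.a6 + σ c.b8 * d.a1 + c.b8 * d.a2 + c.a8 * c.b8 * d.a1 + c.a8
      ^ (2:ℕ) * σ c.a8 * d.a1, c.a8, c.b8⟩ *
      F.x8 d.a8 d.b8 =
      F.E ⟨c.a1 + d.a1, c.a2 + d.a2 + c.a8 * d.a1, c.b2 + d.b2 + c.a2 * σ d.a2 + c.a4 * d.a1 + c.a6 * σ d.a1 + c.a2 * σ
      c.a8 * σ d.a1 + c.a8 * d.a1 * σ d.a2 + c.b8 * d.a1 * σ d.a1, c.a3 + d.a3 + c.a4 * d.a2 + σ c.a6 * d.a1 + c.a7
      * σ d.a1 + c.a8 * d.b2 + c.a4 * c.a8 * d.a1 + c.a8 * d.a2 * σ d.a2 + σ c.b8 * d.a1 * σ d.a1 + c.b8 * σ d.a1 *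
      d.a2 + c.a8 * c.b8 * d.a1 * σ d.a1 + c.a8 ^ (2:ℕ) * σ c.a8 * d.a1 * σ d.a1, c.a4 + d.a4 + c.a8 * σ d.a2 + c.b8 * σ
      d.a1, c.b4 + d.b4 + c.a4 * σ d.a4 + c.a5 * d.a2 + c.a6 * d.a3 + c.a7 * d.b2 + c.a8 * σ d.a3 + c.b6 * d.a1 +
      c.b8 * σ d.b2 + c.a5 * c.a8 * d.a1 + c.a6 * c.a7 * σ d.a1 + c.a6 * c.a8 * d.b2 + σ c.a7 * d.a1 * d.a2 + c.a7 *
      d.a2 * σ d.a2 + σ c.a8 * d.a2 * d.a3 + c.a8 * σ d.a2 * σ d.a4 + σ c.b8 * d.a1 * d.b2 + c.b8 * σ d.a1 * σ d.a4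
      + c.b8 * d.a1 * d.a3 + c.b8 * d.a2 * d.b2 + c.a4 * σ c.a8 * d.a2 ^ (2:ℕ) + c.a4 * σ c.b8 * d.a1 ^ (2:ℕ) + c.a6 * c.a8
      * d.a2 * σ d.a2 + c.a6 * σ c.b8 * d.a1 * σ d.a1 + c.a6 * c.b8 * σ d.a1 * d.a2 + σ c.a7 * c.a8 * d.a1 ^ (2:ℕ) +
      c.a7 * σ c.a8 * σ d.a1 * d.a2 + c.a7 * c.b8 * d.a1 * σ d.a1 + c.a8 * σ c.a8 * d.a1 * d.a3 + c.a8 * σ c.a8 *
      d.a2 * d.b2 + σ c.b8 * d.a1 * d.a2 * σ d.a2 + c.b8 * d.a2 ^ (2:ℕ) * σ d.a2 + c.a6 * c.a8 * c.b8 * d.a1 * σ d.a1 +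
      c.a7 * c.a8 * σ c.a8 * d.a1 * σ d.a1 + σ c.a8 * σ c.b8 * d.a1 * σ d.a1 * d.a2 + σ c.a8 * c.b8 * σ d.a1 * d.a2
      ^ (2:ℕ) + c.a8 * σ c.a8 * d.a2 ^ (2:ℕ) * σ d.a2 + c.b8 * σ c.b8 * d.a1 ^ (2:ℕ) * σ d.a1 + c.b8 ^ (2:ℕ) * d.a1 * σ d.a1 * d.a2
      + c.a6 * c.a8 ^ (2:ℕ) * σ c.a8 * d.a1 * σ d.a1 + c.a8 * c.b8 ^ (2:ℕ) * d.a1 ^ (2:ℕ) * σ d.a1 + c.a8 * σ c.a8 * σ c.b8 *
      d.a1 ^ (2:ℕ) * σ d.a1 + c.a8 ^ (2:ℕ) * (σ c.a8) ^ (2:ℕ) * d.a1 * σ d.a1 * d.a2 + c.a8 ^ (3:ℕ) * (σ c.a8) ^ (2:ℕ) * d.a1 ^ (2:ℕ) * σ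
      d.a1, c.a5 + d.a5 + c.a6 * d.a4 + σ c.a7 * d.a1 + c.a7 * σ d.a2 + σ c.a8 * d.a3 + c.b8 * d.b2 + c.a6 * c.a8 *
      σ d.a2 + c.a6 * c.b8 * σ d.a1 + c.a7 * σ c.a8 * σ d.a1 + σ c.a8 * d.a2 * d.a4 + c.a8 * σ c.a8 * d.b2 + σ c.b8
      * d.a1 * σ d.a2 + c.b8 * d.a1 * d.a4 + σ c.a8 * σ c.b8 * d.a1 * σ d.a1 + c.a8 * σ c.a8 * d.a1 * d.a4 + c.b8 ^
      (2:ℕ) * d.a1 * σ d.a1 + c.a8 ^ (2:ℕ) * (σ c.a8) ^ (2:ℕ) * d.a1 * σ d.a1, c.a6 + d.a6 + σ c.a8 * d.a2 + c.b8 * d.a1 + c.a8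
      * σ c.a8 * d.a1, c.b6 + d.b6 + c.a6 * σ d.a6 + σ c.a7 * d.a2 + c.a7 * d.a4 + c.a8 * d.a5 + σ c.b8 * d.b2 +
      c.b8 * d.a3 + c.a6 * σ c.b8 * σ d.a1 + σ c.a7 * c.a8 * d.a1 + c.a7 * c.a8 * σ d.a2 + c.a7 * c.b8 * σ d.a1 + σ
      c.a8 * d.a2 * σ d.a6 + c.a8 * c.b8 * d.b2 + σ c.b8 * d.a1 * d.a4 + σ c.b8 * d.a2 * σ d.a2 + c.b8 * d.a1 * σ
      d.a6 + c.b8 * d.a2 * d.a4 + c.a6 * c.a8 ^ (2:ℕ) * σ d.a2 + σ c.a8 * σ c.b8 * σ d.a1 * d.a2 + c.a8 * σ c.b8 * d.a1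
      * σ d.a2 + c.a8 * c.b8 * d.a1 * d.a4 + c.a8 * σ c.a8 * d.a1 * σ d.a6 + c.a8 ^ (2:ℕ) * σ c.a8 * d.b2 + c.b8 ^ (2:ℕ) * σ
      d.a1 * d.a2 + c.a6 * c.a8 ^ (2:ℕ) * σ c.a8 * σ d.a1 + c.a8 * c.b8 ^ (2:ℕ) * d.a1 * σ d.a1 + c.a8 * σ c.a8 * σ c.b8 *
      d.a1 * σ d.a1 + c.a8 ^ (2:ℕ) * σ c.a8 * d.a1 * d.a4 + c.a8 ^ (2:ℕ) * (σ c.a8) ^ (2:ℕ) * σ d.a1 * d.a2 + c.a8 ^ (3:ℕ) * (σ
      c.a8) ^ (2:ℕ) * d.a1 * σ d.a1, c.a7 + d.a7 + c.a8 * d.a6 + σ c.b8 * d.a1 + c.b8 * d.a2 + c.a8 * c.b8 * d.a1 + c.a8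
      ^ (2:ℕ) * σ c.a8 * d.a1, c.a8 + d.a8, c.b8 + d.b8 + c.a8 * σ d.a8⟩ by
    refine (H.R8 _ _ _).trans ?_
    refine congrArg F.E (Cd.ext ?_ ?_ ?_ ?_ ?_ ?_ ?_ ?_ ?_ ?_ ?_ ?_)
    · first | with_reducible rfl | ((try simp only [map_add, map_mul, map_pow, map_zero, H.hs]) <;> ring1)
    · first | with_reducible rfl | ((try simp only [map_add, map_mul, map_pow, map_zero, H.hs]) <;> ring1)
    · first | with_reducible rfl | ((try simp only [map_add, map_mul, map_pow, map_zero, H.hs]) <;> ring1)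
    · first | with_reducible rfl | ((try simp only [map_add, map_mul, map_pow, map_zero, H.hs]) <;> ring1)
    · first | with_reducible rfl | ((try simp only [map_add, map_mul, map_pow, map_zero, H.hs]) <;> ring1)
    · first | with_reducible rfl | ((try simp only [map_add, map_mul, map_pow, map_zero, H.hs]) <;> ring1)
    · first | with_reducible rfl | ((try simp only [map_add, map_mul, map_pow, map_zero, H.hs]) <;> ring1)
    · first | with_reducible rfl | ((try simp only [map_add, map_mul, map_pow, map_zero, H.hs]) <;> ring1)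
    · first | with_reducible rfl | ((try simp only [map_add, map_mul, map_pow, map_zero, H.hs]) <;> ring1)
    · first | with_reducible rfl | ((try simp only [map_add, map_mul, map_pow, map_zero, H.hs]) <;> ring1)
    · first | with_reducible rfl | ((try simp only [map_add, map_mul, map_pow, map_zero, H.hs]) <;> ring1)
    · first | with_reducible rfl | ((try simp only [map_add, map_mul, map_pow, map_zero, H.hs]) <;> ring1)
    ]
  rfl

theorem E_inv (c : Cd K) : (F.E c)⁻¹ = F.E (minv σ c) := by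
  rw [Fam.E]
  simp only [mul_inv_rev, H.i1, H.i2, H.i3, H.i4, H.i5, H.i6, H.i7, H.i8, ← mul_assoc]
  rw [show F.x8 c.a8 (c.b8 + c.a8 * σ c.a8) = F.E ⟨0, 0, 0, 0, 0, 0, 0, 0, 0, 0, c.a8, c.b8 + c.a8 * σ c.a8⟩ by
    simp only [Fam.E, H.z1, H.z2, H.z3, H.z4, H.z5, H.z6, H.z7, one_mul]]
  rw [show F.E ⟨0, 0, 0, 0, 0, 0, 0, 0, 0, 0, c.a8, c.b8 + c.a8 * σ c.a8⟩ *
      F.x7 c.a7 =
      F.E ⟨0, 0, 0, 0, 0, 0, 0, 0, 0, c.a7, c.a8, c.b8 + c.a8 * σ c.a8⟩ by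
    refine (H.R7 _ _).trans ?_
    refine congrArg F.E (Cd.ext ?_ ?_ ?_ ?_ ?_ ?_ ?_ ?_ ?_ ?_ ?_ ?_)
    · first | with_reducible rfl | ((try simp only [map_add, map_mul, map_pow, map_zero, H.hs]) <;> ring1)
    · first | with_reducible rfl | ((try simp only [map_add, map_mul, map_pow, map_zero, H.hs]) <;> ring1)
    · first | with_reducible rfl | ((try simp only [map_add, map_mul, map_pow, map_zero, H.hs]) <;> ring1)
    · first | with_reducible rfl | ((try simp only [map_add, map_mul, map_pow, map_zero, H.hs]) <;> ring1)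
    · first | with_reducible rfl | ((try simp only [map_add, map_mul, map_pow, map_zero, H.hs]) <;> ring1)
    · first | with_reducible rfl | ((try simp only [map_add, map_mul, map_pow, map_zero, H.hs]) <;> ring1)
    · first | with_reducible rfl | ((try simp only [map_add, map_mul, map_pow, map_zero, H.hs]) <;> ring1)
    · first | with_reducible rfl | ((try simp only [map_add, map_mul, map_pow, map_zero, H.hs]) <;> ring1)
    · first | with_reducible rfl | ((try simp only [map_add, map_mul, map_pow, map_zero, H.hs]) <;> ring1)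
    · first | with_reducible rfl | ((try simp only [map_add, map_mul, map_pow, map_zero, H.hs]) <;> ring1)
    · first | with_reducible rfl | ((try simp only [map_add, map_mul, map_pow, map_zero, H.hs]) <;> ring1)
    · first | with_reducible rfl | ((try simp only [map_add, map_mul, map_pow, map_zero, H.hs]) <;> ring1)
    ]
  rw [show F.E ⟨0, 0, 0, 0, 0, 0, 0, 0, 0, c.a7, c.a8, c.b8 + c.a8 * σ c.a8⟩ *
      F.x6 c.a6 (c.b6 + c.a6 * σ c.a6) =
      F.E ⟨0, 0, 0, 0, 0, 0, 0, c.a6, c.b6 + c.a6 * σ c.a6, c.a7 + c.a6 * c.a8, c.a8, c.b8 + c.a8 * σ c.a8⟩ by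
    refine (H.R6 _ _ _).trans ?_
    refine congrArg F.E (Cd.ext ?_ ?_ ?_ ?_ ?_ ?_ ?_ ?_ ?_ ?_ ?_ ?_)
    · first | with_reducible rfl | ((try simp only [map_add, map_mul, map_pow, map_zero, H.hs]) <;> ring1)
    · first | with_reducible rfl | ((try simp only [map_add, map_mul, map_pow, map_zero, H.hs]) <;> ring1)
    · first | with_reducible rfl | ((try simp only [map_add, map_mul, map_pow, map_zero, H.hs]) <;> ring1)
    · first | with_reducible rfl | ((try simp only [map_add, map_mul, map_pow, map_zero, H.hs]) <;> ring1)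
    · first | with_reducible rfl | ((try simp only [map_add, map_mul, map_pow, map_zero, H.hs]) <;> ring1)
    · first | with_reducible rfl | ((try simp only [map_add, map_mul, map_pow, map_zero, H.hs]) <;> ring1)
    · first | with_reducible rfl | ((try simp only [map_add, map_mul, map_pow, map_zero, H.hs]) <;> ring1)
    · first | with_reducible rfl | ((try simp only [map_add, map_mul, map_pow, map_zero, H.hs]) <;> ring1)
    · first | with_reducible rfl | ((try simp only [map_add, map_mul, map_pow, map_zero, H.hs]) <;> ring1)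
    · first | with_reducible rfl | ((try simp only [map_add, map_mul, map_pow, map_zero, H.hs]) <;> ring1)
    · first | with_reducible rfl | ((try simp only [map_add, map_mul, map_pow, map_zero, H.hs]) <;> ring1)
    · first | with_reducible rfl | ((try simp only [map_add, map_mul, map_pow, map_zero, H.hs]) <;> ring1)
    ]
  rw [show F.E ⟨0, 0, 0, 0, 0, 0, 0, c.a6, c.b6 + c.a6 * σ c.a6, c.a7 + c.a6 * c.a8, c.a8, c.b8 + c.a8 * σ c.a8⟩ *
      F.x5 c.a5 =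
      F.E ⟨0, 0, 0, 0, 0, 0, c.a5, c.a6, c.b6 + c.a5 * c.a8 + c.a6 * σ c.a6, c.a7 + c.a6 * c.a8, c.a8, c.b8 + c.a8 * σ
      c.a8⟩ by
    refine (H.R5 _ _).trans ?_
    refine congrArg F.E (Cd.ext ?_ ?_ ?_ ?_ ?_ ?_ ?_ ?_ ?_ ?_ ?_ ?_)
    · first | with_reducible rfl | ((try simp only [map_add, map_mul, map_pow, map_zero, H.hs]) <;> ring1)
    · first | with_reducible rfl | ((try simp only [map_add, map_mul, map_pow, map_zero, H.hs]) <;> ring1)
    · first | with_reducible rfl | ((try simp only [map_add, map_mul, map_pow, map_zero, H.hs]) <;> ring1)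
    · first | with_reducible rfl | ((try simp only [map_add, map_mul, map_pow, map_zero, H.hs]) <;> ring1)
    · first | with_reducible rfl | ((try simp only [map_add, map_mul, map_pow, map_zero, H.hs]) <;> ring1)
    · first | with_reducible rfl | ((try simp only [map_add, map_mul, map_pow, map_zero, H.hs]) <;> ring1)
    · first | with_reducible rfl | ((try simp only [map_add, map_mul, map_pow, map_zero, H.hs]) <;> ring1)
    · first | with_reducible rfl | ((try simp only [map_add, map_mul, map_pow, map_zero, H.hs]) <;> ring1)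
    · first | with_reducible rfl | ((try simp only [map_add, map_mul, map_pow, map_zero, H.hs]) <;> ring1)
    · first | with_reducible rfl | ((try simp only [map_add, map_mul, map_pow, map_zero, H.hs]) <;> ring1)
    · first | with_reducible rfl | ((try simp only [map_add, map_mul, map_pow, map_zero, H.hs]) <;> ring1)
    · first | with_reducible rfl | ((try simp only [map_add, map_mul, map_pow, map_zero, H.hs]) <;> ring1)
    ]
  rw [show F.E ⟨0, 0, 0, 0, 0, 0, c.a5, c.a6, c.b6 + c.a5 * c.a8 + c.a6 * σ c.a6, c.a7 + c.a6 * c.a8, c.a8, c.b8 + c.a8 * σ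
      c.a8⟩ *
      F.x4 c.a4 (c.b4 + c.a4 * σ c.a4) =
      F.E ⟨0, 0, 0, 0, c.a4, c.b4 + c.a4 * σ c.a4, c.a5 + c.a4 * c.a6, c.a6, c.b6 + c.a4 * c.a7 + c.a5 * c.a8 + c.a6 * σ
      c.a6 + c.a4 * c.a6 * c.a8, c.a7 + c.a6 * c.a8, c.a8, c.b8 + c.a8 * σ c.a8⟩ by
    refine (H.R4 _ _ _).trans ?_
    refine congrArg F.E (Cd.ext ?_ ?_ ?_ ?_ ?_ ?_ ?_ ?_ ?_ ?_ ?_ ?_)
    · first | with_reducible rfl | ((try simp only [map_add, map_mul, map_pow, map_zero, H.hs]) <;> ring1)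
    · first | with_reducible rfl | ((try simp only [map_add, map_mul, map_pow, map_zero, H.hs]) <;> ring1)
    · first | with_reducible rfl | ((try simp only [map_add, map_mul, map_pow, map_zero, H.hs]) <;> ring1)
    · first | with_reducible rfl | ((try simp only [map_add, map_mul, map_pow, map_zero, H.hs]) <;> ring1)
    · first | with_reducible rfl | ((try simp only [map_add, map_mul, map_pow, map_zero, H.hs]) <;> ring1)
    · first | with_reducible rfl | ((try simp only [map_add, map_mul, map_pow, map_zero, H.hs]) <;> ring1)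
    · first | with_reducible rfl | ((try simp only [map_add, map_mul, map_pow, map_zero, H.hs]) <;> ring1)
    · first | with_reducible rfl | ((try simp only [map_add, map_mul, map_pow, map_zero, H.hs]) <;> ring1)
    · first | with_reducible rfl | ((try simp only [map_add, map_mul, map_pow, map_zero, H.hs]) <;> ring1)
    · first | with_reducible rfl | ((try simp only [map_add, map_mul, map_pow, map_zero, H.hs]) <;> ring1)
    · first | with_reducible rfl | ((try simp only [map_add, map_mul, map_pow, map_zero, H.hs]) <;> ring1)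
    · first | with_reducible rfl | ((try simp only [map_add, map_mul, map_pow, map_zero, H.hs]) <;> ring1)
    ]
  rw [show F.E ⟨0, 0, 0, 0, c.a4, c.b4 + c.a4 * σ c.a4, c.a5 + c.a4 * c.a6, c.a6, c.b6 + c.a4 * c.a7 + c.a5 * c.a8 + c.a6 * σ
      c.a6 + c.a4 * c.a6 * c.a8, c.a7 + c.a6 * c.a8, c.a8, c.b8 + c.a8 * σ c.a8⟩ *
      F.x3 c.a3 =
      F.E ⟨0, 0, 0, c.a3, c.a4, c.b4 + σ c.a3 * c.a8 + c.a3 * c.a6 + c.a4 * σ c.a4, c.a5 + c.a3 * σ c.a8 + c.a4 * c.a6,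
      c.a6, c.b6 + c.a3 * c.b8 + c.a4 * c.a7 + c.a5 * c.a8 + c.a6 * σ c.a6 + c.a3 * c.a8 * σ c.a8 + c.a4 * c.a6 *
      c.a8, c.a7 + c.a6 * c.a8, c.a8, c.b8 + c.a8 * σ c.a8⟩ by
    refine (H.R3 _ _).trans ?_
    refine congrArg F.E (Cd.ext ?_ ?_ ?_ ?_ ?_ ?_ ?_ ?_ ?_ ?_ ?_ ?_)
    · first | with_reducible rfl | ((try simp only [map_add, map_mul, map_pow, map_zero, H.hs]) <;> ring1)
    · first | with_reducible rfl | ((try simp only [map_add, map_mul, map_pow, map_zero, H.hs]) <;> ring1)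
    · first | with_reducible rfl | ((try simp only [map_add, map_mul, map_pow, map_zero, H.hs]) <;> ring1)
    · first | with_reducible rfl | ((try simp only [map_add, map_mul, map_pow, map_zero, H.hs]) <;> ring1)
    · first | with_reducible rfl | ((try simp only [map_add, map_mul, map_pow, map_zero, H.hs]) <;> ring1)
    · first | with_reducible rfl | ((try simp only [map_add, map_mul, map_pow, map_zero, H.hs]) <;> ring1)
    · first | with_reducible rfl | ((try simp only [map_add, map_mul, map_pow, map_zero, H.hs]) <;> ring1)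
    · first | with_reducible rfl | ((try simp only [map_add, map_mul, map_pow, map_zero, H.hs]) <;> ring1)
    · first | with_reducible rfl | ((try simp only [map_add, map_mul, map_pow, map_zero, H.hs]) <;> ring1)
    · first | with_reducible rfl | ((try simp only [map_add, map_mul, map_pow, map_zero, H.hs]) <;> ring1)
    · first | with_reducible rfl | ((try simp only [map_add, map_mul, map_pow, map_zero, H.hs]) <;> ring1)
    · first | with_reducible rfl | ((try simp only [map_add, map_mul, map_pow, map_zero, H.hs]) <;> ring1)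
    ]
  rw [show F.E ⟨0, 0, 0, c.a3, c.a4, c.b4 + σ c.a3 * c.a8 + c.a3 * c.a6 + c.a4 * σ c.a4, c.a5 + c.a3 * σ c.a8 + c.a4 * c.a6,
      c.a6, c.b6 + c.a3 * c.b8 + c.a4 * c.a7 + c.a5 * c.a8 + c.a6 * σ c.a6 + c.a3 * c.a8 * σ c.a8 + c.a4 * c.a6 *
      c.a8, c.a7 + c.a6 * c.a8, c.a8, c.b8 + c.a8 * σ c.a8⟩ *
      F.x2 c.a2 (c.b2 + c.a2 * σ c.a2) =
      F.E ⟨0, c.a2, c.b2 + c.a2 * σ c.a2, c.a3 + c.a2 * c.a4 + c.a8 * c.b2, c.a4 + σ c.a2 * c.a8, c.b4 + c.a2 * c.a5 + σ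
      c.a3 * c.a8 + c.a3 * c.a6 + c.a4 * σ c.a4 + c.a7 * c.b2 + σ c.b2 * c.b8 + c.a2 * c.a3 * σ c.a8 + c.a2 * c.a4 *
      c.a6 + c.a2 * c.b2 * c.b8 + c.a8 * σ c.a8 * σ c.b2 + c.a2 ^ (2:ℕ) * c.a4 * σ c.a8 + c.a2 ^ (2:ℕ) * σ c.a2 * c.b8 +
      c.a2 ^ (2:ℕ) * σ c.a2 * c.a8 * σ c.a8, c.a5 + σ c.a2 * c.a7 + c.a3 * σ c.a8 + c.a4 * c.a6 + c.b2 * c.b8 + c.a2 * σ
      c.a2 * c.b8, c.a6 + c.a2 * σ c.a8, c.b6 + c.a2 * σ c.a7 + c.a3 * c.b8 + c.a4 * c.a7 + c.a5 * c.a8 + c.a6 * σ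
      c.a6 + c.b2 * σ c.b8 + σ c.a2 * c.a7 * c.a8 + c.a2 * σ c.a6 * σ c.a8 + c.a3 * c.a8 * σ c.a8 + c.a4 * c.a6 *
      c.a8 + c.a8 * c.b2 * c.b8 + c.a2 * σ c.a2 * c.a8 * c.b8 + c.a8 ^ (2:ℕ) * σ c.a8 * c.b2, c.a7 + c.a2 * c.b8 + c.a6
      * c.a8 + c.a2 * c.a8 * σ c.a8, c.a8, c.b8 + c.a8 * σ c.a8⟩ by
    refine (H.R2 _ _ _).trans ?_
    refine congrArg F.E (Cd.ext ?_ ?_ ?_ ?_ ?_ ?_ ?_ ?_ ?_ ?_ ?_ ?_)
    · first | with_reducible rfl | ((try simp only [map_add, map_mul, map_pow, map_zero, H.hs]) <;> ring1)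
    · first | with_reducible rfl | ((try simp only [map_add, map_mul, map_pow, map_zero, H.hs]) <;> ring1)
    · first | with_reducible rfl | ((try simp only [map_add, map_mul, map_pow, map_zero, H.hs]) <;> ring1)
    · try simp only [map_add, map_mul, map_pow, map_zero, H.hs]
      linear_combination (c.a2 * σ c.a2 * c.a8) * H.h2
    · first | with_reducible rfl | ((try simp only [map_add, map_mul, map_pow, map_zero, H.hs]) <;> ring1)
    · try simp only [map_add, map_mul, map_pow, map_zero, H.hs]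
      linear_combination (c.a2 * c.a8 * σ c.a8 * c.b2 + 2 * c.a2 * σ c.a2 * c.a6 * c.a8 + c.a2 * σ c.a2 * c.a7 + 2 * c.a2 ^ (2:ℕ) * σ c.a2 *
      c.a8 * σ c.a8 + c.a2 ^ (2:ℕ) * σ c.a2 * c.b8 + c.a6 * c.a8 * c.b2) * H.h2
    · try simp only [map_add, map_mul, map_pow, map_zero, H.hs]
      linear_combination (σ c.a2 * c.a6 * c.a8 + c.a2 * σ c.a2 * c.a8 * σ c.a8 + c.a8 * σ c.a8 * c.b2) * H.h2
    · first | with_reducible rfl | ((try simp only [map_add, map_mul, map_pow, map_zero, H.hs]) <;> ring1)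
    · try simp only [map_add, map_mul, map_pow, map_zero, H.hs]
      linear_combination (σ c.a2 * c.a6 * c.a8 ^ (2:ℕ) + 2 * c.a2 * σ c.a2 * c.a8 ^ (2:ℕ) * σ c.a8 + c.a2 * σ c.a2 * σ c.b8 + c.a8 ^ (2:ℕ) * σ c.a8
      * c.b2) * H.h2
    · first | with_reducible rfl | ((try simp only [map_add, map_mul, map_pow, map_zero, H.hs]) <;> ring1)
    · first | with_reducible rfl | ((try simp only [map_add, map_mul, map_pow, map_zero, H.hs]) <;> ring1)
    · first | with_reducible rfl | ((try simp only [map_add, map_mul, map_pow, map_zero, H.hs]) <;> ring1)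
    ]
  rw [show F.E ⟨0, c.a2, c.b2 + c.a2 * σ c.a2, c.a3 + c.a2 * c.a4 + c.a8 * c.b2, c.a4 + σ c.a2 * c.a8, c.b4 + c.a2 * c.a5 + σ
      c.a3 * c.a8 + c.a3 * c.a6 + c.a4 * σ c.a4 + c.a7 * c.b2 + σ c.b2 * c.b8 + c.a2 * c.a3 * σ c.a8 + c.a2 * c.a4 *
      c.a6 + c.a2 * c.b2 * c.b8 + c.a8 * σ c.a8 * σ c.b2 + c.a2 ^ (2:ℕ) * c.a4 * σ c.a8 + c.a2 ^ (2:ℕ) * σ c.a2 * c.b8 +
      c.a2 ^ (2:ℕ) * σ c.a2 * c.a8 * σ c.a8, c.a5 + σ c.a2 * c.a7 + c.a3 * σ c.a8 + c.a4 * c.a6 + c.b2 * c.b8 + c.a2 * σ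
      c.a2 * c.b8, c.a6 + c.a2 * σ c.a8, c.b6 + c.a2 * σ c.a7 + c.a3 * c.b8 + c.a4 * c.a7 + c.a5 * c.a8 + c.a6 * σ
      c.a6 + c.b2 * σ c.b8 + σ c.a2 * c.a7 * c.a8 + c.a2 * σ c.a6 * σ c.a8 + c.a3 * c.a8 * σ c.a8 + c.a4 * c.a6 *
      c.a8 + c.a8 * c.b2 * c.b8 + c.a2 * σ c.a2 * c.a8 * c.b8 + c.a8 ^ (2:ℕ) * σ c.a8 * c.b2, c.a7 + c.a2 * c.b8 + c.a6
      * c.a8 + c.a2 * c.a8 * σ c.a8, c.a8, c.b8 + c.a8 * σ c.a8⟩ *
      F.x1 c.a1 =
      F.E ⟨c.a1, c.a2 + c.a1 * c.a8, c.b2 + σ c.a1 * c.a6 + c.a1 * c.a4 + c.a2 * σ c.a2 + c.a1 * σ c.a2 * c.a8 + c.a1 *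
      σ c.a1 * c.b8 + c.a1 * σ c.a1 * c.a8 * σ c.a8, c.a3 + σ c.a1 * c.a7 + c.a1 * σ c.a6 + c.a2 * c.a4 + c.a8 *
      c.b2 + σ c.a1 * c.a2 * c.b8 + σ c.a1 * c.a6 * c.a8 + c.a1 * c.a4 * c.a8 + c.a1 * σ c.a1 * σ c.b8 + σ c.a1 *
      c.a2 * c.a8 * σ c.a8 + c.a1 * σ c.a1 * c.a8 * c.b8 + c.a1 * σ c.a1 * c.a8 ^ (2:ℕ) * σ c.a8, c.a4 + σ c.a1 * c.b8 +
      σ c.a2 * c.a8 + σ c.a1 * c.a8 * σ c.a8, c.b4 + c.a1 * c.b6 + c.a2 * c.a5 + σ c.a3 * c.a8 + c.a3 * c.a6 + c.a4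
      * σ c.a4 + c.a7 * c.b2 + σ c.b2 * c.b8 + σ c.a1 * c.a6 * c.a7 + c.a1 * c.a2 * σ c.a7 + c.a1 * c.a3 * c.b8 +
      c.a1 * c.a4 * c.a7 + c.a1 * c.a6 * σ c.a6 + c.a1 * c.b2 * σ c.b8 + c.a2 * c.a3 * σ c.a8 + c.a2 * c.a4 * c.a6 +
      c.a2 * c.b2 * c.b8 + c.a8 * σ c.a8 * σ c.b2 + σ c.a1 * c.a2 * c.a6 * c.b8 + σ c.a1 * c.a2 * c.a7 * σ c.a8 + σ
      c.a1 * c.a6 ^ (2:ℕ) * c.a8 + c.a1 * c.a2 * σ c.a6 * σ c.a8 + c.a1 * σ c.a1 * c.a6 * σ c.b8 + c.a1 * σ c.a1 * c.a7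
      * c.b8 + c.a1 ^ (2:ℕ) * c.a4 * σ c.b8 + c.a1 ^ (2:ℕ) * σ c.a7 * c.a8 + c.a2 ^ (2:ℕ) * c.a4 * σ c.a8 + c.a2 ^ (2:ℕ) * σ c.a2 *
      c.b8 + σ c.a1 * c.a2 ^ (2:ℕ) * σ c.a8 * c.b8 + c.a1 * c.a8 ^ (2:ℕ) * σ c.a8 * c.b2 + c.a1 * σ c.a1 * c.a2 * σ c.a8 * σ
      c.b8 + c.a1 * σ c.a1 * c.a2 * c.b8 ^ (2:ℕ) + c.a1 ^ (2:ℕ) * σ c.a6 * c.a8 * σ c.a8 + c.a1 ^ (2:ℕ) * σ c.a1 * c.b8 * σ c.b8
      + c.a2 ^ (2:ℕ) * σ c.a2 * c.a8 * σ c.a8 + σ c.a1 * c.a2 ^ (2:ℕ) * c.a8 * (σ c.a8) ^ (2:ℕ) + c.a1 * σ c.a1 * c.a6 * c.a8 ^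
      (2:ℕ) * σ c.a8 + c.a1 ^ (2:ℕ) * c.a4 * c.a8 ^ (2:ℕ) * σ c.a8 + c.a1 ^ (2:ℕ) * σ c.a1 * c.a8 * c.b8 ^ (2:ℕ) + c.a1 * σ c.a1 * c.a2
      * c.a8 ^ (2:ℕ) * (σ c.a8) ^ (2:ℕ) + c.a1 ^ (2:ℕ) * σ c.a1 * c.a8 ^ (2:ℕ) * σ c.a8 * c.b8, c.a5 + c.a1 * σ c.a7 + σ c.a2 * c.a7
      + c.a3 * σ c.a8 + c.a4 * c.a6 + c.b2 * c.b8 + σ c.a1 * c.a6 * c.b8 + σ c.a1 * c.a7 * σ c.a8 + c.a1 * σ c.a2 *
      σ c.b8 + c.a1 * σ c.a6 * σ c.a8 + c.a2 * σ c.a2 * c.b8 + c.a1 * σ c.a1 * σ c.a8 * σ c.b8 + c.a1 * σ c.a1 *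
      c.b8 ^ (2:ℕ) + c.a1 * σ c.a2 * c.a8 ^ (2:ℕ) * σ c.a8 + c.a1 * σ c.a1 * c.a8 ^ (2:ℕ) * (σ c.a8) ^ (2:ℕ), c.a6 + c.a1 * c.b8 +
      c.a2 * σ c.a8, c.b6 + c.a2 * σ c.a7 + c.a3 * c.b8 + c.a4 * c.a7 + c.a5 * c.a8 + c.a6 * σ c.a6 + c.b2 * σ c.b8
      + σ c.a1 * c.a6 * σ c.b8 + σ c.a1 * c.a7 * c.b8 + c.a1 * σ c.a7 * c.a8 + σ c.a2 * c.a7 * c.a8 + c.a2 * σ c.a6
      * σ c.a8 + c.a3 * c.a8 * σ c.a8 + c.a4 * c.a6 * c.a8 + c.a8 * c.b2 * c.b8 + σ c.a1 * c.a2 * σ c.a8 * σ c.b8 +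
      σ c.a1 * c.a2 * c.b8 ^ (2:ℕ) + σ c.a1 * c.a6 * c.a8 * c.b8 + σ c.a1 * c.a7 * c.a8 * σ c.a8 + c.a1 * σ c.a2 * c.a8
      * σ c.b8 + c.a1 * σ c.a6 * c.a8 * σ c.a8 + c.a2 * σ c.a2 * c.a8 * c.b8 + c.a8 ^ (2:ℕ) * σ c.a8 * c.b2 + σ c.a1 *
      c.a6 * c.a8 ^ (2:ℕ) * σ c.a8 + c.a1 * σ c.a1 * c.a8 * c.b8 ^ (2:ℕ) + c.a1 * σ c.a1 * c.a8 * σ c.a8 * σ c.b8 + σ c.a1 *
      c.a2 * c.a8 ^ (2:ℕ) * (σ c.a8) ^ (2:ℕ) + c.a1 * σ c.a2 * c.a8 ^ (3:ℕ) * σ c.a8 + c.a1 * σ c.a1 * c.a8 ^ (3:ℕ) * (σ c.a8) ^ (2:ℕ),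
      c.a7 + c.a1 * σ c.b8 + c.a2 * c.b8 + c.a6 * c.a8 + c.a1 * c.a8 * c.b8 + c.a2 * c.a8 * σ c.a8 + c.a1 * c.a8 ^ (2:ℕ)
      * σ c.a8, c.a8, c.b8 + c.a8 * σ c.a8⟩ by
    refine (H.R1 _ _).trans ?_
    refine congrArg F.E (Cd.ext ?_ ?_ ?_ ?_ ?_ ?_ ?_ ?_ ?_ ?_ ?_ ?_)
    · first | with_reducible rfl | ((try simp only [map_add, map_mul, map_pow, map_zero, H.hs]) <;> ring1)
    · first | with_reducible rfl | ((try simp only [map_add, map_mul, map_pow, map_zero, H.hs]) <;> ring1)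
    · try simp only [map_add, map_mul, map_pow, map_zero, H.hs]
      linear_combination (σ c.a1 * c.a2 * σ c.a8) * H.h2
    · try simp only [map_add, map_mul, map_pow, map_zero, H.hs]
      linear_combination (c.a1 * σ c.a2 * c.a8 ^ (2:ℕ) + c.a1 * σ c.a1 * c.a8 ^ (2:ℕ) * σ c.a8) * H.h2
    · first | with_reducible rfl | ((try simp only [map_add, map_mul, map_pow, map_zero, H.hs]) <;> ring1)
    · try simp only [map_add, map_mul, map_pow, map_zero, H.hs]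
      linear_combination (σ c.a1 * c.a2 * c.a6 * c.a8 * σ c.a8 + c.a1 * σ c.a2 * c.a7 * c.a8 + c.a1 * c.a2 * σ c.a2 * c.a8 * c.b8 + c.a1
      * c.a3 * c.a8 * σ c.a8 + c.a1 * c.a4 * c.a6 * c.a8 + c.a1 * c.a5 * c.a8 + c.a1 * c.a8 * c.b2 * c.b8 + 2 * c.a1
      * σ c.a1 * c.a2 * c.a8 * σ c.a8 * c.b8 + 2 * c.a1 * σ c.a1 * c.a2 * c.a8 ^ (2:ℕ) * (σ c.a8) ^ (2:ℕ) + c.a1 * σ c.a1 *
      c.a6 * c.a8 * c.b8 + 2 * c.a1 * σ c.a1 * c.a6 * c.a8 ^ (2:ℕ) * σ c.a8 + c.a1 * σ c.a1 * c.a7 * c.a8 * σ c.a8 +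
      c.a1 ^ (2:ℕ) * σ c.a2 * c.a8 * σ c.b8 + c.a1 ^ (2:ℕ) * σ c.a2 * c.a8 ^ (3:ℕ) * σ c.a8 + c.a1 ^ (2:ℕ) * σ c.a1 * c.a8 * σ c.a8
      * σ c.b8 + c.a1 ^ (2:ℕ) * σ c.a1 * c.a8 ^ (2:ℕ) * σ c.a8 * c.b8 + 2 * c.a1 ^ (2:ℕ) * σ c.a1 * c.a8 ^ (3:ℕ) * (σ c.a8) ^ (2:ℕ)) * H.h2
    · try simp only [map_add, map_mul, map_pow, map_zero, H.hs]
      linear_combination (σ c.a1 * c.a2 * σ c.a8 * c.b8 + σ c.a1 * c.a2 * c.a8 * (σ c.a8) ^ (2:ℕ) + σ c.a1 * c.a6 * c.a8 * σ c.a8 + c.a1 * σ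
      c.a1 * c.a8 * σ c.a8 * c.b8 + c.a1 * σ c.a1 * c.a8 ^ (2:ℕ) * (σ c.a8) ^ (2:ℕ)) * H.h2
    · try simp only [map_add, map_mul, map_pow, map_zero, H.hs]
      linear_combination (c.a1 * c.a8 * σ c.a8) * H.h2
    · try simp only [map_add, map_mul, map_pow, map_zero, H.hs]
      linear_combination (σ c.a1 * c.a2 * c.a8 * σ c.a8 * c.b8 + σ c.a1 * c.a2 * c.a8 ^ (2:ℕ) * (σ c.a8) ^ (2:ℕ) + σ c.a1 * c.a6 * c.a8 ^ (2:ℕ) * σ
      c.a8 + c.a1 * σ c.a1 * c.a8 ^ (2:ℕ) * σ c.a8 * c.b8 + c.a1 * σ c.a1 * c.a8 ^ (3:ℕ) * (σ c.a8) ^ (2:ℕ)) * H.h2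
    · try simp only [map_add, map_mul, map_pow, map_zero, H.hs]
      linear_combination (c.a1 * c.a8 ^ (2:ℕ) * σ c.a8) * H.h2
    · first | with_reducible rfl | ((try simp only [map_add, map_mul, map_pow, map_zero, H.hs]) <;> ring1)
    · first | with_reducible rfl | ((try simp only [map_add, map_mul, map_pow, map_zero, H.hs]) <;> ring1)
    ]
  rfl

end Ok

variable {K : Type u} [Field K] {σ : K →+* K} {U : Type v} [Group U]

/-- the family of a group with coordinates -/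
def fam (T : TF σ U) : Fam K U := ⟨T.x1, T.x3, T.x5, T.x7, T.x2, T.x4, T.x6, T.x8⟩

theorem fam_ok (T : TF σ U) (h2 : (2 : K) = 0) (hs : ∀ x, σ (σ x) = x ^ (2:ℕ)) : Ok σ (fam T) := ⟨T.rel, h2, hs⟩

/-- the product in coordinates -/
theorem el_mul (T : TF σ U) (h2 : (2 : K) = 0) (hs : ∀ x, σ (σ x) = x ^ (2:ℕ)) (c d : Cd K) :
    T.el c * T.el d = T.el (mul σ c d) := (fam_ok T h2 hs).E_mul c d

/-- the inverse in coordinates -/
theorem el_inv (T : TF σ U) (h2 : (2 : K) = 0) (hs : ∀ x, σ (σ x) = x ^ (2:ℕ)) (c : Cd K) :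
    (T.el c)⁻¹ = T.el (minv σ c) := (fam_ok T h2 hs).E_inv c

theorem el_one (T : TF σ U) (h2 : (2 : K) = 0) (hs : ∀ x, σ (σ x) = x ^ (2:ℕ)) :
    T.el ⟨0, 0, 0, 0, 0, 0, 0, 0, 0, 0, 0, 0⟩ = 1 := (fam_ok T h2 hs).E_one

theorem el_injective (T : TF σ U) : Function.Injective T.el := T.bij.1

theorem el_surjective (T : TF σ U) : Function.Surjective T.el := T.bij.2

end Cfsg.Agent.H181.TF
end

-- part: H745/TF/Stmts
section
set_option linter.all false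

/-!
# S5262: the concrete statements

Plan: `outputs/live/tools/plans/S5262.md`.
-/

set_option autoImplicit false
set_option linter.dupNamespace false

namespace Cfsg.Agent.H745.TF

open Cfsg Cfsg.FusionSystem Cfsg.Agent.Octagon.Pkg Cfsg.Agent.H756.PU

universe u v w

namespace TF

section
variable {K : Type u} [Field K] {σ : K →+* K} {U : Type v} [Group U] (T : TF σ U)

/-- `α` is the automorphism of `U` which acts as `f τ` on `X1` and as `g τ` on `X8` (mod `Z8`) -/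
structure IsTor (α : MulAut U) (f g : K) (τ : K ≃+* K) : Prop where
  nf : f ≠ 0
  ng : g ≠ 0
  e1 : ∀ t, α (T.x1 t) = T.x1 (f * τ t)
  e2 : ∀ p u, α (T.x2 p u) = T.x2 (f * g * τ p) (f * g * σ (f * g) * τ u)
  e3 : ∀ t, α (T.x3 t) = T.x3 (f * g * σ (f * g) * g * τ t)
  e4 : ∀ p u, α (T.x4 p u) = T.x4 (σ (f * g) * g * τ p) (σ (f * g) * g * σ (σ (f * g) * g) * τ u)
  e5 : ∀ t, α (T.x5 t) = T.x5 (f * σ f * g ^ 2 * σ g ^ 2 * τ t)
  e6 : ∀ p u, α (T.x6 p u) = T.x6 (f * g * σ g * τ p) (f * g * σ g * σ (f * g * σ g) * τ u)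
  e7 : ∀ t, α (T.x7 t) = T.x7 (f * g ^ 2 * σ g * τ t)
  e8 : ∀ p u, α (T.x8 p u) = T.x8 (g * τ p) (g * σ g * τ u)

/-- the group of all these automorphisms (the closure is the set itself) -/
def TT : Subgroup (MulAut U) := Subgroup.closure {α | ∃ f g τ, T.IsTor α f g τ}

/-- `γ` is the restriction of `α` to `Q` -/
def IsR {U : Type v} [Group U] (α : MulAut U) {Q : Subgroup U} (γ : MulAut Q) : Prop :=
  ∀ e : Q, ((γ e : Q) : U) = α e

/-- the Weyl element `X_i ↔ X_{8-i}` on `QA` -/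
structure IsWa (γ : MulAut T.QA) : Prop where
  e1 : ∀ (e : T.QA) t, (e : U) = T.x1 t → ((γ e : T.QA) : U) = T.x7 t
  e2 : ∀ (e : T.QA) p u, (e : U) = T.x2 p u → ((γ e : T.QA) : U) = T.x6 p u
  e3 : ∀ (e : T.QA) t, (e : U) = T.x3 t → ((γ e : T.QA) : U) = T.x5 t
  e4 : ∀ (e : T.QA) p u, (e : U) = T.x4 p u → ((γ e : T.QA) : U) = T.x4 p u
  e5 : ∀ (e : T.QA) t, (e : U) = T.x5 t → ((γ e : T.QA) : U) = T.x3 t
  e6 : ∀ (e : T.QA) p u, (e : U) = T.x6 p u → ((γ e : T.QA) : U) = T.x2 p u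
  e7 : ∀ (e : T.QA) t, (e : U) = T.x7 t → ((γ e : T.QA) : U) = T.x1 t

/-- the Weyl element `X_i ↔ X_{10-i}` on `QB` -/
structure IsWb (γ : MulAut T.QB) : Prop where
  e2 : ∀ (e : T.QB) p u, (e : U) = T.x2 p u → ((γ e : T.QB) : U) = T.x8 p u
  e3 : ∀ (e : T.QB) t, (e : U) = T.x3 t → ((γ e : T.QB) : U) = T.x7 t
  e4 : ∀ (e : T.QB) p u, (e : U) = T.x4 p u → ((γ e : T.QB) : U) = T.x6 p u
  e5 : ∀ (e : T.QB) t, (e : U) = T.x5 t → ((γ e : T.QB) : U) = T.x5 t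
  e6 : ∀ (e : T.QB) p u, (e : U) = T.x6 p u → ((γ e : T.QB) : U) = T.x4 p u
  e7 : ∀ (e : T.QB) t, (e : U) = T.x7 t → ((γ e : T.QB) : U) = T.x3 t
  e8 : ∀ (e : T.QB) p u, (e : U) = T.x8 p u → ((γ e : T.QB) : U) = T.x2 p u

/-- `Inn(QA) Sz(q)` -/
def LamA : Subgroup (MulAut T.QA) := autInducedBy ⊤ T.QA ⊔ Subgroup.closure {γ | T.IsWa γ}

/-- `Inn(QB) SL₂(q)` -/
def LamB : Subgroup (MulAut T.QB) := autInducedBy ⊤ T.QB ⊔ Subgroup.closure {γ | T.IsWb γ}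

/-- `Γ = Aut_F(Q)` for a parabolic `Q` whose Sylow subgroup is not normal, `D` the odd part of `Aut_F(U)` -/
structure Par (Q : Subgroup U) (Γ : Subgroup (MulAut Q)) (D : Subgroup (MulAut U)) : Prop where
  indu : autInducedBy ⊤ Q ≤ Γ
  syl : ∀ P : Subgroup (MulAut Q), P ≤ Γ → IsPGroup 2 P → ∃ g ∈ Γ, ∀ x ∈ P, g * x * g⁻¹ ∈ autInducedBy ⊤ Q
  nn : ¬ ∀ γ ∈ Γ, NormAut ⊤ γ
  D_le : D ≤ T.TT
  D_cop : (Nat.card D).Coprime 2
  D_res : ∀ d ∈ D, ∀ γ : MulAut Q, IsR d γ → γ ∈ Γ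
  norm : ∀ γ ∈ Γ, NormAut ⊤ γ → ∃ x : U, ∃ d ∈ D, ∀ e : Q, ((γ e : Q) : U) = x * d e * x⁻¹

/-- `Γ = Λ D|` -/
def Std {U : Type v} [Group U] {Q : Subgroup U} (Lam Γ : Subgroup (MulAut Q)) (D : Subgroup (MulAut U)) : Prop :=
  ∀ γ : MulAut Q, γ ∈ Γ ↔ ∃ l ∈ Lam, ∃ d ∈ D, ∃ δ : MulAut Q, IsR d δ ∧ γ = l * δ

/-- `D` contains the torus `C_T(Z4)` -/
def HasA (D : Subgroup (MulAut U)) : Prop :=
  ∀ y : K, y ≠ 0 → ∀ α : MulAut U, T.IsTor α (y * σ y) (σ y)⁻¹ (RingEquiv.refl K) → α ∈ D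

/-- `D` contains the torus `C_T(X5)` -/
def HasB (D : Subgroup (MulAut U)) : Prop :=
  ∀ y : K, y ≠ 0 → ∀ α : MulAut U, T.IsTor α (y ^ 2)⁻¹ y (RingEquiv.refl K) → α ∈ D

end

end TF

/-! ### The statements -/

/-- (ISO) two groups with coordinates are isomorphic, compatibly with the root elements -/
def StIso : Prop :=
  ∀ {K : Type u} [Field K] {σ : K →+* K} {m : ℕ}, HypK σ m → ∀ {U : Type v} {U' : Type w} [Group U] [Group U'] (T : TF σ U)
    (T' : TF σ U'), ∃ e : U ≃* U', (∀ t, e (T.x1 t) = T'.x1 t) ∧ (∀ p u, e (T.x2 p u) = T'.x2 p u) ∧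
      (∀ t, e (T.x3 t) = T'.x3 t) ∧ (∀ p u, e (T.x4 p u) = T'.x4 p u) ∧ (∀ t, e (T.x5 t) = T'.x5 t) ∧
      (∀ p u, e (T.x6 p u) = T'.x6 p u) ∧ (∀ t, e (T.x7 t) = T'.x7 t) ∧ (∀ p u, e (T.x8 p u) = T'.x8 p u)

/-- (GRP) order; the automorphisms exist -/
def StGrp : Prop :=
  ∀ {K : Type u} [Field K] {σ : K →+* K} {m : ℕ}, HypK σ m → ∀ {U : Type v} [Group U] (T : TF σ U),
    Nat.card U = (2 ^ (2 * m + 1)) ^ 12 ∧ IsPGroup 2 (⊤ : Subgroup U) ∧
    (∀ (f g : K) (τ : K ≃+* K), f ≠ 0 → g ≠ 0 → ∃ α, T.IsTor α f g τ) ∧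
    (∀ α ∈ T.TT, ∃ f g τ, T.IsTor α f g τ) ∧ (∃ γ, T.IsWa γ) ∧ (∃ γ, T.IsWb γ)

/-- (SYL) -/
def StSyl : Prop :=
  ∀ {K : Type u} [Field K] [Fintype K] (m : ℕ), Fintype.card K = 2 ^ (2 * m + 1) →
    ∀ P : Sylow 2 ↥(Cfsg.Lie.twistedF4 K (2 ^ m)), ∃ σ : K →+* K, HypK σ m ∧
      Nonempty (TF σ ↥(P : Subgroup ↥(Cfsg.Lie.twistedF4 K (2 ^ m))))

/-- (ESS) essential subgroups of a saturated system -/
def StEssTF : Prop :=
  ∀ {K : Type u} [Field K] {σ : K →+* K} {m : ℕ}, HypK σ m → ∀ {U : Type v} [Group U] (T : TF σ U)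
    (F : FusionSystem (⊤ : Subgroup U)), F.IsSaturated 2 → ∀ R : Subgroup U, F.IsEssential 2 R → R = T.QA ∨ R = T.QB

/-- (TI) -/
def StTI : Prop :=
  ∀ {K : Type u} [Field K] {σ : K →+* K} {m : ℕ}, HypK σ m → ∀ {U : Type v} [Group U] (T : TF σ U),
    ∀ Q : Subgroup U, (Q = T.QA ∨ Q = T.QB) →
    (∀ Γ : Subgroup (MulAut Q), autInducedBy ⊤ Q ≤ Γ →
      (∀ P : Subgroup (MulAut Q), P ≤ Γ → IsPGroup 2 P → ∃ g ∈ Γ, ∀ x ∈ P, g * x * g⁻¹ ∈ autInducedBy ⊤ Q) →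
      TIAut (⊤ : Subgroup U) Γ) ∧
    centralizerIn ⊤ Q ≤ Q ∧ Q ≠ ⊤ ∧ (∀ α : MulAut U, Q.map α.toMonoidHom = Q)

/-- (POS) every group of automorphisms of odd order is conjugate into `TT` -/
def StPos : Prop :=
  ∀ {K : Type u} [Field K] {σ : K →+* K} {m : ℕ}, HypK σ m → ∀ {U : Type v} [Group U] (T : TF σ U),
    ∀ D : Subgroup (MulAut U), (Nat.card D).Coprime 2 → ∃ θ : MulAut U, ∀ d ∈ D, θ * d * θ⁻¹ ∈ T.TT

/-- (LA1) `q ≥ 8` -/
def StLA1 : Prop :=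
  ∀ {K : Type u} [Field K] {σ : K →+* K} {m : ℕ}, HypK σ m → 1 ≤ m → ∀ {U : Type v} [Group U] (T : TF σ U)
    (Γ : Subgroup (MulAut T.QA)) (D : Subgroup (MulAut U)), T.Par T.QA Γ D → T.HasA D

/-- (LB1) `q ≥ 8` -/
def StLB1 : Prop :=
  ∀ {K : Type u} [Field K] {σ : K →+* K} {m : ℕ}, HypK σ m → 1 ≤ m → ∀ {U : Type v} [Group U] (T : TF σ U)
    (Γ : Subgroup (MulAut T.QB)) (D : Subgroup (MulAut U)), T.Par T.QB Γ D → T.HasB D

/-- (LA2) `q ≥ 8` -/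
def StLA2 : Prop :=
  ∀ {K : Type u} [Field K] {σ : K →+* K} {m : ℕ}, HypK σ m → 1 ≤ m → ∀ {U : Type v} [Group U] (T : TF σ U)
    (Γ : Subgroup (MulAut T.QA)) (D : Subgroup (MulAut U)), T.Par T.QA Γ D → T.HasA D → T.HasB D →
    TF.Std T.LamA Γ D

/-- (LB2) `q ≥ 8` -/
def StLB2 : Prop :=
  ∀ {K : Type u} [Field K] {σ : K →+* K} {m : ℕ}, HypK σ m → 1 ≤ m → ∀ {U : Type v} [Group U] (T : TF σ U)
    (Γ : Subgroup (MulAut T.QB)) (D : Subgroup (MulAut U)), T.Par T.QB Γ D → T.HasA D → T.HasB D →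
    TF.Std T.LamB Γ D

/-- (REAL) all `q`: `²F₄(q) ⋊ (field automorphisms)` -/
def StReal : Prop :=
  ∀ {K : Type u} [Field K] {σ : K →+* K} {m : ℕ}, HypK σ m → ∀ {U : Type v} [Group U] (T : TF σ U)
    (D : Subgroup (MulAut U)), D ≤ T.TT → (Nat.card D).Coprime 2 → T.HasA D → T.HasB D →
    ∃ F : FusionSystem (⊤ : Subgroup U), F.IsSaturated 2 ∧ F.IsRealizable 2 ∧
      AF F = (MulAut.conj : U →* MulAut U).range ⊔ D ∧
      TF.Std T.LamA (F.autGroup T.QA) D ∧ TF.Std T.LamB (F.autGroup T.QB) D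

/-- `γ' = θ γ θ⁻¹` for automorphisms of a characteristic subgroup `Q` -/
def IsCj {U : Type v} [Group U] (θ : MulAut U) {Q : Subgroup U} (γ γ' : MulAut Q) : Prop :=
  ∀ e e' : Q, (e' : U) = θ e → ((γ' e' : Q) : U) = θ (γ e : Q)

/-- (Q2) `q = 2` -/
def StQ2 : Prop :=
  ∀ {K : Type u} [Field K] {σ : K →+* K}, HypK σ 0 → ∀ {U : Type v} [Group U] (T : TF σ U)
    (Γa : Subgroup (MulAut T.QA)) (Γb : Subgroup (MulAut T.QB)), T.Par T.QA Γa ⊥ → T.Par T.QB Γb ⊥ →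
    ∃ θ : MulAut U, (∀ γ γ' : MulAut T.QA, IsCj θ γ γ' → (γ ∈ Γa ↔ γ' ∈ T.LamA)) ∧
      (∀ γ γ' : MulAut T.QB, IsCj θ γ γ' → (γ ∈ Γb ↔ γ' ∈ T.LamB))

end Cfsg.Agent.H745.TF
end

-- part: H745/TF/Q2
section
set_option linter.all false
open scoped Cfsg.Agent.FastGrp

/-!
# S5262, `q = 2`: `StQ2` from the two sides
-/

set_option autoImplicit false
set_option linter.dupNamespace false

namespace Cfsg.Agent.H745.TF

open Cfsg Cfsg.FusionSystem Cfsg.Agent.H756.PU Cfsg.Agent.H802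

universe u v

/-- the B-side (helper213) -/
def StB2 : Prop :=
  ∀ {K : Type u} [Field K] {σ : K →+* K}, HypK σ 0 → ∀ {U : Type v} [Group U] (T : TF σ U)
    (Γb : Subgroup (MulAut T.QB)), T.Par T.QB Γb ⊥ →
    ∃ θ : MulAut U, ∀ γ γ' : MulAut T.QB, IsCj θ γ γ' → (γ ∈ Γb ↔ γ' ∈ T.LamB)

/-- the A-side (helper483) -/
def StA2 : Prop :=
  ∀ {K : Type u} [Field K] {σ : K →+* K}, HypK σ 0 → ∀ {U : Type v} [Group U] (T : TF σ U)
    (Γa : Subgroup (MulAut T.QA)), T.Par T.QA Γa ⊥ →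
    ∃ θ : MulAut U, (∀ γ γ' : MulAut T.QA, IsCj θ γ γ' → (γ ∈ Γa ↔ γ' ∈ T.LamA)) ∧
      (∀ γ γ' : MulAut T.QB, IsCj θ γ γ' → (γ ∈ T.LamB ↔ γ' ∈ T.LamB))

section

variable {U : Type v} [Group U]

/-- the restriction of an automorphism of `U` to a characteristic subgroup -/
def rs (θ : MulAut U) {Q : Subgroup U} (hQ : ∀ α : MulAut U, Q.map α.toMonoidHom = Q) : MulAut Q :=
  have h1 : ∀ (α : MulAut U) (x : U), x ∈ Q → α x ∈ Q := fun α x hx => by
    have : α x ∈ Q.map α.toMonoidHom := ⟨x, hx, rfl⟩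
    rwa [hQ] at this
  { toFun := fun x => ⟨θ x, h1 θ x x.2⟩
    invFun := fun x => ⟨θ⁻¹ x, h1 θ⁻¹ x x.2⟩
    left_inv := fun x => Subtype.ext (MulAut.inv_apply_self _ _ _)
    right_inv := fun x => Subtype.ext (MulAut.apply_inv_self _ _ _)
    map_mul' := fun x y => Subtype.ext (map_mul θ _ _) }

variable {θ : MulAut U} {Q : Subgroup U} (hQ : ∀ α : MulAut U, Q.map α.toMonoidHom = Q)

theorem rs_apply (x : Q) : ((rs θ hQ x : Q) : U) = θ x := rfl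

theorem isCj_iff {γ γ' : MulAut Q} : IsCj θ γ γ' ↔ γ' = rs θ hQ * γ * (rs θ hQ)⁻¹ := by
  constructor
  · intro h
    apply MulEquiv.ext
    intro e'
    obtain ⟨e, rfl⟩ := (rs θ hQ).surjective e'
    have h1 := h e (rs θ hQ e) rfl
    apply Subtype.ext
    rw [h1, MulAut.mul_apply, MulAut.mul_apply, MulAut.inv_apply_self]
    rfl
  · rintro rfl e e' he
    have h2 : e' = rs θ hQ e := Subtype.ext he
    subst h2
    rw [MulAut.mul_apply, MulAut.mul_apply, MulAut.inv_apply_self]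
    rfl

/-- `Aut_U(Q)` is invariant -/
theorem ind_inv {γ : MulAut Q} :
    rs θ hQ * γ * (rs θ hQ)⁻¹ ∈ autInducedBy (⊤ : Subgroup U) Q ↔ γ ∈ autInducedBy (⊤ : Subgroup U) Q := by
  constructor
  · intro h
    obtain ⟨g, -, hg⟩ := (mem_autInducedBy_iff _ _ _).1 h
    refine (mem_autInducedBy_iff _ _ _).2 ⟨θ⁻¹ g, Subgroup.mem_top _, fun x => ?_⟩
    have h1 := hg (rs θ hQ x)
    rw [MulAut.mul_apply, MulAut.mul_apply, MulAut.inv_apply_self] at h1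
    apply θ.injective
    have h2 : θ (γ x : Q) = g * θ x * g⁻¹ := h1
    rw [h2, map_mul, map_mul, map_inv, MulAut.apply_inv_self]
  · intro h
    obtain ⟨g, -, hg⟩ := (mem_autInducedBy_iff _ _ _).1 h
    refine (mem_autInducedBy_iff _ _ _).2 ⟨θ g, Subgroup.mem_top _, fun x => ?_⟩
    obtain ⟨y, rfl⟩ := (rs θ hQ).surjective x
    rw [MulAut.mul_apply, MulAut.mul_apply, MulAut.inv_apply_self, rs_apply, rs_apply, hg, map_mul, map_mul, map_inv]

theorem norm_inv {γ : MulAut Q} (h : NormAut (⊤ : Subgroup U) (rs θ hQ * γ * (rs θ hQ)⁻¹)) :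
    NormAut (⊤ : Subgroup U) γ := by
  intro x hx
  have h1 := h (rs θ hQ * x * (rs θ hQ)⁻¹) ((ind_inv hQ).2 hx)
  have h2 : rs θ hQ * γ * (rs θ hQ)⁻¹ * (rs θ hQ * x * (rs θ hQ)⁻¹) * (rs θ hQ * γ * (rs θ hQ)⁻¹)⁻¹ =
      rs θ hQ * (γ * x * γ⁻¹) * (rs θ hQ)⁻¹ := by group
  rw [h2] at h1
  exact (ind_inv hQ).1 h1

variable {K : Type u} [Field K] {σ : K →+* K} (T : TF σ U)

theorem par_map {Γ : Subgroup (MulAut Q)} (h : T.Par Q Γ ⊥) :
    T.Par Q (Γ.map (MulAut.conj (rs θ hQ)).toMonoidHom) ⊥ where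
  indu := by
    intro x hx
    have h3 : x = rs θ hQ * ((rs θ hQ)⁻¹ * x * rs θ hQ) * (rs θ hQ)⁻¹ := by group
    refine ⟨(rs θ hQ)⁻¹ * x * rs θ hQ, h.indu ((ind_inv hQ).1 (by rw [← h3]; exact hx)), ?_⟩
    exact h3.symm
  syl := by
    intro P hP hPp
    let ψ : MulAut Q ≃* MulAut Q := MulAut.conj (rs θ hQ)
    have hP2 : P.map ψ.symm.toMonoidHom ≤ Γ := by
      rintro _ ⟨x, hx, rfl⟩
      obtain ⟨y, hy, rfl⟩ := hP hx
      show ψ.symm (ψ y) ∈ Γ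
      rw [ψ.symm_apply_apply]; exact hy
    obtain ⟨g, hg, hgx⟩ := h.syl _ hP2 (hPp.map _)
    refine ⟨ψ g, ⟨g, hg, rfl⟩, fun x hx => ?_⟩
    have h1 := hgx (ψ.symm x) ⟨x, hx, rfl⟩
    have h2 : ψ g * x * (ψ g)⁻¹ = ψ (g * ψ.symm x * g⁻¹) := by
      rw [map_mul, map_mul, map_inv, ψ.apply_symm_apply]
    rw [h2]
    exact (ind_inv hQ).2 h1
  nn := by
    intro h1
    apply h.nn
    intro γ hγ
    exact norm_inv hQ (h1 _ ⟨γ, hγ, rfl⟩)
  D_le := bot_le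
  D_cop := h.D_cop
  D_res := by
    intro d hd γ hγ
    rw [Subgroup.mem_bot] at hd
    subst hd
    have : γ = 1 := by
      apply MulEquiv.ext
      intro e
      exact Subtype.ext (hγ e)
    rw [this]
    exact one_mem _
  norm := by
    rintro _ ⟨γ, hγ, rfl⟩ h1
    obtain ⟨x, d, hd, hx⟩ := h.norm γ hγ (norm_inv hQ h1)
    rw [Subgroup.mem_bot] at hd
    subst hd
    refine ⟨θ x, 1, Subgroup.mem_bot.2 rfl, fun e => ?_⟩
    obtain ⟨y, rfl⟩ := (rs θ hQ).surjective e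
    show ((rs θ hQ * γ * (rs θ hQ)⁻¹) (rs θ hQ y) : U) = _
    rw [MulAut.mul_apply, MulAut.mul_apply, MulAut.inv_apply_self, rs_apply, hx]
    show θ (x * (y : U) * x⁻¹) = θ x * θ y * (θ x)⁻¹
    rw [map_mul, map_mul, map_inv]

end

/-- **`StQ2` from the two sides** -/
theorem stQ2_of (hTI : StTI.{u, v}) (hA : StA2.{u, v}) (hB : StB2.{u, v}) : StQ2.{u, v} := by
  intro K _ σ hK U _ T Γa Γb hPa hPb
  obtain ⟨θ1, h1⟩ := hB hK T Γb hPb
  have hQa := (hTI hK T T.QA (Or.inl rfl)).2.2.2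
  have hQb := (hTI hK T T.QB (Or.inr rfl)).2.2.2
  obtain ⟨θ2, h2, h3⟩ := hA hK T _ (par_map (θ := θ1) hQa T hPa)
  refine ⟨θ2 * θ1, fun γ γ'' h => ?_, fun γ γ'' h => ?_⟩
  · rw [← h2 (rs θ1 hQa * γ * (rs θ1 hQa)⁻¹) γ'' ?_]
    · constructor
      · intro hγ
        exact ⟨γ, hγ, rfl⟩
      · rintro ⟨δ, hδ, he⟩
        have : δ = γ := (MulAut.conj (rs θ1 hQa)).injective he
        rw [← this]; exact hδ
    · rw [isCj_iff hQa] at h ⊢
      rw [h]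
      have : rs (θ2 * θ1) hQa = rs θ2 hQa * rs θ1 hQa := rfl
      rw [this]; group
  · rw [h1 γ (rs θ1 hQb * γ * (rs θ1 hQb)⁻¹) ((isCj_iff hQb).2 rfl)]
    refine h3 _ _ ?_
    rw [isCj_iff hQb] at h ⊢
    rw [h]
    have : rs (θ2 * θ1) hQb = rs θ2 hQb * rs θ1 hQb := rfl
    rw [this]; group

end Cfsg.Agent.H745.TF

private theorem dce_b70439cc2e1d : _root_.True := by
  try have : _root_.True := by simp only [_root_.Cfsg.Agent.H745.TF.rs.congr_simp]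
  exact _root_.True.intro
end

-- part: H752/TF/Co
section
prune_inst 0x30104100412202000818008401003c229200009000084001b16007020f8e5c21ad470820f8f02f1009cc82f448384040011000990240000020008a00011d00a084230202807cad0416008f80f802000000000000000000000000000000041004000000000
set_option linter.all false
open scoped Cfsg.Agent.FastGrp

-- part: H752/TF/CoBase
section
/-!
# S5262, task TF-CO: the named subgroups of the unipotent group of `²F₄(q)` in coordinates (helper752)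

`co T : U → Cd K` is the inverse of `T.el`. For every named subgroup `N` (and every root group):
`mem_N : g ∈ T.N ↔ (some coordinates of g vanish)`, `el_mem_N`, `N_iff` (ordered products), `card_N`, `N_normal`.
-/

set_option autoImplicit false
set_option linter.unusedVariables false
set_option linter.unusedSimpArgs false

namespace Cfsg.Agent.H752.TF

open Cfsg.Agent.Octagon.Pkg Cfsg.Agent.H745.TF

universe u v

section Cd

variable {K : Type u} [Field K]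

/-- the coordinates of the root elements -/
def e1 (t : K) : Cd K := ⟨t, 0, 0, 0, 0, 0, 0, 0, 0, 0, 0, 0⟩
def e2 (p u : K) : Cd K := ⟨0, p, u, 0, 0, 0, 0, 0, 0, 0, 0, 0⟩
def e3 (t : K) : Cd K := ⟨0, 0, 0, t, 0, 0, 0, 0, 0, 0, 0, 0⟩
def e4 (p u : K) : Cd K := ⟨0, 0, 0, 0, p, u, 0, 0, 0, 0, 0, 0⟩
def e5 (t : K) : Cd K := ⟨0, 0, 0, 0, 0, 0, t, 0, 0, 0, 0, 0⟩
def e6 (p u : K) : Cd K := ⟨0, 0, 0, 0, 0, 0, 0, p, u, 0, 0, 0⟩
def e7 (t : K) : Cd K := ⟨0, 0, 0, 0, 0, 0, 0, 0, 0, t, 0, 0⟩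
def e8 (p u : K) : Cd K := ⟨0, 0, 0, 0, 0, 0, 0, 0, 0, 0, p, u⟩

/-- coordinates as functions -/
def toFn (c : Cd K) : Fin 12 → K := ![c.a1, c.a2, c.b2, c.a3, c.a4, c.b4, c.a5, c.a6, c.b6, c.a7, c.a8, c.b8]

/-- `Cd K ≃ K^12` -/
def cdEquiv : Cd K ≃ (Fin 12 → K) where
  toFun := toFn
  invFun f := ⟨f 0, f 1, f 2, f 3, f 4, f 5, f 6, f 7, f 8, f 9, f 10, f 11⟩
  left_inv c := rfl
  right_inv f := by
    funext i
    fin_cases i <;> rfl

/-- the coordinate vectors supported on a mask -/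
def maskEquiv (M : Fin 12 → Bool) : {c : Cd K // ∀ i, M i = false → toFn c i = 0} ≃ ({i // M i = true} → K) where
  toFun c i := toFn c.1 i
  invFun f := ⟨cdEquiv.symm fun i => if h : M i = true then f ⟨i, h⟩ else 0, by
    intro i hi
    change cdEquiv (cdEquiv.symm _) i = 0
    rw [Equiv.apply_symm_apply, dif_neg (by rw [hi]; decide)]⟩
  left_inv c := by
    refine Subtype.ext ?_
    refine (Equiv.symm_apply_eq _).2 ?_
    funext i
    change _ = toFn c.1 i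
    by_cases h : M i = true
    · rw [dif_pos h]
    · rw [dif_neg h, c.2 i (by simpa using h)]
  right_inv f := by
    funext i
    change cdEquiv (cdEquiv.symm _) i.1 = f i
    rw [Equiv.apply_symm_apply, dif_pos i.2]

theorem card_mask (M : Fin 12 → Bool) :
    Nat.card {c : Cd K // ∀ i, M i = false → toFn c i = 0} = Nat.card K ^ Fintype.card {i // M i = true} := by
  rw [Nat.card_congr (maskEquiv M), Nat.card_fun, Nat.card_eq_fintype_card (α := {i // M i = true})]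

variable (σ : K →+* K) (c d : Cd K)

theorem mul_a1 : (H181.TF.mul σ c d).a1 =
    c.a1 + d.a1 := rfl

theorem mul_a2 : (H181.TF.mul σ c d).a2 =
    c.a2 + d.a2 + c.a8 * d.a1 := rfl

theorem mul_b2 : (H181.TF.mul σ c d).b2 =
    c.b2 + d.b2 + c.a2 * σ d.a2 + c.a4 * d.a1 + c.a6 * σ d.a1 + c.a2 * σ c.a8 * σ d.a1 + c.a8 * d.a1 * σ d.a2 + c.b8 *
       d.a1 * σ d.a1 := rfl

theorem mul_a3 : (H181.TF.mul σ c d).a3 =
    c.a3 + d.a3 + c.a4 * d.a2 + σ c.a6 * d.a1 + c.a7 * σ d.a1 + c.a8 * d.b2 + c.a4 * c.a8 * d.a1 + c.a8 * d.a2 * σ d.a2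
       + σ c.b8 * d.a1 * σ d.a1 + c.b8 * σ d.a1 * d.a2 + c.a8 * c.b8 * d.a1 * σ d.a1 + c.a8 ^ 2 * σ c.a8 * d.a1 * σ d.a1 := rfl

theorem mul_a4 : (H181.TF.mul σ c d).a4 =
    c.a4 + d.a4 + c.a8 * σ d.a2 + c.b8 * σ d.a1 := rfl

theorem mul_b4 : (H181.TF.mul σ c d).b4 =
    c.b4 + d.b4 + c.a4 * σ d.a4 + c.a5 * d.a2 + c.a6 * d.a3 + c.a7 * d.b2 + c.a8 * σ d.a3 + c.b6 * d.a1 + c.b8 * σ d.b2
       + c.a5 * c.a8 * d.a1 + c.a6 * c.a7 * σ d.a1 + c.a6 * c.a8 * d.b2 + σ c.a7 * d.a1 * d.a2 + c.a7 * d.a2 * σ d.a2 + σ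
       c.a8 * d.a2 * d.a3 + c.a8 * σ d.a2 * σ d.a4 + σ c.b8 * d.a1 * d.b2 + c.b8 * σ d.a1 * σ d.a4 + c.b8 * d.a1 * d.a3 +
       c.b8 * d.a2 * d.b2 + c.a4 * σ c.a8 * d.a2 ^ 2 + c.a4 * σ c.b8 * d.a1 ^ 2 + c.a6 * c.a8 * d.a2 * σ d.a2 + c.a6 * σ
       c.b8 * d.a1 * σ d.a1 + c.a6 * c.b8 * σ d.a1 * d.a2 + σ c.a7 * c.a8 * d.a1 ^ 2 + c.a7 * σ c.a8 * σ d.a1 * d.a2 + c.a7
       * c.b8 * d.a1 * σ d.a1 + c.a8 * σ c.a8 * d.a1 * d.a3 + c.a8 * σ c.a8 * d.a2 * d.b2 + σ c.b8 * d.a1 * d.a2 * σ d.a2 +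
       c.b8 * d.a2 ^ 2 * σ d.a2 + c.a6 * c.a8 * c.b8 * d.a1 * σ d.a1 + c.a7 * c.a8 * σ c.a8 * d.a1 * σ d.a1 + σ c.a8 * σ
       c.b8 * d.a1 * σ d.a1 * d.a2 + σ c.a8 * c.b8 * σ d.a1 * d.a2 ^ 2 + c.a8 * σ c.a8 * d.a2 ^ 2 * σ d.a2 + c.b8 * σ c.b8
       * d.a1 ^ 2 * σ d.a1 + c.b8 ^ 2 * d.a1 * σ d.a1 * d.a2 + c.a6 * c.a8 ^ 2 * σ c.a8 * d.a1 * σ d.a1 + c.a8 * c.b8 ^ 2 *
       d.a1 ^ 2 * σ d.a1 + c.a8 * σ c.a8 * σ c.b8 * d.a1 ^ 2 * σ d.a1 + c.a8 ^ 2 * (σ c.a8) ^ 2 * d.a1 * σ d.a1 * d.a2 +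
       c.a8 ^ 3 * (σ c.a8) ^ 2 * d.a1 ^ 2 * σ d.a1 := rfl

theorem mul_a5 : (H181.TF.mul σ c d).a5 =
    c.a5 + d.a5 + c.a6 * d.a4 + σ c.a7 * d.a1 + c.a7 * σ d.a2 + σ c.a8 * d.a3 + c.b8 * d.b2 + c.a6 * c.a8 * σ d.a2 +
       c.a6 * c.b8 * σ d.a1 + c.a7 * σ c.a8 * σ d.a1 + σ c.a8 * d.a2 * d.a4 + c.a8 * σ c.a8 * d.b2 + σ c.b8 * d.a1 * σ d.a2
       + c.b8 * d.a1 * d.a4 + σ c.a8 * σ c.b8 * d.a1 * σ d.a1 + c.a8 * σ c.a8 * d.a1 * d.a4 + c.b8 ^ 2 * d.a1 * σ d.a1 +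
       c.a8 ^ 2 * (σ c.a8) ^ 2 * d.a1 * σ d.a1 := rfl

theorem mul_a6 : (H181.TF.mul σ c d).a6 =
    c.a6 + d.a6 + σ c.a8 * d.a2 + c.b8 * d.a1 + c.a8 * σ c.a8 * d.a1 := rfl

theorem mul_b6 : (H181.TF.mul σ c d).b6 =
    c.b6 + d.b6 + c.a6 * σ d.a6 + σ c.a7 * d.a2 + c.a7 * d.a4 + c.a8 * d.a5 + σ c.b8 * d.b2 + c.b8 * d.a3 + c.a6 * σ
       c.b8 * σ d.a1 + σ c.a7 * c.a8 * d.a1 + c.a7 * c.a8 * σ d.a2 + c.a7 * c.b8 * σ d.a1 + σ c.a8 * d.a2 * σ d.a6 + c.a8 *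
       c.b8 * d.b2 + σ c.b8 * d.a1 * d.a4 + σ c.b8 * d.a2 * σ d.a2 + c.b8 * d.a1 * σ d.a6 + c.b8 * d.a2 * d.a4 + c.a6 *
       c.a8 ^ 2 * σ d.a2 + σ c.a8 * σ c.b8 * σ d.a1 * d.a2 + c.a8 * σ c.b8 * d.a1 * σ d.a2 + c.a8 * c.b8 * d.a1 * d.a4 +
       c.a8 * σ c.a8 * d.a1 * σ d.a6 + c.a8 ^ 2 * σ c.a8 * d.b2 + c.b8 ^ 2 * σ d.a1 * d.a2 + c.a6 * c.a8 ^ 2 * σ c.a8 * σ
       d.a1 + c.a8 * c.b8 ^ 2 * d.a1 * σ d.a1 + c.a8 * σ c.a8 * σ c.b8 * d.a1 * σ d.a1 + c.a8 ^ 2 * σ c.a8 * d.a1 * d.a4 +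
       c.a8 ^ 2 * (σ c.a8) ^ 2 * σ d.a1 * d.a2 + c.a8 ^ 3 * (σ c.a8) ^ 2 * d.a1 * σ d.a1 := rfl

theorem mul_a7 : (H181.TF.mul σ c d).a7 =
    c.a7 + d.a7 + c.a8 * d.a6 + σ c.b8 * d.a1 + c.b8 * d.a2 + c.a8 * c.b8 * d.a1 + c.a8 ^ 2 * σ c.a8 * d.a1 := rfl

theorem mul_a8 : (H181.TF.mul σ c d).a8 =
    c.a8 + d.a8 := rfl

theorem mul_b8 : (H181.TF.mul σ c d).b8 =
    c.b8 + d.b8 + c.a8 * σ d.a8 := rfl

end Cd

section T

variable {K : Type u} [Field K] {σ : K →+* K} {U : Type v} [Group U] (T : TF σ U)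

/-- the coordinates of an element -/
noncomputable def co (g : U) : Cd K := (Equiv.ofBijective _ T.bij).symm g

theorem el_co (g : U) : T.el (co T g) = g := (Equiv.ofBijective _ T.bij).apply_symm_apply g
theorem co_el (c : Cd K) : co T (T.el c) = c := (Equiv.ofBijective _ T.bij).symm_apply_apply c
theorem co_injective {g h : U} (e : co T g = co T h) : g = h := by rw [← el_co T g, e, el_co]

/-- `U ≃ Cd K` -/
noncomputable def coE : U ≃ Cd K := (Equiv.ofBijective _ T.bij).symm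

theorem el_e1 (t : K) : T.el (e1 t) = T.x1 t := by
  simp only [TF.el, e1, H659.TF.x1_zero T.rel, H659.TF.x2_zero T.rel, H659.TF.x3_zero T.rel, H659.TF.x4_zero T.rel, H659.TF.x5_zero T.rel, H659.TF.x6_zero T.rel, H659.TF.x7_zero T.rel, H659.TF.x8_zero T.rel, one_mul, mul_one]
theorem el_e2 (p u : K) : T.el (e2 p u) = T.x2 p u := by
  simp only [TF.el, e2, H659.TF.x1_zero T.rel, H659.TF.x2_zero T.rel, H659.TF.x3_zero T.rel, H659.TF.x4_zero T.rel, H659.TF.x5_zero T.rel, H659.TF.x6_zero T.rel, H659.TF.x7_zero T.rel, H659.TF.x8_zero T.rel, one_mul, mul_one]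
theorem el_e3 (t : K) : T.el (e3 t) = T.x3 t := by
  simp only [TF.el, e3, H659.TF.x1_zero T.rel, H659.TF.x2_zero T.rel, H659.TF.x3_zero T.rel, H659.TF.x4_zero T.rel, H659.TF.x5_zero T.rel, H659.TF.x6_zero T.rel, H659.TF.x7_zero T.rel, H659.TF.x8_zero T.rel, one_mul, mul_one]
theorem el_e4 (p u : K) : T.el (e4 p u) = T.x4 p u := by
  simp only [TF.el, e4, H659.TF.x1_zero T.rel, H659.TF.x2_zero T.rel, H659.TF.x3_zero T.rel, H659.TF.x4_zero T.rel, H659.TF.x5_zero T.rel, H659.TF.x6_zero T.rel, H659.TF.x7_zero T.rel, H659.TF.x8_zero T.rel, one_mul, mul_one]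
theorem el_e5 (t : K) : T.el (e5 t) = T.x5 t := by
  simp only [TF.el, e5, H659.TF.x1_zero T.rel, H659.TF.x2_zero T.rel, H659.TF.x3_zero T.rel, H659.TF.x4_zero T.rel, H659.TF.x5_zero T.rel, H659.TF.x6_zero T.rel, H659.TF.x7_zero T.rel, H659.TF.x8_zero T.rel, one_mul, mul_one]
theorem el_e6 (p u : K) : T.el (e6 p u) = T.x6 p u := by
  simp only [TF.el, e6, H659.TF.x1_zero T.rel, H659.TF.x2_zero T.rel, H659.TF.x3_zero T.rel, H659.TF.x4_zero T.rel, H659.TF.x5_zero T.rel, H659.TF.x6_zero T.rel, H659.TF.x7_zero T.rel, H659.TF.x8_zero T.rel, one_mul, mul_one]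
theorem el_e7 (t : K) : T.el (e7 t) = T.x7 t := by
  simp only [TF.el, e7, H659.TF.x1_zero T.rel, H659.TF.x2_zero T.rel, H659.TF.x3_zero T.rel, H659.TF.x4_zero T.rel, H659.TF.x5_zero T.rel, H659.TF.x6_zero T.rel, H659.TF.x7_zero T.rel, H659.TF.x8_zero T.rel, one_mul, mul_one]
theorem el_e8 (p u : K) : T.el (e8 p u) = T.x8 p u := by
  simp only [TF.el, e8, H659.TF.x1_zero T.rel, H659.TF.x2_zero T.rel, H659.TF.x3_zero T.rel, H659.TF.x4_zero T.rel, H659.TF.x5_zero T.rel, H659.TF.x6_zero T.rel, H659.TF.x7_zero T.rel, H659.TF.x8_zero T.rel, one_mul, mul_one]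

theorem co_x1 (t : K) : co T (T.x1 t) = e1 t := by rw [← el_e1, co_el]
theorem co_x2 (p u : K) : co T (T.x2 p u) = e2 p u := by rw [← el_e2, co_el]
theorem co_x3 (t : K) : co T (T.x3 t) = e3 t := by rw [← el_e3, co_el]
theorem co_x4 (p u : K) : co T (T.x4 p u) = e4 p u := by rw [← el_e4, co_el]
theorem co_x5 (t : K) : co T (T.x5 t) = e5 t := by rw [← el_e5, co_el]
theorem co_x6 (p u : K) : co T (T.x6 p u) = e6 p u := by rw [← el_e6, co_el]
theorem co_x7 (t : K) : co T (T.x7 t) = e7 t := by rw [← el_e7, co_el]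
theorem co_x8 (p u : K) : co T (T.x8 p u) = e8 p u := by rw [← el_e8, co_el]

theorem co_one : co T 1 = ⟨0, 0, 0, 0, 0, 0, 0, 0, 0, 0, 0, 0⟩ := by
  rw [← H659.TF.x1_zero T.rel, co_x1]
  rfl

theorem x1_mem (t : K) : T.x1 t ∈ T.X1 := Subgroup.subset_closure (Set.mem_range_self t)
theorem x2_mem (p u : K) : T.x2 p u ∈ T.X2 := Subgroup.subset_closure ⟨p, u, rfl⟩
theorem x3_mem (t : K) : T.x3 t ∈ T.X3 := Subgroup.subset_closure (Set.mem_range_self t)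
theorem x4_mem (p u : K) : T.x4 p u ∈ T.X4 := Subgroup.subset_closure ⟨p, u, rfl⟩
theorem x5_mem (t : K) : T.x5 t ∈ T.X5 := Subgroup.subset_closure (Set.mem_range_self t)
theorem x6_mem (p u : K) : T.x6 p u ∈ T.X6 := Subgroup.subset_closure ⟨p, u, rfl⟩
theorem x7_mem (t : K) : T.x7 t ∈ T.X7 := Subgroup.subset_closure (Set.mem_range_self t)
theorem x8_mem (p u : K) : T.x8 p u ∈ T.X8 := Subgroup.subset_closure ⟨p, u, rfl⟩
theorem x2_mem_Z (u : K) : T.x2 0 u ∈ T.Z2 := Subgroup.subset_closure ⟨u, rfl⟩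
theorem x4_mem_Z (u : K) : T.x4 0 u ∈ T.Z4 := Subgroup.subset_closure ⟨u, rfl⟩
theorem x6_mem_Z (u : K) : T.x6 0 u ∈ T.Z6 := Subgroup.subset_closure ⟨u, rfl⟩
theorem x8_mem_Z (u : K) : T.x8 0 u ∈ T.Z8 := Subgroup.subset_closure ⟨u, rfl⟩

theorem X1_le_QA : T.X1 ≤ T.QA := le_sup_left.trans (le_sup_left.trans (le_sup_left.trans (le_sup_left.trans (le_sup_left.trans le_sup_left))))
theorem X2_le_QA : T.X2 ≤ T.QA := le_sup_right.trans (le_sup_left.trans (le_sup_left.trans (le_sup_left.trans (le_sup_left.trans le_sup_left))))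
theorem X3_le_QA : T.X3 ≤ T.QA := le_sup_right.trans (le_sup_left.trans (le_sup_left.trans (le_sup_left.trans le_sup_left)))
theorem X4_le_QA : T.X4 ≤ T.QA := le_sup_right.trans (le_sup_left.trans (le_sup_left.trans le_sup_left))
theorem X5_le_QA : T.X5 ≤ T.QA := le_sup_right.trans (le_sup_left.trans le_sup_left)
theorem X6_le_QA : T.X6 ≤ T.QA := le_sup_right.trans le_sup_left
theorem X7_le_QA : T.X7 ≤ T.QA := le_sup_right
theorem X2_le_QB : T.X2 ≤ T.QB := le_sup_left.trans (le_sup_left.trans (le_sup_left.trans (le_sup_left.trans (le_sup_left.trans le_sup_left))))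
theorem X3_le_QB : T.X3 ≤ T.QB := le_sup_right.trans (le_sup_left.trans (le_sup_left.trans (le_sup_left.trans (le_sup_left.trans le_sup_left))))
theorem X4_le_QB : T.X4 ≤ T.QB := le_sup_right.trans (le_sup_left.trans (le_sup_left.trans (le_sup_left.trans le_sup_left)))
theorem X5_le_QB : T.X5 ≤ T.QB := le_sup_right.trans (le_sup_left.trans (le_sup_left.trans le_sup_left))
theorem X6_le_QB : T.X6 ≤ T.QB := le_sup_right.trans (le_sup_left.trans le_sup_left)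
theorem X7_le_QB : T.X7 ≤ T.QB := le_sup_right.trans le_sup_left
theorem X8_le_QB : T.X8 ≤ T.QB := le_sup_right
theorem Z4_le_V : T.Z4 ≤ T.V := le_sup_left
theorem Z6_le_V : T.Z6 ≤ T.V := le_sup_right
theorem Z4_le_Y : T.Z4 ≤ T.Y := le_sup_left.trans le_sup_left
theorem Z6_le_Y : T.Z6 ≤ T.Y := le_sup_right.trans le_sup_left
theorem X5_le_Y : T.X5 ≤ T.Y := le_sup_right
theorem Z4_le_E4 : T.Z4 ≤ T.E4 := le_sup_left.trans (le_sup_left.trans le_sup_left)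
theorem Z6_le_E4 : T.Z6 ≤ T.E4 := le_sup_right.trans (le_sup_left.trans le_sup_left)
theorem X5_le_E4 : T.X5 ≤ T.E4 := le_sup_right.trans le_sup_left
theorem X3_le_E4 : T.X3 ≤ T.E4 := le_sup_right
theorem Z4_le_E : T.Z4 ≤ T.E := le_sup_left.trans (le_sup_left.trans (le_sup_left.trans le_sup_left))
theorem Z6_le_E : T.Z6 ≤ T.E := le_sup_right.trans (le_sup_left.trans (le_sup_left.trans le_sup_left))
theorem X5_le_E : T.X5 ≤ T.E := le_sup_right.trans (le_sup_left.trans le_sup_left)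
theorem X3_le_E : T.X3 ≤ T.E := le_sup_right.trans le_sup_left
theorem Z2_le_E : T.Z2 ≤ T.E := le_sup_right
theorem Z4_le_D : T.Z4 ≤ T.D := le_sup_left.trans (le_sup_left.trans (le_sup_left.trans (le_sup_left.trans le_sup_left)))
theorem Z6_le_D : T.Z6 ≤ T.D := le_sup_right.trans (le_sup_left.trans (le_sup_left.trans (le_sup_left.trans le_sup_left)))
theorem X5_le_D : T.X5 ≤ T.D := le_sup_right.trans (le_sup_left.trans (le_sup_left.trans le_sup_left))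
theorem X3_le_D : T.X3 ≤ T.D := le_sup_right.trans (le_sup_left.trans le_sup_left)
theorem Z2_le_D : T.Z2 ≤ T.D := le_sup_right.trans le_sup_left
theorem X4_le_D : T.X4 ≤ T.D := le_sup_right
theorem Z4_le_A37 : T.Z4 ≤ T.A37 := le_sup_left.trans (le_sup_left.trans (le_sup_left.trans le_sup_left))
theorem Z6_le_A37 : T.Z6 ≤ T.A37 := le_sup_right.trans (le_sup_left.trans (le_sup_left.trans le_sup_left))
theorem X5_le_A37 : T.X5 ≤ T.A37 := le_sup_right.trans (le_sup_left.trans le_sup_left)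
theorem X3_le_A37 : T.X3 ≤ T.A37 := le_sup_right.trans le_sup_left
theorem X7_le_A37 : T.X7 ≤ T.A37 := le_sup_right
theorem Z2_le_N3 : T.Z2 ≤ T.N3 := le_sup_left.trans (le_sup_left.trans (le_sup_left.trans (le_sup_left.trans (le_sup_left.trans le_sup_left))))
theorem X3_le_N3 : T.X3 ≤ T.N3 := le_sup_right.trans (le_sup_left.trans (le_sup_left.trans (le_sup_left.trans (le_sup_left.trans le_sup_left))))
theorem X4_le_N3 : T.X4 ≤ T.N3 := le_sup_right.trans (le_sup_left.trans (le_sup_left.trans (le_sup_left.trans le_sup_left)))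
theorem X5_le_N3 : T.X5 ≤ T.N3 := le_sup_right.trans (le_sup_left.trans (le_sup_left.trans le_sup_left))
theorem X6_le_N3 : T.X6 ≤ T.N3 := le_sup_right.trans (le_sup_left.trans le_sup_left)
theorem X7_le_N3 : T.X7 ≤ T.N3 := le_sup_right.trans le_sup_left
theorem Z8_le_N3 : T.Z8 ≤ T.N3 := le_sup_right

end T

section mulPart

variable {K : Type u} [Field K] {σ : K →+* K} {m : ℕ} (hK : HypK σ m)
variable {U : Type v} [Group U] (T : TF σ U)

include hK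

theorem co_mul (g h : U) : co T (g * h) = H181.TF.mul σ (co T g) (co T h) := by
  rw [← el_co T g, ← el_co T h, H181.TF.el_mul T hK.two hK.sq, co_el, co_el, co_el]

theorem co_inv (g : U) : co T g⁻¹ = H181.TF.minv σ (co T g) := by
  rw [← el_co T g, H181.TF.el_inv T hK.two hK.sq, co_el, co_el]

include T in
theorem finite_U : Finite U := by
  have := hK.fin
  exact Finite.of_equiv _ ((coE T).trans cdEquiv).symm

include T in
theorem card_U : Nat.card U = (2 ^ (2 * m + 1)) ^ 12 := by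
  rw [Nat.card_congr ((coE T).trans cdEquiv), Nat.card_fun, hK.card, Nat.card_eq_fintype_card (α := Fin 12), Fintype.card_fin]


/-- a set of coordinates closed under the multiplication is a subgroup -/
theorem exists_sub (P : Cd K → Prop) (h1 : P ⟨0, 0, 0, 0, 0, 0, 0, 0, 0, 0, 0, 0⟩)
    (hm : ∀ c d, P c → P d → P (H181.TF.mul σ c d)) : ∃ S : Subgroup U, ∀ g, g ∈ S ↔ P (co T g) := by
  haveI := finite_U hK T
  have hp : ∀ (g : U) (n : ℕ), P (co T g) → P (co T (g ^ n)) := by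
    intro g n hg
    induction n with
    | zero => rw [pow_zero, co_one]; exact h1
    | succ n ih => rw [pow_succ, co_mul hK]; exact hm _ _ ih hg
  refine ⟨{ carrier := {g | P (co T g)}
            one_mem' := by rw [Set.mem_setOf_eq, co_one]; exact h1
            mul_mem' := fun {g h} hg hh => by
              rw [Set.mem_setOf_eq, co_mul hK]; exact hm _ _ hg hh
            inv_mem' := fun {g} hg => ?_ }, fun g => Iff.rfl⟩
  have e : g⁻¹ = g ^ (orderOf g - 1) :=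
    inv_eq_of_mul_eq_one_left (by rw [pow_sub_one_mul (orderOf_pos g).ne', pow_orderOf_eq_one])
  change P (co T g⁻¹)
  rw [e]
  exact hp _ _ hg

theorem card_of_mask (M : Fin 12 → Bool) {n : ℕ} (hn : Fintype.card {i // M i = true} = n) (N : Subgroup U)
    (h : ∀ g, g ∈ N ↔ ∀ i, M i = false → toFn (co T g) i = 0) : Nat.card N = (2 ^ (2 * m + 1)) ^ n := by
  rw [← hn, ← hK.card, ← card_mask (K := K) M]
  exact Nat.card_congr ((coE T).subtypeEquiv h)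

/-! ### the root groups -/

theorem mem_Z2 {g : U} : g ∈ T.Z2 ↔ ∃ u, g = T.x2 0 u := by
  constructor
  · obtain ⟨S, hS⟩ := exists_sub hK T (fun c => ∃ u, c = e2 0 u) ⟨0, rfl⟩ (by
      rintro _ _ ⟨u, rfl⟩ ⟨v, rfl⟩
      exact ⟨u + v, by ext <;> simp [mul_a1, mul_a2, mul_b2, mul_a3, mul_a4, mul_b4, mul_a5, mul_a6, mul_b6, mul_a7, mul_a8, mul_b8, e2]⟩)
    have hle : T.Z2 ≤ S := by
      rw [TF.Z2, Subgroup.closure_le]
      rintro _ ⟨u, rfl⟩
      exact (hS _).2 ⟨u, co_x2 T 0 u⟩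
    intro h
    obtain ⟨u, ht⟩ := (hS _).1 (hle h)
    exact ⟨u, by rw [← el_co T g, ht, el_e2]⟩
  · rintro ⟨u, rfl⟩
    exact x2_mem_Z T u

theorem mem_Z4 {g : U} : g ∈ T.Z4 ↔ ∃ u, g = T.x4 0 u := by
  constructor
  · obtain ⟨S, hS⟩ := exists_sub hK T (fun c => ∃ u, c = e4 0 u) ⟨0, rfl⟩ (by
      rintro _ _ ⟨u, rfl⟩ ⟨v, rfl⟩
      exact ⟨u + v, by ext <;> simp [mul_a1, mul_a2, mul_b2, mul_a3, mul_a4, mul_b4, mul_a5, mul_a6, mul_b6, mul_a7, mul_a8, mul_b8, e4]⟩)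
    have hle : T.Z4 ≤ S := by
      rw [TF.Z4, Subgroup.closure_le]
      rintro _ ⟨u, rfl⟩
      exact (hS _).2 ⟨u, co_x4 T 0 u⟩
    intro h
    obtain ⟨u, ht⟩ := (hS _).1 (hle h)
    exact ⟨u, by rw [← el_co T g, ht, el_e4]⟩
  · rintro ⟨u, rfl⟩
    exact x4_mem_Z T u

theorem mem_Z6 {g : U} : g ∈ T.Z6 ↔ ∃ u, g = T.x6 0 u := by
  constructor
  · obtain ⟨S, hS⟩ := exists_sub hK T (fun c => ∃ u, c = e6 0 u) ⟨0, rfl⟩ (by
      rintro _ _ ⟨u, rfl⟩ ⟨v, rfl⟩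
      exact ⟨u + v, by ext <;> simp [mul_a1, mul_a2, mul_b2, mul_a3, mul_a4, mul_b4, mul_a5, mul_a6, mul_b6, mul_a7, mul_a8, mul_b8, e6]⟩)
    have hle : T.Z6 ≤ S := by
      rw [TF.Z6, Subgroup.closure_le]
      rintro _ ⟨u, rfl⟩
      exact (hS _).2 ⟨u, co_x6 T 0 u⟩
    intro h
    obtain ⟨u, ht⟩ := (hS _).1 (hle h)
    exact ⟨u, by rw [← el_co T g, ht, el_e6]⟩
  · rintro ⟨u, rfl⟩
    exact x6_mem_Z T u

theorem card_Z4 : Nat.card T.Z4 = 2 ^ (2 * m + 1) := by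
  rw [← hK.card]
  refine (Nat.card_congr (Equiv.ofBijective (fun t => (⟨T.x4 0 t, x4_mem_Z T t⟩ : T.Z4)) ⟨fun t s h => ?_, fun g => ?_⟩)).symm
  · have h1 := congrArg (fun g : T.Z4 => (co T (g : U)).b4) h
    simpa only [co_x4, e4] using h1
  · obtain ⟨t, ht⟩ := (mem_Z4 hK T).1 g.2
    exact ⟨t, Subtype.ext ht.symm⟩

/-! ### the named subgroups: membership in coordinates -/

end mulPart

end Cfsg.Agent.H752.TF
end

-- part: H752/TF/CoQ
section
set_option autoImplicit false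
set_option linter.unusedVariables false
set_option linter.unusedSimpArgs false

namespace Cfsg.Agent.H752.TF

open Cfsg.Agent.Octagon.Pkg Cfsg.Agent.H745.TF

universe u v

variable {K : Type u} [Field K] {σ : K →+* K} {m : ℕ} (hK : HypK σ m)
variable {U : Type v} [Group U] (T : TF σ U)

include hK

/-! ### `QA` -/

theorem mem_QA {g : U} : g ∈ T.QA ↔ (co T g).a8 = 0 ∧ (co T g).b8 = 0 := by
  obtain ⟨S, hS⟩ := exists_sub hK T (fun c => c.a8 = 0 ∧ c.b8 = 0) (⟨rfl, rfl⟩) (by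
    rintro c d ⟨hc0, hc1⟩ ⟨hd0, hd1⟩
    refine ⟨?_, ?_⟩
    · rw [mul_a8]
      simp only [hc0, hc1, hd0, hd1, zero_mul, mul_zero, add_zero, zero_add, map_zero, pow_zero, ne_eq, OfNat.ofNat_ne_zero, not_false_eq_true, zero_pow]
    · rw [mul_b8]
      simp only [hc0, hc1, hd0, hd1, zero_mul, mul_zero, add_zero, zero_add, map_zero, pow_zero, ne_eq, OfNat.ofNat_ne_zero, not_false_eq_true, zero_pow])
  rw [← hS]
  constructor
  · intro h
    have hle : T.QA ≤ S := by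
      simp only [TF.QA, sup_le_iff, Subgroup.closure_le, TF.X1, TF.X2, TF.X3, TF.X4, TF.X5, TF.X6, TF.X7]
      refine ⟨⟨⟨⟨⟨⟨?_, ?_⟩, ?_⟩, ?_⟩, ?_⟩, ?_⟩, ?_⟩
      · rintro _ ⟨t, rfl⟩
        exact (hS _).2 (by rw [co_x1]; exact ⟨rfl, rfl⟩)
      · rintro _ ⟨p, u, rfl⟩
        exact (hS _).2 (by rw [co_x2]; exact ⟨rfl, rfl⟩)
      · rintro _ ⟨t, rfl⟩
        exact (hS _).2 (by rw [co_x3]; exact ⟨rfl, rfl⟩)
      · rintro _ ⟨p, u, rfl⟩
        exact (hS _).2 (by rw [co_x4]; exact ⟨rfl, rfl⟩)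
      · rintro _ ⟨t, rfl⟩
        exact (hS _).2 (by rw [co_x5]; exact ⟨rfl, rfl⟩)
      · rintro _ ⟨p, u, rfl⟩
        exact (hS _).2 (by rw [co_x6]; exact ⟨rfl, rfl⟩)
      · rintro _ ⟨t, rfl⟩
        exact (hS _).2 (by rw [co_x7]; exact ⟨rfl, rfl⟩)
    exact hle h
  · intro h
    rw [hS] at h
    rw [← el_co T g]
    generalize co T g = c at h ⊢
    obtain ⟨z0, z1⟩ := h
    simp only [TF.el, z0, z1, H659.TF.x8_zero T.rel, one_mul, mul_one]
    exact mul_mem (mul_mem (mul_mem (mul_mem (mul_mem (mul_mem (X1_le_QA T (x1_mem T _)) (X2_le_QA T (x2_mem T _ _))) (X3_le_QA T (x3_mem T _))) (X4_le_QA T (x4_mem T _ _))) (X5_le_QA T (x5_mem T _))) (X6_le_QA T (x6_mem T _ _))) (X7_le_QA T (x7_mem T _))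

theorem card_QA : Nat.card T.QA = (2 ^ (2 * m + 1)) ^ 10 := by
  refine card_of_mask hK T ![true, true, true, true, true, true, true, true, true, true, false, false] (by rfl) T.QA fun g => ?_
  rw [mem_QA hK]
  constructor
  · rintro ⟨z0, z1⟩ i hi
    fin_cases i <;> first | exact z0 | exact z1 | exact absurd hi (by decide)
  · intro h
    exact ⟨h 10 rfl, h 11 rfl⟩

theorem QA_normal : T.QA.Normal := by
  refine ⟨fun g hg x => ?_⟩
  have e : co T (x * g * x⁻¹ * x) = co T (x * g) := by rw [inv_mul_cancel_right]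
  rw [co_mul hK T _ x, co_mul hK T x g] at e
  rw [mem_QA hK] at hg ⊢
  generalize co T (x * g * x⁻¹) = h at e ⊢
  generalize co T x = y at e
  generalize co T g = c at e hg
  obtain ⟨z0, z1⟩ := hg
  have fa8 := congrArg Cd.a8 e
  rw [mul_a8, mul_a8] at fa8
  simp only [z0, z1, zero_mul, mul_zero, add_zero, zero_add, map_zero, pow_zero, ne_eq, OfNat.ofNat_ne_zero, not_false_eq_true, zero_pow, add_eq_right, add_eq_left, left_eq_add, right_eq_add] at fa8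
  have fb8 := congrArg Cd.b8 e
  rw [mul_b8, mul_b8] at fb8
  simp only [z0, z1, fa8, zero_mul, mul_zero, add_zero, zero_add, map_zero, pow_zero, ne_eq, OfNat.ofNat_ne_zero, not_false_eq_true, zero_pow, add_eq_right, add_eq_left, left_eq_add, right_eq_add] at fb8
  exact ⟨fa8, fb8⟩

/-! ### `QB` -/

theorem mem_QB {g : U} : g ∈ T.QB ↔ (co T g).a1 = 0 := by
  obtain ⟨S, hS⟩ := exists_sub hK T (fun c => c.a1 = 0) (rfl) (by
    rintro c d hc0 hd0
    refine ?_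
    · rw [mul_a1]
      simp only [hc0, hd0, zero_mul, mul_zero, add_zero, zero_add, map_zero, pow_zero, ne_eq, OfNat.ofNat_ne_zero, not_false_eq_true, zero_pow])
  rw [← hS]
  constructor
  · intro h
    have hle : T.QB ≤ S := by
      simp only [TF.QB, sup_le_iff, Subgroup.closure_le, TF.X2, TF.X3, TF.X4, TF.X5, TF.X6, TF.X7, TF.X8]
      refine ⟨⟨⟨⟨⟨⟨?_, ?_⟩, ?_⟩, ?_⟩, ?_⟩, ?_⟩, ?_⟩
      · rintro _ ⟨p, u, rfl⟩
        exact (hS _).2 (by rw [co_x2]; exact rfl)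
      · rintro _ ⟨t, rfl⟩
        exact (hS _).2 (by rw [co_x3]; exact rfl)
      · rintro _ ⟨p, u, rfl⟩
        exact (hS _).2 (by rw [co_x4]; exact rfl)
      · rintro _ ⟨t, rfl⟩
        exact (hS _).2 (by rw [co_x5]; exact rfl)
      · rintro _ ⟨p, u, rfl⟩
        exact (hS _).2 (by rw [co_x6]; exact rfl)
      · rintro _ ⟨t, rfl⟩
        exact (hS _).2 (by rw [co_x7]; exact rfl)
      · rintro _ ⟨p, u, rfl⟩
        exact (hS _).2 (by rw [co_x8]; exact rfl)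
    exact hle h
  · intro h
    rw [hS] at h
    rw [← el_co T g]
    generalize co T g = c at h ⊢
    have z0 := h
    simp only [TF.el, z0, H659.TF.x1_zero T.rel, one_mul, mul_one]
    exact mul_mem (mul_mem (mul_mem (mul_mem (mul_mem (mul_mem (X2_le_QB T (x2_mem T _ _)) (X3_le_QB T (x3_mem T _))) (X4_le_QB T (x4_mem T _ _))) (X5_le_QB T (x5_mem T _))) (X6_le_QB T (x6_mem T _ _))) (X7_le_QB T (x7_mem T _))) (X8_le_QB T (x8_mem T _ _))

theorem card_QB : Nat.card T.QB = (2 ^ (2 * m + 1)) ^ 11 := by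
  refine card_of_mask hK T ![false, true, true, true, true, true, true, true, true, true, true, true] (by rfl) T.QB fun g => ?_
  rw [mem_QB hK]
  constructor
  · rintro z0 i hi
    fin_cases i <;> first | exact z0 | exact absurd hi (by decide)
  · intro h
    exact h 0 rfl

theorem QB_normal : T.QB.Normal := by
  refine ⟨fun g hg x => ?_⟩
  have e : co T (x * g * x⁻¹ * x) = co T (x * g) := by rw [inv_mul_cancel_right]
  rw [co_mul hK T _ x, co_mul hK T x g] at e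
  rw [mem_QB hK] at hg ⊢
  generalize co T (x * g * x⁻¹) = h at e ⊢
  generalize co T x = y at e
  generalize co T g = c at e hg
  have z0 := hg
  have fa1 := congrArg Cd.a1 e
  rw [mul_a1, mul_a1] at fa1
  simp only [z0, zero_mul, mul_zero, add_zero, zero_add, map_zero, pow_zero, ne_eq, OfNat.ofNat_ne_zero, not_false_eq_true, zero_pow, add_eq_right, add_eq_left, left_eq_add, right_eq_add] at fa1
  exact fa1

/-! ### `N3` -/

theorem mem_N3 {g : U} : g ∈ T.N3 ↔ (co T g).a1 = 0 ∧ (co T g).a2 = 0 ∧ (co T g).a8 = 0 := by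
  obtain ⟨S, hS⟩ := exists_sub hK T (fun c => c.a1 = 0 ∧ c.a2 = 0 ∧ c.a8 = 0) (⟨rfl, rfl, rfl⟩) (by
    rintro c d ⟨hc0, hc1, hc2⟩ ⟨hd0, hd1, hd2⟩
    refine ⟨?_, ?_, ?_⟩
    · rw [mul_a1]
      simp only [hc0, hc1, hc2, hd0, hd1, hd2, zero_mul, mul_zero, add_zero, zero_add, map_zero, pow_zero, ne_eq, OfNat.ofNat_ne_zero, not_false_eq_true, zero_pow]
    · rw [mul_a2]
      simp only [hc0, hc1, hc2, hd0, hd1, hd2, zero_mul, mul_zero, add_zero, zero_add, map_zero, pow_zero, ne_eq, OfNat.ofNat_ne_zero, not_false_eq_true, zero_pow]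
    · rw [mul_a8]
      simp only [hc0, hc1, hc2, hd0, hd1, hd2, zero_mul, mul_zero, add_zero, zero_add, map_zero, pow_zero, ne_eq, OfNat.ofNat_ne_zero, not_false_eq_true, zero_pow])
  rw [← hS]
  constructor
  · intro h
    have hle : T.N3 ≤ S := by
      simp only [TF.N3, sup_le_iff, Subgroup.closure_le, TF.Z2, TF.X3, TF.X4, TF.X5, TF.X6, TF.X7, TF.Z8]
      refine ⟨⟨⟨⟨⟨⟨?_, ?_⟩, ?_⟩, ?_⟩, ?_⟩, ?_⟩, ?_⟩
      · rintro _ ⟨u, rfl⟩
        exact (hS _).2 (by rw [co_x2]; exact ⟨rfl, rfl, rfl⟩)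
      · rintro _ ⟨t, rfl⟩
        exact (hS _).2 (by rw [co_x3]; exact ⟨rfl, rfl, rfl⟩)
      · rintro _ ⟨p, u, rfl⟩
        exact (hS _).2 (by rw [co_x4]; exact ⟨rfl, rfl, rfl⟩)
      · rintro _ ⟨t, rfl⟩
        exact (hS _).2 (by rw [co_x5]; exact ⟨rfl, rfl, rfl⟩)
      · rintro _ ⟨p, u, rfl⟩
        exact (hS _).2 (by rw [co_x6]; exact ⟨rfl, rfl, rfl⟩)
      · rintro _ ⟨t, rfl⟩
        exact (hS _).2 (by rw [co_x7]; exact ⟨rfl, rfl, rfl⟩)
      · rintro _ ⟨u, rfl⟩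
        exact (hS _).2 (by rw [co_x8]; exact ⟨rfl, rfl, rfl⟩)
    exact hle h
  · intro h
    rw [hS] at h
    rw [← el_co T g]
    generalize co T g = c at h ⊢
    obtain ⟨z0, z1, z2⟩ := h
    simp only [TF.el, z0, z1, z2, H659.TF.x1_zero T.rel, one_mul, mul_one]
    exact mul_mem (mul_mem (mul_mem (mul_mem (mul_mem (mul_mem (Z2_le_N3 T (x2_mem_Z T _)) (X3_le_N3 T (x3_mem T _))) (X4_le_N3 T (x4_mem T _ _))) (X5_le_N3 T (x5_mem T _))) (X6_le_N3 T (x6_mem T _ _))) (X7_le_N3 T (x7_mem T _))) (Z8_le_N3 T (x8_mem_Z T _))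

theorem el_mem_N3 {c : Cd K} : T.el c ∈ T.N3 ↔ c.a1 = 0 ∧ c.a2 = 0 ∧ c.a8 = 0 := by rw [mem_N3 hK, co_el]

theorem card_N3 : Nat.card T.N3 = (2 ^ (2 * m + 1)) ^ 9 := by
  refine card_of_mask hK T ![false, false, true, true, true, true, true, true, true, true, false, true] (by rfl) T.N3 fun g => ?_
  rw [mem_N3 hK]
  constructor
  · rintro ⟨z0, z1, z2⟩ i hi
    fin_cases i <;> [exact z0; exact z1; (exact absurd hi (by decide)); (exact absurd hi (by decide)); (exact absurd hi (by decide)); (exact absurd hi (by decide));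
                     (exact absurd hi (by decide)); (exact absurd hi (by decide)); (exact absurd hi (by decide)); (exact absurd hi (by decide)); exact z2;
                     (exact absurd hi (by decide))]
  · intro h
    exact ⟨h 0 rfl, h 1 rfl, h 10 rfl⟩

theorem N3_normal : T.N3.Normal := by
  refine ⟨fun g hg x => ?_⟩
  have e : co T (x * g * x⁻¹ * x) = co T (x * g) := by rw [inv_mul_cancel_right]
  rw [co_mul hK T _ x, co_mul hK T x g] at e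
  rw [mem_N3 hK] at hg ⊢
  generalize co T (x * g * x⁻¹) = h at e ⊢
  generalize co T x = y at e
  generalize co T g = c at e hg
  obtain ⟨z0, z1, z2⟩ := hg
  have fa1 := congrArg Cd.a1 e
  rw [mul_a1, mul_a1] at fa1
  simp only [z0, z1, z2, zero_mul, mul_zero, add_zero, zero_add, map_zero, pow_zero, ne_eq, OfNat.ofNat_ne_zero, not_false_eq_true, zero_pow, add_eq_right, add_eq_left, left_eq_add, right_eq_add] at fa1
  have fa8 := congrArg Cd.a8 e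
  rw [mul_a8, mul_a8] at fa8
  simp only [z0, z1, z2, fa1, zero_mul, mul_zero, add_zero, zero_add, map_zero, pow_zero, ne_eq, OfNat.ofNat_ne_zero, not_false_eq_true, zero_pow, add_eq_right, add_eq_left, left_eq_add, right_eq_add] at fa8
  have fa2 := congrArg Cd.a2 e
  rw [mul_a2, mul_a2] at fa2
  simp only [z0, z1, z2, fa1, fa8, zero_mul, mul_zero, add_zero, zero_add, map_zero, pow_zero, ne_eq, OfNat.ofNat_ne_zero, not_false_eq_true, zero_pow, add_eq_right, add_eq_left, left_eq_add, right_eq_add] at fa2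
  exact ⟨fa1, fa2, fa8⟩

end Cfsg.Agent.H752.TF
end

-- part: H752/TF/CoV
section
set_option autoImplicit false
set_option linter.unusedVariables false
set_option linter.unusedSimpArgs false

namespace Cfsg.Agent.H752.TF

open Cfsg.Agent.Octagon.Pkg Cfsg.Agent.H745.TF

universe u v

variable {K : Type u} [Field K] {σ : K →+* K} {m : ℕ} (hK : HypK σ m)
variable {U : Type v} [Group U] (T : TF σ U)

include hK

/-! ### `V` -/

theorem mem_V {g : U} : g ∈ T.V ↔ (co T g).a1 = 0 ∧ (co T g).a2 = 0 ∧ (co T g).b2 = 0 ∧ (co T g).a3 = 0 ∧ (co T g).a4 = 0 ∧ (co T g).a5 = 0 ∧ (co T g).a6 = 0 ∧ (co T g).a7 = 0 ∧ (co T g).a8 = 0 ∧ (co T g).b8 = 0 := by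
  obtain ⟨S, hS⟩ := exists_sub hK T (fun c => c.a1 = 0 ∧ c.a2 = 0 ∧ c.b2 = 0 ∧ c.a3 = 0 ∧ c.a4 = 0 ∧ c.a5 = 0 ∧ c.a6 = 0 ∧ c.a7 = 0 ∧ c.a8 = 0 ∧ c.b8 = 0) (⟨rfl, rfl, rfl, rfl, rfl, rfl, rfl, rfl, rfl, rfl⟩) (by
    rintro c d ⟨hc0, hc1, hc2, hc3, hc4, hc5, hc6, hc7, hc8, hc9⟩ ⟨hd0, hd1, hd2, hd3, hd4, hd5, hd6, hd7, hd8, hd9⟩
    refine ⟨?_, ?_, ?_, ?_, ?_, ?_, ?_, ?_, ?_, ?_⟩
    · rw [mul_a1]
      simp only [hc0, hc1, hc2, hc3, hc4, hc5, hc6, hc7, hc8, hc9, hd0, hd1, hd2, hd3, hd4, hd5, hd6, hd7, hd8, hd9, zero_mul, mul_zero, add_zero, zero_add, map_zero, pow_zero, ne_eq, OfNat.ofNat_ne_zero, not_false_eq_true, zero_pow]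
    · rw [mul_a2]
      simp only [hc0, hc1, hc2, hc3, hc4, hc5, hc6, hc7, hc8, hc9, hd0, hd1, hd2, hd3, hd4, hd5, hd6, hd7, hd8, hd9, zero_mul, mul_zero, add_zero, zero_add, map_zero, pow_zero, ne_eq, OfNat.ofNat_ne_zero, not_false_eq_true, zero_pow]
    · rw [mul_b2]
      simp only [hc0, hc1, hc2, hc3, hc4, hc5, hc6, hc7, hc8, hc9, hd0, hd1, hd2, hd3, hd4, hd5, hd6, hd7, hd8, hd9, zero_mul, mul_zero, add_zero, zero_add, map_zero, pow_zero, ne_eq, OfNat.ofNat_ne_zero, not_false_eq_true, zero_pow]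
    · rw [mul_a3]
      simp only [hc0, hc1, hc2, hc3, hc4, hc5, hc6, hc7, hc8, hc9, hd0, hd1, hd2, hd3, hd4, hd5, hd6, hd7, hd8, hd9, zero_mul, mul_zero, add_zero, zero_add, map_zero, pow_zero, ne_eq, OfNat.ofNat_ne_zero, not_false_eq_true, zero_pow]
    · rw [mul_a4]
      simp only [hc0, hc1, hc2, hc3, hc4, hc5, hc6, hc7, hc8, hc9, hd0, hd1, hd2, hd3, hd4, hd5, hd6, hd7, hd8, hd9, zero_mul, mul_zero, add_zero, zero_add, map_zero, pow_zero, ne_eq, OfNat.ofNat_ne_zero, not_false_eq_true, zero_pow]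
    · rw [mul_a5]
      simp only [hc0, hc1, hc2, hc3, hc4, hc5, hc6, hc7, hc8, hc9, hd0, hd1, hd2, hd3, hd4, hd5, hd6, hd7, hd8, hd9, zero_mul, mul_zero, add_zero, zero_add, map_zero, pow_zero, ne_eq, OfNat.ofNat_ne_zero, not_false_eq_true, zero_pow]
    · rw [mul_a6]
      simp only [hc0, hc1, hc2, hc3, hc4, hc5, hc6, hc7, hc8, hc9, hd0, hd1, hd2, hd3, hd4, hd5, hd6, hd7, hd8, hd9, zero_mul, mul_zero, add_zero, zero_add, map_zero, pow_zero, ne_eq, OfNat.ofNat_ne_zero, not_false_eq_true, zero_pow]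
    · rw [mul_a7]
      simp only [hc0, hc1, hc2, hc3, hc4, hc5, hc6, hc7, hc8, hc9, hd0, hd1, hd2, hd3, hd4, hd5, hd6, hd7, hd8, hd9, zero_mul, mul_zero, add_zero, zero_add, map_zero, pow_zero, ne_eq, OfNat.ofNat_ne_zero, not_false_eq_true, zero_pow]
    · rw [mul_a8]
      simp only [hc0, hc1, hc2, hc3, hc4, hc5, hc6, hc7, hc8, hc9, hd0, hd1, hd2, hd3, hd4, hd5, hd6, hd7, hd8, hd9, zero_mul, mul_zero, add_zero, zero_add, map_zero, pow_zero, ne_eq, OfNat.ofNat_ne_zero, not_false_eq_true, zero_pow]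
    · rw [mul_b8]
      simp only [hc0, hc1, hc2, hc3, hc4, hc5, hc6, hc7, hc8, hc9, hd0, hd1, hd2, hd3, hd4, hd5, hd6, hd7, hd8, hd9, zero_mul, mul_zero, add_zero, zero_add, map_zero, pow_zero, ne_eq, OfNat.ofNat_ne_zero, not_false_eq_true, zero_pow])
  rw [← hS]
  constructor
  · intro h
    have hle : T.V ≤ S := by
      simp only [TF.V, sup_le_iff, Subgroup.closure_le, TF.Z4, TF.Z6]
      refine ⟨?_, ?_⟩
      · rintro _ ⟨u, rfl⟩
        exact (hS _).2 (by rw [co_x4]; exact ⟨rfl, rfl, rfl, rfl, rfl, rfl, rfl, rfl, rfl, rfl⟩)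
      · rintro _ ⟨u, rfl⟩
        exact (hS _).2 (by rw [co_x6]; exact ⟨rfl, rfl, rfl, rfl, rfl, rfl, rfl, rfl, rfl, rfl⟩)
    exact hle h
  · intro h
    rw [hS] at h
    rw [← el_co T g]
    generalize co T g = c at h ⊢
    obtain ⟨z0, z1, z2, z3, z4, z5, z6, z7, z8, z9⟩ := h
    simp only [TF.el, z0, z1, z2, z3, z4, z5, z6, z7, z8, z9, H659.TF.x1_zero T.rel, H659.TF.x2_zero T.rel, H659.TF.x3_zero T.rel, H659.TF.x5_zero T.rel, H659.TF.x7_zero T.rel, H659.TF.x8_zero T.rel, one_mul, mul_one]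
    exact mul_mem (Z4_le_V T (x4_mem_Z T _)) (Z6_le_V T (x6_mem_Z T _))

theorem card_V : Nat.card T.V = (2 ^ (2 * m + 1)) ^ 2 := by
  refine card_of_mask hK T ![false, false, false, false, false, true, false, false, true, false, false, false] (by rfl) T.V fun g => ?_
  rw [mem_V hK]
  constructor
  · rintro ⟨z0, z1, z2, z3, z4, z5, z6, z7, z8, z9⟩ i hi
    fin_cases i <;> [exact z0; exact z1; exact z2; exact z3; exact z4; (exact absurd hi (by decide)); exact z5; exact z6; (exact absurd hi (by decide)); exact z7; exact z8;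
                     exact z9]
  · intro h
    exact ⟨h 0 rfl, h 1 rfl, h 2 rfl, h 3 rfl, h 4 rfl, h 6 rfl, h 7 rfl, h 9 rfl, h 10 rfl, h 11 rfl⟩

theorem V_normal : T.V.Normal := by
  refine ⟨fun g hg x => ?_⟩
  have e : co T (x * g * x⁻¹ * x) = co T (x * g) := by rw [inv_mul_cancel_right]
  rw [co_mul hK T _ x, co_mul hK T x g] at e
  rw [mem_V hK] at hg ⊢
  generalize co T (x * g * x⁻¹) = h at e ⊢
  generalize co T x = y at e
  generalize co T g = c at e hg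
  obtain ⟨z0, z1, z2, z3, z4, z5, z6, z7, z8, z9⟩ := hg
  have fa1 := congrArg Cd.a1 e
  rw [mul_a1, mul_a1] at fa1
  simp only [z0, z1, z2, z3, z4, z5, z6, z7, z8, z9, zero_mul, mul_zero, add_zero, zero_add, map_zero, pow_zero, ne_eq, OfNat.ofNat_ne_zero, not_false_eq_true, zero_pow, add_eq_right, add_eq_left, left_eq_add, right_eq_add] at fa1
  have fa8 := congrArg Cd.a8 e
  rw [mul_a8, mul_a8] at fa8
  simp only [z0, z1, z2, z3, z4, z5, z6, z7, z8, z9, fa1, zero_mul, mul_zero, add_zero, zero_add, map_zero, pow_zero, ne_eq, OfNat.ofNat_ne_zero, not_false_eq_true, zero_pow, add_eq_right, add_eq_left, left_eq_add, right_eq_add] at fa8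
  have fb8 := congrArg Cd.b8 e
  rw [mul_b8, mul_b8] at fb8
  simp only [z0, z1, z2, z3, z4, z5, z6, z7, z8, z9, fa1, fa8, zero_mul, mul_zero, add_zero, zero_add, map_zero, pow_zero, ne_eq, OfNat.ofNat_ne_zero, not_false_eq_true, zero_pow, add_eq_right, add_eq_left, left_eq_add, right_eq_add] at fb8
  have fa2 := congrArg Cd.a2 e
  rw [mul_a2, mul_a2] at fa2
  simp only [z0, z1, z2, z3, z4, z5, z6, z7, z8, z9, fa1, fa8, fb8, zero_mul, mul_zero, add_zero, zero_add, map_zero, pow_zero, ne_eq, OfNat.ofNat_ne_zero, not_false_eq_true, zero_pow, add_eq_right, add_eq_left, left_eq_add, right_eq_add] at fa2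
  have fa4 := congrArg Cd.a4 e
  rw [mul_a4, mul_a4] at fa4
  simp only [z0, z1, z2, z3, z4, z5, z6, z7, z8, z9, fa1, fa8, fb8, fa2, zero_mul, mul_zero, add_zero, zero_add, map_zero, pow_zero, ne_eq, OfNat.ofNat_ne_zero, not_false_eq_true, zero_pow, add_eq_right, add_eq_left, left_eq_add, right_eq_add] at fa4
  have fa6 := congrArg Cd.a6 e
  rw [mul_a6, mul_a6] at fa6
  simp only [z0, z1, z2, z3, z4, z5, z6, z7, z8, z9, fa1, fa8, fb8, fa2, fa4, zero_mul, mul_zero, add_zero, zero_add, map_zero, pow_zero, ne_eq, OfNat.ofNat_ne_zero, not_false_eq_true, zero_pow, add_eq_right, add_eq_left, left_eq_add, right_eq_add] at fa6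
  have fa7 := congrArg Cd.a7 e
  rw [mul_a7, mul_a7] at fa7
  simp only [z0, z1, z2, z3, z4, z5, z6, z7, z8, z9, fa1, fa8, fb8, fa2, fa4, fa6, zero_mul, mul_zero, add_zero, zero_add, map_zero, pow_zero, ne_eq, OfNat.ofNat_ne_zero, not_false_eq_true, zero_pow, add_eq_right, add_eq_left, left_eq_add, right_eq_add] at fa7
  have fb2 := congrArg Cd.b2 e
  rw [mul_b2, mul_b2] at fb2
  simp only [z0, z1, z2, z3, z4, z5, z6, z7, z8, z9, fa1, fa8, fb8, fa2, fa4, fa6, fa7, zero_mul, mul_zero, add_zero, zero_add, map_zero, pow_zero, ne_eq, OfNat.ofNat_ne_zero, not_false_eq_true, zero_pow, add_eq_right, add_eq_left, left_eq_add, right_eq_add] at fb2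
  have fa3 := congrArg Cd.a3 e
  rw [mul_a3, mul_a3] at fa3
  simp only [z0, z1, z2, z3, z4, z5, z6, z7, z8, z9, fa1, fa8, fb8, fa2, fa4, fa6, fa7, fb2, zero_mul, mul_zero, add_zero, zero_add, map_zero, pow_zero, ne_eq, OfNat.ofNat_ne_zero, not_false_eq_true, zero_pow, add_eq_right, add_eq_left, left_eq_add, right_eq_add] at fa3
  have fa5 := congrArg Cd.a5 e
  rw [mul_a5, mul_a5] at fa5
  simp only [z0, z1, z2, z3, z4, z5, z6, z7, z8, z9, fa1, fa8, fb8, fa2, fa4, fa6, fa7, fb2, fa3, zero_mul, mul_zero, add_zero, zero_add, map_zero, pow_zero, ne_eq, OfNat.ofNat_ne_zero, not_false_eq_true, zero_pow, add_eq_right, add_eq_left, left_eq_add, right_eq_add] at fa5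
  exact ⟨fa1, fa2, fb2, fa3, fa4, fa5, fa6, fa7, fa8, fb8⟩

/-! ### `Y` -/

theorem mem_Y {g : U} : g ∈ T.Y ↔ (co T g).a1 = 0 ∧ (co T g).a2 = 0 ∧ (co T g).b2 = 0 ∧ (co T g).a3 = 0 ∧ (co T g).a4 = 0 ∧ (co T g).a6 = 0 ∧ (co T g).a7 = 0 ∧ (co T g).a8 = 0 ∧ (co T g).b8 = 0 := by
  obtain ⟨S, hS⟩ := exists_sub hK T (fun c => c.a1 = 0 ∧ c.a2 = 0 ∧ c.b2 = 0 ∧ c.a3 = 0 ∧ c.a4 = 0 ∧ c.a6 = 0 ∧ c.a7 = 0 ∧ c.a8 = 0 ∧ c.b8 = 0) (⟨rfl, rfl, rfl, rfl, rfl, rfl, rfl, rfl, rfl⟩) (by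
    rintro c d ⟨hc0, hc1, hc2, hc3, hc4, hc5, hc6, hc7, hc8⟩ ⟨hd0, hd1, hd2, hd3, hd4, hd5, hd6, hd7, hd8⟩
    refine ⟨?_, ?_, ?_, ?_, ?_, ?_, ?_, ?_, ?_⟩
    · rw [mul_a1]
      simp only [hc0, hc1, hc2, hc3, hc4, hc5, hc6, hc7, hc8, hd0, hd1, hd2, hd3, hd4, hd5, hd6, hd7, hd8, zero_mul, mul_zero, add_zero, zero_add, map_zero, pow_zero, ne_eq, OfNat.ofNat_ne_zero, not_false_eq_true, zero_pow]
    · rw [mul_a2]
      simp only [hc0, hc1, hc2, hc3, hc4, hc5, hc6, hc7, hc8, hd0, hd1, hd2, hd3, hd4, hd5, hd6, hd7, hd8, zero_mul, mul_zero, add_zero, zero_add, map_zero, pow_zero, ne_eq, OfNat.ofNat_ne_zero, not_false_eq_true, zero_pow]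
    · rw [mul_b2]
      simp only [hc0, hc1, hc2, hc3, hc4, hc5, hc6, hc7, hc8, hd0, hd1, hd2, hd3, hd4, hd5, hd6, hd7, hd8, zero_mul, mul_zero, add_zero, zero_add, map_zero, pow_zero, ne_eq, OfNat.ofNat_ne_zero, not_false_eq_true, zero_pow]
    · rw [mul_a3]
      simp only [hc0, hc1, hc2, hc3, hc4, hc5, hc6, hc7, hc8, hd0, hd1, hd2, hd3, hd4, hd5, hd6, hd7, hd8, zero_mul, mul_zero, add_zero, zero_add, map_zero, pow_zero, ne_eq, OfNat.ofNat_ne_zero, not_false_eq_true, zero_pow]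
    · rw [mul_a4]
      simp only [hc0, hc1, hc2, hc3, hc4, hc5, hc6, hc7, hc8, hd0, hd1, hd2, hd3, hd4, hd5, hd6, hd7, hd8, zero_mul, mul_zero, add_zero, zero_add, map_zero, pow_zero, ne_eq, OfNat.ofNat_ne_zero, not_false_eq_true, zero_pow]
    · rw [mul_a6]
      simp only [hc0, hc1, hc2, hc3, hc4, hc5, hc6, hc7, hc8, hd0, hd1, hd2, hd3, hd4, hd5, hd6, hd7, hd8, zero_mul, mul_zero, add_zero, zero_add, map_zero, pow_zero, ne_eq, OfNat.ofNat_ne_zero, not_false_eq_true, zero_pow]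
    · rw [mul_a7]
      simp only [hc0, hc1, hc2, hc3, hc4, hc5, hc6, hc7, hc8, hd0, hd1, hd2, hd3, hd4, hd5, hd6, hd7, hd8, zero_mul, mul_zero, add_zero, zero_add, map_zero, pow_zero, ne_eq, OfNat.ofNat_ne_zero, not_false_eq_true, zero_pow]
    · rw [mul_a8]
      simp only [hc0, hc1, hc2, hc3, hc4, hc5, hc6, hc7, hc8, hd0, hd1, hd2, hd3, hd4, hd5, hd6, hd7, hd8, zero_mul, mul_zero, add_zero, zero_add, map_zero, pow_zero, ne_eq, OfNat.ofNat_ne_zero, not_false_eq_true, zero_pow]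
    · rw [mul_b8]
      simp only [hc0, hc1, hc2, hc3, hc4, hc5, hc6, hc7, hc8, hd0, hd1, hd2, hd3, hd4, hd5, hd6, hd7, hd8, zero_mul, mul_zero, add_zero, zero_add, map_zero, pow_zero, ne_eq, OfNat.ofNat_ne_zero, not_false_eq_true, zero_pow])
  rw [← hS]
  constructor
  · intro h
    have hle : T.Y ≤ S := by
      simp only [TF.Y, sup_le_iff, Subgroup.closure_le, TF.Z4, TF.Z6, TF.X5]
      refine ⟨⟨?_, ?_⟩, ?_⟩
      · rintro _ ⟨u, rfl⟩
        exact (hS _).2 (by rw [co_x4]; exact ⟨rfl, rfl, rfl, rfl, rfl, rfl, rfl, rfl, rfl⟩)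
      · rintro _ ⟨u, rfl⟩
        exact (hS _).2 (by rw [co_x6]; exact ⟨rfl, rfl, rfl, rfl, rfl, rfl, rfl, rfl, rfl⟩)
      · rintro _ ⟨t, rfl⟩
        exact (hS _).2 (by rw [co_x5]; exact ⟨rfl, rfl, rfl, rfl, rfl, rfl, rfl, rfl, rfl⟩)
    exact hle h
  · intro h
    rw [hS] at h
    rw [← el_co T g]
    generalize co T g = c at h ⊢
    obtain ⟨z0, z1, z2, z3, z4, z5, z6, z7, z8⟩ := h
    simp only [TF.el, z0, z1, z2, z3, z4, z5, z6, z7, z8, H659.TF.x1_zero T.rel, H659.TF.x2_zero T.rel, H659.TF.x3_zero T.rel, H659.TF.x7_zero T.rel, H659.TF.x8_zero T.rel, one_mul, mul_one]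
    exact mul_mem (mul_mem (Z4_le_Y T (x4_mem_Z T _)) (X5_le_Y T (x5_mem T _))) (Z6_le_Y T (x6_mem_Z T _))

theorem card_Y : Nat.card T.Y = (2 ^ (2 * m + 1)) ^ 3 := by
  refine card_of_mask hK T ![false, false, false, false, false, true, true, false, true, false, false, false] (by rfl) T.Y fun g => ?_
  rw [mem_Y hK]
  constructor
  · rintro ⟨z0, z1, z2, z3, z4, z5, z6, z7, z8⟩ i hi
    fin_cases i <;> [exact z0; exact z1; exact z2; exact z3; exact z4; (exact absurd hi (by decide)); (exact absurd hi (by decide)); exact z5;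
                     (exact absurd hi (by decide)); exact z6; exact z7; exact z8]
  · intro h
    exact ⟨h 0 rfl, h 1 rfl, h 2 rfl, h 3 rfl, h 4 rfl, h 7 rfl, h 9 rfl, h 10 rfl, h 11 rfl⟩

theorem Y_normal : T.Y.Normal := by
  refine ⟨fun g hg x => ?_⟩
  have e : co T (x * g * x⁻¹ * x) = co T (x * g) := by rw [inv_mul_cancel_right]
  rw [co_mul hK T _ x, co_mul hK T x g] at e
  rw [mem_Y hK] at hg ⊢
  generalize co T (x * g * x⁻¹) = h at e ⊢
  generalize co T x = y at e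
  generalize co T g = c at e hg
  obtain ⟨z0, z1, z2, z3, z4, z5, z6, z7, z8⟩ := hg
  have fa1 := congrArg Cd.a1 e
  rw [mul_a1, mul_a1] at fa1
  simp only [z0, z1, z2, z3, z4, z5, z6, z7, z8, zero_mul, mul_zero, add_zero, zero_add, map_zero, pow_zero, ne_eq, OfNat.ofNat_ne_zero, not_false_eq_true, zero_pow, add_eq_right, add_eq_left, left_eq_add, right_eq_add] at fa1
  have fa8 := congrArg Cd.a8 e
  rw [mul_a8, mul_a8] at fa8
  simp only [z0, z1, z2, z3, z4, z5, z6, z7, z8, fa1, zero_mul, mul_zero, add_zero, zero_add, map_zero, pow_zero, ne_eq, OfNat.ofNat_ne_zero, not_false_eq_true, zero_pow, add_eq_right, add_eq_left, left_eq_add, right_eq_add] at fa8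
  have fb8 := congrArg Cd.b8 e
  rw [mul_b8, mul_b8] at fb8
  simp only [z0, z1, z2, z3, z4, z5, z6, z7, z8, fa1, fa8, zero_mul, mul_zero, add_zero, zero_add, map_zero, pow_zero, ne_eq, OfNat.ofNat_ne_zero, not_false_eq_true, zero_pow, add_eq_right, add_eq_left, left_eq_add, right_eq_add] at fb8
  have fa2 := congrArg Cd.a2 e
  rw [mul_a2, mul_a2] at fa2
  simp only [z0, z1, z2, z3, z4, z5, z6, z7, z8, fa1, fa8, fb8, zero_mul, mul_zero, add_zero, zero_add, map_zero, pow_zero, ne_eq, OfNat.ofNat_ne_zero, not_false_eq_true, zero_pow, add_eq_right, add_eq_left, left_eq_add, right_eq_add] at fa2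
  have fa4 := congrArg Cd.a4 e
  rw [mul_a4, mul_a4] at fa4
  simp only [z0, z1, z2, z3, z4, z5, z6, z7, z8, fa1, fa8, fb8, fa2, zero_mul, mul_zero, add_zero, zero_add, map_zero, pow_zero, ne_eq, OfNat.ofNat_ne_zero, not_false_eq_true, zero_pow, add_eq_right, add_eq_left, left_eq_add, right_eq_add] at fa4
  have fa6 := congrArg Cd.a6 e
  rw [mul_a6, mul_a6] at fa6
  simp only [z0, z1, z2, z3, z4, z5, z6, z7, z8, fa1, fa8, fb8, fa2, fa4, zero_mul, mul_zero, add_zero, zero_add, map_zero, pow_zero, ne_eq, OfNat.ofNat_ne_zero, not_false_eq_true, zero_pow, add_eq_right, add_eq_left, left_eq_add, right_eq_add] at fa6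
  have fa7 := congrArg Cd.a7 e
  rw [mul_a7, mul_a7] at fa7
  simp only [z0, z1, z2, z3, z4, z5, z6, z7, z8, fa1, fa8, fb8, fa2, fa4, fa6, zero_mul, mul_zero, add_zero, zero_add, map_zero, pow_zero, ne_eq, OfNat.ofNat_ne_zero, not_false_eq_true, zero_pow, add_eq_right, add_eq_left, left_eq_add, right_eq_add] at fa7
  have fb2 := congrArg Cd.b2 e
  rw [mul_b2, mul_b2] at fb2
  simp only [z0, z1, z2, z3, z4, z5, z6, z7, z8, fa1, fa8, fb8, fa2, fa4, fa6, fa7, zero_mul, mul_zero, add_zero, zero_add, map_zero, pow_zero, ne_eq, OfNat.ofNat_ne_zero, not_false_eq_true, zero_pow, add_eq_right, add_eq_left, left_eq_add, right_eq_add] at fb2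
  have fa3 := congrArg Cd.a3 e
  rw [mul_a3, mul_a3] at fa3
  simp only [z0, z1, z2, z3, z4, z5, z6, z7, z8, fa1, fa8, fb8, fa2, fa4, fa6, fa7, fb2, zero_mul, mul_zero, add_zero, zero_add, map_zero, pow_zero, ne_eq, OfNat.ofNat_ne_zero, not_false_eq_true, zero_pow, add_eq_right, add_eq_left, left_eq_add, right_eq_add] at fa3
  exact ⟨fa1, fa2, fb2, fa3, fa4, fa6, fa7, fa8, fb8⟩

end Cfsg.Agent.H752.TF
end

-- part: H752/TF/CoE
section
set_option autoImplicit false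
set_option linter.unusedVariables false
set_option linter.unusedSimpArgs false

namespace Cfsg.Agent.H752.TF

open Cfsg.Agent.Octagon.Pkg Cfsg.Agent.H745.TF

universe u v

variable {K : Type u} [Field K] {σ : K →+* K} {m : ℕ} (hK : HypK σ m)
variable {U : Type v} [Group U] (T : TF σ U)

include hK

/-! ### `E4` -/

theorem mem_E4 {g : U} : g ∈ T.E4 ↔ (co T g).a1 = 0 ∧ (co T g).a2 = 0 ∧ (co T g).b2 = 0 ∧ (co T g).a4 = 0 ∧ (co T g).a6 = 0 ∧ (co T g).a7 = 0 ∧ (co T g).a8 = 0 ∧ (co T g).b8 = 0 := by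
  obtain ⟨S, hS⟩ := exists_sub hK T (fun c => c.a1 = 0 ∧ c.a2 = 0 ∧ c.b2 = 0 ∧ c.a4 = 0 ∧ c.a6 = 0 ∧ c.a7 = 0 ∧ c.a8 = 0 ∧ c.b8 = 0) (⟨rfl, rfl, rfl, rfl, rfl, rfl, rfl, rfl⟩) (by
    rintro c d ⟨hc0, hc1, hc2, hc3, hc4, hc5, hc6, hc7⟩ ⟨hd0, hd1, hd2, hd3, hd4, hd5, hd6, hd7⟩
    refine ⟨?_, ?_, ?_, ?_, ?_, ?_, ?_, ?_⟩
    · rw [mul_a1]
      simp only [hc0, hc1, hc2, hc3, hc4, hc5, hc6, hc7, hd0, hd1, hd2, hd3, hd4, hd5, hd6, hd7, zero_mul, mul_zero, add_zero, zero_add, map_zero, pow_zero, ne_eq, OfNat.ofNat_ne_zero, not_false_eq_true, zero_pow]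
    · rw [mul_a2]
      simp only [hc0, hc1, hc2, hc3, hc4, hc5, hc6, hc7, hd0, hd1, hd2, hd3, hd4, hd5, hd6, hd7, zero_mul, mul_zero, add_zero, zero_add, map_zero, pow_zero, ne_eq, OfNat.ofNat_ne_zero, not_false_eq_true, zero_pow]
    · rw [mul_b2]
      simp only [hc0, hc1, hc2, hc3, hc4, hc5, hc6, hc7, hd0, hd1, hd2, hd3, hd4, hd5, hd6, hd7, zero_mul, mul_zero, add_zero, zero_add, map_zero, pow_zero, ne_eq, OfNat.ofNat_ne_zero, not_false_eq_true, zero_pow]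
    · rw [mul_a4]
      simp only [hc0, hc1, hc2, hc3, hc4, hc5, hc6, hc7, hd0, hd1, hd2, hd3, hd4, hd5, hd6, hd7, zero_mul, mul_zero, add_zero, zero_add, map_zero, pow_zero, ne_eq, OfNat.ofNat_ne_zero, not_false_eq_true, zero_pow]
    · rw [mul_a6]
      simp only [hc0, hc1, hc2, hc3, hc4, hc5, hc6, hc7, hd0, hd1, hd2, hd3, hd4, hd5, hd6, hd7, zero_mul, mul_zero, add_zero, zero_add, map_zero, pow_zero, ne_eq, OfNat.ofNat_ne_zero, not_false_eq_true, zero_pow]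
    · rw [mul_a7]
      simp only [hc0, hc1, hc2, hc3, hc4, hc5, hc6, hc7, hd0, hd1, hd2, hd3, hd4, hd5, hd6, hd7, zero_mul, mul_zero, add_zero, zero_add, map_zero, pow_zero, ne_eq, OfNat.ofNat_ne_zero, not_false_eq_true, zero_pow]
    · rw [mul_a8]
      simp only [hc0, hc1, hc2, hc3, hc4, hc5, hc6, hc7, hd0, hd1, hd2, hd3, hd4, hd5, hd6, hd7, zero_mul, mul_zero, add_zero, zero_add, map_zero, pow_zero, ne_eq, OfNat.ofNat_ne_zero, not_false_eq_true, zero_pow]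
    · rw [mul_b8]
      simp only [hc0, hc1, hc2, hc3, hc4, hc5, hc6, hc7, hd0, hd1, hd2, hd3, hd4, hd5, hd6, hd7, zero_mul, mul_zero, add_zero, zero_add, map_zero, pow_zero, ne_eq, OfNat.ofNat_ne_zero, not_false_eq_true, zero_pow])
  rw [← hS]
  constructor
  · intro h
    have hle : T.E4 ≤ S := by
      simp only [TF.E4, sup_le_iff, Subgroup.closure_le, TF.Z4, TF.Z6, TF.X5, TF.X3]
      refine ⟨⟨⟨?_, ?_⟩, ?_⟩, ?_⟩
      · rintro _ ⟨u, rfl⟩
        exact (hS _).2 (by rw [co_x4]; exact ⟨rfl, rfl, rfl, rfl, rfl, rfl, rfl, rfl⟩)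
      · rintro _ ⟨u, rfl⟩
        exact (hS _).2 (by rw [co_x6]; exact ⟨rfl, rfl, rfl, rfl, rfl, rfl, rfl, rfl⟩)
      · rintro _ ⟨t, rfl⟩
        exact (hS _).2 (by rw [co_x5]; exact ⟨rfl, rfl, rfl, rfl, rfl, rfl, rfl, rfl⟩)
      · rintro _ ⟨t, rfl⟩
        exact (hS _).2 (by rw [co_x3]; exact ⟨rfl, rfl, rfl, rfl, rfl, rfl, rfl, rfl⟩)
    exact hle h
  · intro h
    rw [hS] at h
    rw [← el_co T g]
    generalize co T g = c at h ⊢
    obtain ⟨z0, z1, z2, z3, z4, z5, z6, z7⟩ := h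
    simp only [TF.el, z0, z1, z2, z3, z4, z5, z6, z7, H659.TF.x1_zero T.rel, H659.TF.x2_zero T.rel, H659.TF.x7_zero T.rel, H659.TF.x8_zero T.rel, one_mul, mul_one]
    exact mul_mem (mul_mem (mul_mem (X3_le_E4 T (x3_mem T _)) (Z4_le_E4 T (x4_mem_Z T _))) (X5_le_E4 T (x5_mem T _))) (Z6_le_E4 T (x6_mem_Z T _))

/-! ### `E` -/

theorem mem_E {g : U} : g ∈ T.E ↔ (co T g).a1 = 0 ∧ (co T g).a2 = 0 ∧ (co T g).a4 = 0 ∧ (co T g).a6 = 0 ∧ (co T g).a7 = 0 ∧ (co T g).a8 = 0 ∧ (co T g).b8 = 0 := by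
  obtain ⟨S, hS⟩ := exists_sub hK T (fun c => c.a1 = 0 ∧ c.a2 = 0 ∧ c.a4 = 0 ∧ c.a6 = 0 ∧ c.a7 = 0 ∧ c.a8 = 0 ∧ c.b8 = 0) (⟨rfl, rfl, rfl, rfl, rfl, rfl, rfl⟩) (by
    rintro c d ⟨hc0, hc1, hc2, hc3, hc4, hc5, hc6⟩ ⟨hd0, hd1, hd2, hd3, hd4, hd5, hd6⟩
    refine ⟨?_, ?_, ?_, ?_, ?_, ?_, ?_⟩
    · rw [mul_a1]
      simp only [hc0, hc1, hc2, hc3, hc4, hc5, hc6, hd0, hd1, hd2, hd3, hd4, hd5, hd6, zero_mul, mul_zero, add_zero, zero_add, map_zero, pow_zero, ne_eq, OfNat.ofNat_ne_zero, not_false_eq_true, zero_pow]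
    · rw [mul_a2]
      simp only [hc0, hc1, hc2, hc3, hc4, hc5, hc6, hd0, hd1, hd2, hd3, hd4, hd5, hd6, zero_mul, mul_zero, add_zero, zero_add, map_zero, pow_zero, ne_eq, OfNat.ofNat_ne_zero, not_false_eq_true, zero_pow]
    · rw [mul_a4]
      simp only [hc0, hc1, hc2, hc3, hc4, hc5, hc6, hd0, hd1, hd2, hd3, hd4, hd5, hd6, zero_mul, mul_zero, add_zero, zero_add, map_zero, pow_zero, ne_eq, OfNat.ofNat_ne_zero, not_false_eq_true, zero_pow]
    · rw [mul_a6]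
      simp only [hc0, hc1, hc2, hc3, hc4, hc5, hc6, hd0, hd1, hd2, hd3, hd4, hd5, hd6, zero_mul, mul_zero, add_zero, zero_add, map_zero, pow_zero, ne_eq, OfNat.ofNat_ne_zero, not_false_eq_true, zero_pow]
    · rw [mul_a7]
      simp only [hc0, hc1, hc2, hc3, hc4, hc5, hc6, hd0, hd1, hd2, hd3, hd4, hd5, hd6, zero_mul, mul_zero, add_zero, zero_add, map_zero, pow_zero, ne_eq, OfNat.ofNat_ne_zero, not_false_eq_true, zero_pow]
    · rw [mul_a8]
      simp only [hc0, hc1, hc2, hc3, hc4, hc5, hc6, hd0, hd1, hd2, hd3, hd4, hd5, hd6, zero_mul, mul_zero, add_zero, zero_add, map_zero, pow_zero, ne_eq, OfNat.ofNat_ne_zero, not_false_eq_true, zero_pow]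
    · rw [mul_b8]
      simp only [hc0, hc1, hc2, hc3, hc4, hc5, hc6, hd0, hd1, hd2, hd3, hd4, hd5, hd6, zero_mul, mul_zero, add_zero, zero_add, map_zero, pow_zero, ne_eq, OfNat.ofNat_ne_zero, not_false_eq_true, zero_pow])
  rw [← hS]
  constructor
  · intro h
    have hle : T.E ≤ S := by
      simp only [TF.E, sup_le_iff, Subgroup.closure_le, TF.Z4, TF.Z6, TF.X5, TF.X3, TF.Z2]
      refine ⟨⟨⟨⟨?_, ?_⟩, ?_⟩, ?_⟩, ?_⟩
      · rintro _ ⟨u, rfl⟩
        exact (hS _).2 (by rw [co_x4]; exact ⟨rfl, rfl, rfl, rfl, rfl, rfl, rfl⟩)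
      · rintro _ ⟨u, rfl⟩
        exact (hS _).2 (by rw [co_x6]; exact ⟨rfl, rfl, rfl, rfl, rfl, rfl, rfl⟩)
      · rintro _ ⟨t, rfl⟩
        exact (hS _).2 (by rw [co_x5]; exact ⟨rfl, rfl, rfl, rfl, rfl, rfl, rfl⟩)
      · rintro _ ⟨t, rfl⟩
        exact (hS _).2 (by rw [co_x3]; exact ⟨rfl, rfl, rfl, rfl, rfl, rfl, rfl⟩)
      · rintro _ ⟨u, rfl⟩
        exact (hS _).2 (by rw [co_x2]; exact ⟨rfl, rfl, rfl, rfl, rfl, rfl, rfl⟩)
    exact hle h
  · intro h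
    rw [hS] at h
    rw [← el_co T g]
    generalize co T g = c at h ⊢
    obtain ⟨z0, z1, z2, z3, z4, z5, z6⟩ := h
    simp only [TF.el, z0, z1, z2, z3, z4, z5, z6, H659.TF.x1_zero T.rel, H659.TF.x7_zero T.rel, H659.TF.x8_zero T.rel, one_mul, mul_one]
    exact mul_mem (mul_mem (mul_mem (mul_mem (Z2_le_E T (x2_mem_Z T _)) (X3_le_E T (x3_mem T _))) (Z4_le_E T (x4_mem_Z T _))) (X5_le_E T (x5_mem T _))) (Z6_le_E T (x6_mem_Z T _))

theorem card_E : Nat.card T.E = (2 ^ (2 * m + 1)) ^ 5 := by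
  refine card_of_mask hK T ![false, false, true, true, false, true, true, false, true, false, false, false] (by rfl) T.E fun g => ?_
  rw [mem_E hK]
  constructor
  · rintro ⟨z0, z1, z2, z3, z4, z5, z6⟩ i hi
    fin_cases i <;> [exact z0; exact z1; (exact absurd hi (by decide)); (exact absurd hi (by decide)); exact z2; (exact absurd hi (by decide));
                     (exact absurd hi (by decide)); exact z3; (exact absurd hi (by decide)); exact z4; exact z5; exact z6]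
  · intro h
    exact ⟨h 0 rfl, h 1 rfl, h 4 rfl, h 7 rfl, h 9 rfl, h 10 rfl, h 11 rfl⟩

theorem E_normal : T.E.Normal := by
  refine ⟨fun g hg x => ?_⟩
  have e : co T (x * g * x⁻¹ * x) = co T (x * g) := by rw [inv_mul_cancel_right]
  rw [co_mul hK T _ x, co_mul hK T x g] at e
  rw [mem_E hK] at hg ⊢
  generalize co T (x * g * x⁻¹) = h at e ⊢
  generalize co T x = y at e
  generalize co T g = c at e hg
  obtain ⟨z0, z1, z2, z3, z4, z5, z6⟩ := hg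
  have fa1 := congrArg Cd.a1 e
  rw [mul_a1, mul_a1] at fa1
  simp only [z0, z1, z2, z3, z4, z5, z6, zero_mul, mul_zero, add_zero, zero_add, map_zero, pow_zero, ne_eq, OfNat.ofNat_ne_zero, not_false_eq_true, zero_pow, add_eq_right, add_eq_left, left_eq_add, right_eq_add] at fa1
  have fa8 := congrArg Cd.a8 e
  rw [mul_a8, mul_a8] at fa8
  simp only [z0, z1, z2, z3, z4, z5, z6, fa1, zero_mul, mul_zero, add_zero, zero_add, map_zero, pow_zero, ne_eq, OfNat.ofNat_ne_zero, not_false_eq_true, zero_pow, add_eq_right, add_eq_left, left_eq_add, right_eq_add] at fa8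
  have fb8 := congrArg Cd.b8 e
  rw [mul_b8, mul_b8] at fb8
  simp only [z0, z1, z2, z3, z4, z5, z6, fa1, fa8, zero_mul, mul_zero, add_zero, zero_add, map_zero, pow_zero, ne_eq, OfNat.ofNat_ne_zero, not_false_eq_true, zero_pow, add_eq_right, add_eq_left, left_eq_add, right_eq_add] at fb8
  have fa2 := congrArg Cd.a2 e
  rw [mul_a2, mul_a2] at fa2
  simp only [z0, z1, z2, z3, z4, z5, z6, fa1, fa8, fb8, zero_mul, mul_zero, add_zero, zero_add, map_zero, pow_zero, ne_eq, OfNat.ofNat_ne_zero, not_false_eq_true, zero_pow, add_eq_right, add_eq_left, left_eq_add, right_eq_add] at fa2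
  have fa4 := congrArg Cd.a4 e
  rw [mul_a4, mul_a4] at fa4
  simp only [z0, z1, z2, z3, z4, z5, z6, fa1, fa8, fb8, fa2, zero_mul, mul_zero, add_zero, zero_add, map_zero, pow_zero, ne_eq, OfNat.ofNat_ne_zero, not_false_eq_true, zero_pow, add_eq_right, add_eq_left, left_eq_add, right_eq_add] at fa4
  have fa6 := congrArg Cd.a6 e
  rw [mul_a6, mul_a6] at fa6
  simp only [z0, z1, z2, z3, z4, z5, z6, fa1, fa8, fb8, fa2, fa4, zero_mul, mul_zero, add_zero, zero_add, map_zero, pow_zero, ne_eq, OfNat.ofNat_ne_zero, not_false_eq_true, zero_pow, add_eq_right, add_eq_left, left_eq_add, right_eq_add] at fa6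
  have fa7 := congrArg Cd.a7 e
  rw [mul_a7, mul_a7] at fa7
  simp only [z0, z1, z2, z3, z4, z5, z6, fa1, fa8, fb8, fa2, fa4, fa6, zero_mul, mul_zero, add_zero, zero_add, map_zero, pow_zero, ne_eq, OfNat.ofNat_ne_zero, not_false_eq_true, zero_pow, add_eq_right, add_eq_left, left_eq_add, right_eq_add] at fa7
  exact ⟨fa1, fa2, fa4, fa6, fa7, fa8, fb8⟩

end Cfsg.Agent.H752.TF
end

-- part: H752/TF/CoD
section
set_option autoImplicit false
set_option linter.unusedVariables false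
set_option linter.unusedSimpArgs false

namespace Cfsg.Agent.H752.TF

open Cfsg.Agent.Octagon.Pkg Cfsg.Agent.H745.TF

universe u v

variable {K : Type u} [Field K] {σ : K →+* K} {m : ℕ} (hK : HypK σ m)
variable {U : Type v} [Group U] (T : TF σ U)

include hK

/-! ### `D` -/

theorem mem_D {g : U} : g ∈ T.D ↔ (co T g).a1 = 0 ∧ (co T g).a2 = 0 ∧ (co T g).a6 = 0 ∧ (co T g).a7 = 0 ∧ (co T g).a8 = 0 ∧ (co T g).b8 = 0 := by
  obtain ⟨S, hS⟩ := exists_sub hK T (fun c => c.a1 = 0 ∧ c.a2 = 0 ∧ c.a6 = 0 ∧ c.a7 = 0 ∧ c.a8 = 0 ∧ c.b8 = 0) (⟨rfl, rfl, rfl, rfl, rfl, rfl⟩) (by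
    rintro c d ⟨hc0, hc1, hc2, hc3, hc4, hc5⟩ ⟨hd0, hd1, hd2, hd3, hd4, hd5⟩
    refine ⟨?_, ?_, ?_, ?_, ?_, ?_⟩
    · rw [mul_a1]
      simp only [hc0, hc1, hc2, hc3, hc4, hc5, hd0, hd1, hd2, hd3, hd4, hd5, zero_mul, mul_zero, add_zero, zero_add, map_zero, pow_zero, ne_eq, OfNat.ofNat_ne_zero, not_false_eq_true, zero_pow]
    · rw [mul_a2]
      simp only [hc0, hc1, hc2, hc3, hc4, hc5, hd0, hd1, hd2, hd3, hd4, hd5, zero_mul, mul_zero, add_zero, zero_add, map_zero, pow_zero, ne_eq, OfNat.ofNat_ne_zero, not_false_eq_true, zero_pow]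
    · rw [mul_a6]
      simp only [hc0, hc1, hc2, hc3, hc4, hc5, hd0, hd1, hd2, hd3, hd4, hd5, zero_mul, mul_zero, add_zero, zero_add, map_zero, pow_zero, ne_eq, OfNat.ofNat_ne_zero, not_false_eq_true, zero_pow]
    · rw [mul_a7]
      simp only [hc0, hc1, hc2, hc3, hc4, hc5, hd0, hd1, hd2, hd3, hd4, hd5, zero_mul, mul_zero, add_zero, zero_add, map_zero, pow_zero, ne_eq, OfNat.ofNat_ne_zero, not_false_eq_true, zero_pow]
    · rw [mul_a8]
      simp only [hc0, hc1, hc2, hc3, hc4, hc5, hd0, hd1, hd2, hd3, hd4, hd5, zero_mul, mul_zero, add_zero, zero_add, map_zero, pow_zero, ne_eq, OfNat.ofNat_ne_zero, not_false_eq_true, zero_pow]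
    · rw [mul_b8]
      simp only [hc0, hc1, hc2, hc3, hc4, hc5, hd0, hd1, hd2, hd3, hd4, hd5, zero_mul, mul_zero, add_zero, zero_add, map_zero, pow_zero, ne_eq, OfNat.ofNat_ne_zero, not_false_eq_true, zero_pow])
  rw [← hS]
  constructor
  · intro h
    have hle : T.D ≤ S := by
      simp only [TF.D, sup_le_iff, Subgroup.closure_le, TF.Z4, TF.Z6, TF.X5, TF.X3, TF.Z2, TF.X4]
      refine ⟨⟨⟨⟨⟨?_, ?_⟩, ?_⟩, ?_⟩, ?_⟩, ?_⟩
      · rintro _ ⟨u, rfl⟩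
        exact (hS _).2 (by rw [co_x4]; exact ⟨rfl, rfl, rfl, rfl, rfl, rfl⟩)
      · rintro _ ⟨u, rfl⟩
        exact (hS _).2 (by rw [co_x6]; exact ⟨rfl, rfl, rfl, rfl, rfl, rfl⟩)
      · rintro _ ⟨t, rfl⟩
        exact (hS _).2 (by rw [co_x5]; exact ⟨rfl, rfl, rfl, rfl, rfl, rfl⟩)
      · rintro _ ⟨t, rfl⟩
        exact (hS _).2 (by rw [co_x3]; exact ⟨rfl, rfl, rfl, rfl, rfl, rfl⟩)
      · rintro _ ⟨u, rfl⟩
        exact (hS _).2 (by rw [co_x2]; exact ⟨rfl, rfl, rfl, rfl, rfl, rfl⟩)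
      · rintro _ ⟨p, u, rfl⟩
        exact (hS _).2 (by rw [co_x4]; exact ⟨rfl, rfl, rfl, rfl, rfl, rfl⟩)
    exact hle h
  · intro h
    rw [hS] at h
    rw [← el_co T g]
    generalize co T g = c at h ⊢
    obtain ⟨z0, z1, z2, z3, z4, z5⟩ := h
    simp only [TF.el, z0, z1, z2, z3, z4, z5, H659.TF.x1_zero T.rel, H659.TF.x7_zero T.rel, H659.TF.x8_zero T.rel, one_mul, mul_one]
    exact mul_mem (mul_mem (mul_mem (mul_mem (Z2_le_D T (x2_mem_Z T _)) (X3_le_D T (x3_mem T _))) (X4_le_D T (x4_mem T _ _))) (X5_le_D T (x5_mem T _))) (Z6_le_D T (x6_mem_Z T _))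

theorem card_D : Nat.card T.D = (2 ^ (2 * m + 1)) ^ 6 := by
  refine card_of_mask hK T ![false, false, true, true, true, true, true, false, true, false, false, false] (by rfl) T.D fun g => ?_
  rw [mem_D hK]
  constructor
  · rintro ⟨z0, z1, z2, z3, z4, z5⟩ i hi
    fin_cases i <;> [exact z0; exact z1; (exact absurd hi (by decide)); (exact absurd hi (by decide)); (exact absurd hi (by decide)); (exact absurd hi (by decide));
                     (exact absurd hi (by decide)); exact z2; (exact absurd hi (by decide)); exact z3; exact z4; exact z5]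
  · intro h
    exact ⟨h 0 rfl, h 1 rfl, h 7 rfl, h 9 rfl, h 10 rfl, h 11 rfl⟩

theorem D_normal : T.D.Normal := by
  refine ⟨fun g hg x => ?_⟩
  have e : co T (x * g * x⁻¹ * x) = co T (x * g) := by rw [inv_mul_cancel_right]
  rw [co_mul hK T _ x, co_mul hK T x g] at e
  rw [mem_D hK] at hg ⊢
  generalize co T (x * g * x⁻¹) = h at e ⊢
  generalize co T x = y at e
  generalize co T g = c at e hg
  obtain ⟨z0, z1, z2, z3, z4, z5⟩ := hg
  have fa1 := congrArg Cd.a1 e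
  rw [mul_a1, mul_a1] at fa1
  simp only [z0, z1, z2, z3, z4, z5, zero_mul, mul_zero, add_zero, zero_add, map_zero, pow_zero, ne_eq, OfNat.ofNat_ne_zero, not_false_eq_true, zero_pow, add_eq_right, add_eq_left, left_eq_add, right_eq_add] at fa1
  have fa8 := congrArg Cd.a8 e
  rw [mul_a8, mul_a8] at fa8
  simp only [z0, z1, z2, z3, z4, z5, fa1, zero_mul, mul_zero, add_zero, zero_add, map_zero, pow_zero, ne_eq, OfNat.ofNat_ne_zero, not_false_eq_true, zero_pow, add_eq_right, add_eq_left, left_eq_add, right_eq_add] at fa8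
  have fb8 := congrArg Cd.b8 e
  rw [mul_b8, mul_b8] at fb8
  simp only [z0, z1, z2, z3, z4, z5, fa1, fa8, zero_mul, mul_zero, add_zero, zero_add, map_zero, pow_zero, ne_eq, OfNat.ofNat_ne_zero, not_false_eq_true, zero_pow, add_eq_right, add_eq_left, left_eq_add, right_eq_add] at fb8
  have fa2 := congrArg Cd.a2 e
  rw [mul_a2, mul_a2] at fa2
  simp only [z0, z1, z2, z3, z4, z5, fa1, fa8, fb8, zero_mul, mul_zero, add_zero, zero_add, map_zero, pow_zero, ne_eq, OfNat.ofNat_ne_zero, not_false_eq_true, zero_pow, add_eq_right, add_eq_left, left_eq_add, right_eq_add] at fa2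
  have fa6 := congrArg Cd.a6 e
  rw [mul_a6, mul_a6] at fa6
  simp only [z0, z1, z2, z3, z4, z5, fa1, fa8, fb8, fa2, zero_mul, mul_zero, add_zero, zero_add, map_zero, pow_zero, ne_eq, OfNat.ofNat_ne_zero, not_false_eq_true, zero_pow, add_eq_right, add_eq_left, left_eq_add, right_eq_add] at fa6
  have fa7 := congrArg Cd.a7 e
  rw [mul_a7, mul_a7] at fa7
  simp only [z0, z1, z2, z3, z4, z5, fa1, fa8, fb8, fa2, fa6, zero_mul, mul_zero, add_zero, zero_add, map_zero, pow_zero, ne_eq, OfNat.ofNat_ne_zero, not_false_eq_true, zero_pow, add_eq_right, add_eq_left, left_eq_add, right_eq_add] at fa7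
  exact ⟨fa1, fa2, fa6, fa7, fa8, fb8⟩

/-! ### `A37` -/

theorem mem_A37 {g : U} : g ∈ T.A37 ↔ (co T g).a1 = 0 ∧ (co T g).a2 = 0 ∧ (co T g).b2 = 0 ∧ (co T g).a4 = 0 ∧ (co T g).a6 = 0 ∧ (co T g).a8 = 0 ∧ (co T g).b8 = 0 := by
  obtain ⟨S, hS⟩ := exists_sub hK T (fun c => c.a1 = 0 ∧ c.a2 = 0 ∧ c.b2 = 0 ∧ c.a4 = 0 ∧ c.a6 = 0 ∧ c.a8 = 0 ∧ c.b8 = 0) (⟨rfl, rfl, rfl, rfl, rfl, rfl, rfl⟩) (by
    rintro c d ⟨hc0, hc1, hc2, hc3, hc4, hc5, hc6⟩ ⟨hd0, hd1, hd2, hd3, hd4, hd5, hd6⟩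
    refine ⟨?_, ?_, ?_, ?_, ?_, ?_, ?_⟩
    · rw [mul_a1]
      simp only [hc0, hc1, hc2, hc3, hc4, hc5, hc6, hd0, hd1, hd2, hd3, hd4, hd5, hd6, zero_mul, mul_zero, add_zero, zero_add, map_zero, pow_zero, ne_eq, OfNat.ofNat_ne_zero, not_false_eq_true, zero_pow]
    · rw [mul_a2]
      simp only [hc0, hc1, hc2, hc3, hc4, hc5, hc6, hd0, hd1, hd2, hd3, hd4, hd5, hd6, zero_mul, mul_zero, add_zero, zero_add, map_zero, pow_zero, ne_eq, OfNat.ofNat_ne_zero, not_false_eq_true, zero_pow]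
    · rw [mul_b2]
      simp only [hc0, hc1, hc2, hc3, hc4, hc5, hc6, hd0, hd1, hd2, hd3, hd4, hd5, hd6, zero_mul, mul_zero, add_zero, zero_add, map_zero, pow_zero, ne_eq, OfNat.ofNat_ne_zero, not_false_eq_true, zero_pow]
    · rw [mul_a4]
      simp only [hc0, hc1, hc2, hc3, hc4, hc5, hc6, hd0, hd1, hd2, hd3, hd4, hd5, hd6, zero_mul, mul_zero, add_zero, zero_add, map_zero, pow_zero, ne_eq, OfNat.ofNat_ne_zero, not_false_eq_true, zero_pow]
    · rw [mul_a6]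
      simp only [hc0, hc1, hc2, hc3, hc4, hc5, hc6, hd0, hd1, hd2, hd3, hd4, hd5, hd6, zero_mul, mul_zero, add_zero, zero_add, map_zero, pow_zero, ne_eq, OfNat.ofNat_ne_zero, not_false_eq_true, zero_pow]
    · rw [mul_a8]
      simp only [hc0, hc1, hc2, hc3, hc4, hc5, hc6, hd0, hd1, hd2, hd3, hd4, hd5, hd6, zero_mul, mul_zero, add_zero, zero_add, map_zero, pow_zero, ne_eq, OfNat.ofNat_ne_zero, not_false_eq_true, zero_pow]
    · rw [mul_b8]
      simp only [hc0, hc1, hc2, hc3, hc4, hc5, hc6, hd0, hd1, hd2, hd3, hd4, hd5, hd6, zero_mul, mul_zero, add_zero, zero_add, map_zero, pow_zero, ne_eq, OfNat.ofNat_ne_zero, not_false_eq_true, zero_pow])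
  rw [← hS]
  constructor
  · intro h
    have hle : T.A37 ≤ S := by
      simp only [TF.A37, sup_le_iff, Subgroup.closure_le, TF.Z4, TF.Z6, TF.X5, TF.X3, TF.X7]
      refine ⟨⟨⟨⟨?_, ?_⟩, ?_⟩, ?_⟩, ?_⟩
      · rintro _ ⟨u, rfl⟩
        exact (hS _).2 (by rw [co_x4]; exact ⟨rfl, rfl, rfl, rfl, rfl, rfl, rfl⟩)
      · rintro _ ⟨u, rfl⟩
        exact (hS _).2 (by rw [co_x6]; exact ⟨rfl, rfl, rfl, rfl, rfl, rfl, rfl⟩)
      · rintro _ ⟨t, rfl⟩
        exact (hS _).2 (by rw [co_x5]; exact ⟨rfl, rfl, rfl, rfl, rfl, rfl, rfl⟩)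
      · rintro _ ⟨t, rfl⟩
        exact (hS _).2 (by rw [co_x3]; exact ⟨rfl, rfl, rfl, rfl, rfl, rfl, rfl⟩)
      · rintro _ ⟨t, rfl⟩
        exact (hS _).2 (by rw [co_x7]; exact ⟨rfl, rfl, rfl, rfl, rfl, rfl, rfl⟩)
    exact hle h
  · intro h
    rw [hS] at h
    rw [← el_co T g]
    generalize co T g = c at h ⊢
    obtain ⟨z0, z1, z2, z3, z4, z5, z6⟩ := h
    simp only [TF.el, z0, z1, z2, z3, z4, z5, z6, H659.TF.x1_zero T.rel, H659.TF.x2_zero T.rel, H659.TF.x8_zero T.rel, one_mul, mul_one]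
    exact mul_mem (mul_mem (mul_mem (mul_mem (X3_le_A37 T (x3_mem T _)) (Z4_le_A37 T (x4_mem_Z T _))) (X5_le_A37 T (x5_mem T _))) (Z6_le_A37 T (x6_mem_Z T _))) (X7_le_A37 T (x7_mem T _))

theorem el_mem_A37 {c : Cd K} : T.el c ∈ T.A37 ↔ c.a1 = 0 ∧ c.a2 = 0 ∧ c.b2 = 0 ∧ c.a4 = 0 ∧ c.a6 = 0 ∧ c.a8 = 0 ∧ c.b8 = 0 := by rw [mem_A37 hK, co_el]

theorem A37_iff {g : U} : g ∈ T.A37 ↔ ∃ t3 u4 t5 u6 t7, g = T.x3 t3 * T.x4 0 u4 * T.x5 t5 * T.x6 0 u6 * T.x7 t7 := by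
  constructor
  · intro h
    rw [mem_A37 hK] at h
    have e := el_co T g
    generalize co T g = c at h e
    obtain ⟨z0, z1, z2, z3, z4, z5, z6⟩ := h
    simp only [TF.el, z0, z1, z2, z3, z4, z5, z6, H659.TF.x1_zero T.rel, H659.TF.x2_zero T.rel, H659.TF.x8_zero T.rel, one_mul, mul_one] at e
    exact ⟨_, _, _, _, _, e.symm⟩
  · rintro ⟨t3, u4, t5, u6, t7, rfl⟩
    exact mul_mem (mul_mem (mul_mem (mul_mem (X3_le_A37 T (x3_mem T _)) (Z4_le_A37 T (x4_mem_Z T _))) (X5_le_A37 T (x5_mem T _))) (Z6_le_A37 T (x6_mem_Z T _))) (X7_le_A37 T (x7_mem T _))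

theorem card_A37 : Nat.card T.A37 = (2 ^ (2 * m + 1)) ^ 5 := by
  refine card_of_mask hK T ![false, false, false, true, false, true, true, false, true, true, false, false] (by rfl) T.A37 fun g => ?_
  rw [mem_A37 hK]
  constructor
  · rintro ⟨z0, z1, z2, z3, z4, z5, z6⟩ i hi
    fin_cases i <;> [exact z0; exact z1; exact z2; (exact absurd hi (by decide)); exact z3; (exact absurd hi (by decide)); (exact absurd hi (by decide)); exact z4;
                     (exact absurd hi (by decide)); (exact absurd hi (by decide)); exact z5; exact z6]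
  · intro h
    exact ⟨h 0 rfl, h 1 rfl, h 2 rfl, h 4 rfl, h 7 rfl, h 10 rfl, h 11 rfl⟩

theorem A37_normal : T.A37.Normal := by
  refine ⟨fun g hg x => ?_⟩
  have e : co T (x * g * x⁻¹ * x) = co T (x * g) := by rw [inv_mul_cancel_right]
  rw [co_mul hK T _ x, co_mul hK T x g] at e
  rw [mem_A37 hK] at hg ⊢
  generalize co T (x * g * x⁻¹) = h at e ⊢
  generalize co T x = y at e
  generalize co T g = c at e hg
  obtain ⟨z0, z1, z2, z3, z4, z5, z6⟩ := hg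
  have fa1 := congrArg Cd.a1 e
  rw [mul_a1, mul_a1] at fa1
  simp only [z0, z1, z2, z3, z4, z5, z6, zero_mul, mul_zero, add_zero, zero_add, map_zero, pow_zero, ne_eq, OfNat.ofNat_ne_zero, not_false_eq_true, zero_pow, add_eq_right, add_eq_left, left_eq_add, right_eq_add] at fa1
  have fa8 := congrArg Cd.a8 e
  rw [mul_a8, mul_a8] at fa8
  simp only [z0, z1, z2, z3, z4, z5, z6, fa1, zero_mul, mul_zero, add_zero, zero_add, map_zero, pow_zero, ne_eq, OfNat.ofNat_ne_zero, not_false_eq_true, zero_pow, add_eq_right, add_eq_left, left_eq_add, right_eq_add] at fa8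
  have fb8 := congrArg Cd.b8 e
  rw [mul_b8, mul_b8] at fb8
  simp only [z0, z1, z2, z3, z4, z5, z6, fa1, fa8, zero_mul, mul_zero, add_zero, zero_add, map_zero, pow_zero, ne_eq, OfNat.ofNat_ne_zero, not_false_eq_true, zero_pow, add_eq_right, add_eq_left, left_eq_add, right_eq_add] at fb8
  have fa2 := congrArg Cd.a2 e
  rw [mul_a2, mul_a2] at fa2
  simp only [z0, z1, z2, z3, z4, z5, z6, fa1, fa8, fb8, zero_mul, mul_zero, add_zero, zero_add, map_zero, pow_zero, ne_eq, OfNat.ofNat_ne_zero, not_false_eq_true, zero_pow, add_eq_right, add_eq_left, left_eq_add, right_eq_add] at fa2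
  have fa4 := congrArg Cd.a4 e
  rw [mul_a4, mul_a4] at fa4
  simp only [z0, z1, z2, z3, z4, z5, z6, fa1, fa8, fb8, fa2, zero_mul, mul_zero, add_zero, zero_add, map_zero, pow_zero, ne_eq, OfNat.ofNat_ne_zero, not_false_eq_true, zero_pow, add_eq_right, add_eq_left, left_eq_add, right_eq_add] at fa4
  have fa6 := congrArg Cd.a6 e
  rw [mul_a6, mul_a6] at fa6
  simp only [z0, z1, z2, z3, z4, z5, z6, fa1, fa8, fb8, fa2, fa4, zero_mul, mul_zero, add_zero, zero_add, map_zero, pow_zero, ne_eq, OfNat.ofNat_ne_zero, not_false_eq_true, zero_pow, add_eq_right, add_eq_left, left_eq_add, right_eq_add] at fa6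
  have fb2 := congrArg Cd.b2 e
  rw [mul_b2, mul_b2] at fb2
  simp only [z0, z1, z2, z3, z4, z5, z6, fa1, fa8, fb8, fa2, fa4, fa6, zero_mul, mul_zero, add_zero, zero_add, map_zero, pow_zero, ne_eq, OfNat.ofNat_ne_zero, not_false_eq_true, zero_pow, add_eq_right, add_eq_left, left_eq_add, right_eq_add] at fb2
  exact ⟨fa1, fa2, fb2, fa4, fa6, fa8, fb8⟩

end Cfsg.Agent.H752.TF
end

-- part: H752/TF/Co
section
set_option autoImplicit false
set_option linter.unusedVariables false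
set_option linter.unusedSimpArgs false

namespace Cfsg.Agent.H752.TF

open Cfsg.Agent.Octagon.Pkg Cfsg.Agent.H745.TF

universe u v

variable {K : Type u} [Field K] {σ : K →+* K} {m : ℕ} (hK : HypK σ m)
variable {U : Type v} [Group U] (T : TF σ U)

include hK

/-! ### inclusions -/

theorem V_le_QB : T.V ≤ T.QB := by
  intro g hg
  rw [mem_V hK] at hg
  rw [mem_QB hK]
  obtain ⟨za1, za2, zb2, za3, za4, za5, za6, za7, za8, zb8⟩ := hg
  exact za1

theorem V_le_Y : T.V ≤ T.Y := by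
  intro g hg
  rw [mem_V hK] at hg
  rw [mem_Y hK]
  obtain ⟨za1, za2, zb2, za3, za4, za5, za6, za7, za8, zb8⟩ := hg
  exact ⟨za1, za2, zb2, za3, za4, za6, za7, za8, zb8⟩

theorem V_le_E : T.V ≤ T.E := by
  intro g hg
  rw [mem_V hK] at hg
  rw [mem_E hK]
  obtain ⟨za1, za2, zb2, za3, za4, za5, za6, za7, za8, zb8⟩ := hg
  exact ⟨za1, za2, za4, za6, za7, za8, zb8⟩

theorem V_le_A37 : T.V ≤ T.A37 := by
  intro g hg
  rw [mem_V hK] at hg
  rw [mem_A37 hK]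
  obtain ⟨za1, za2, zb2, za3, za4, za5, za6, za7, za8, zb8⟩ := hg
  exact ⟨za1, za2, zb2, za4, za6, za8, zb8⟩

theorem Y_le_E : T.Y ≤ T.E := by
  intro g hg
  rw [mem_Y hK] at hg
  rw [mem_E hK]
  obtain ⟨za1, za2, zb2, za3, za4, za6, za7, za8, zb8⟩ := hg
  exact ⟨za1, za2, za4, za6, za7, za8, zb8⟩

theorem Y_le_A37 : T.Y ≤ T.A37 := by
  intro g hg
  rw [mem_Y hK] at hg
  rw [mem_A37 hK]
  obtain ⟨za1, za2, zb2, za3, za4, za6, za7, za8, zb8⟩ := hg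
  exact ⟨za1, za2, zb2, za4, za6, za8, zb8⟩

theorem Y_le_N3 : T.Y ≤ T.N3 := by
  intro g hg
  rw [mem_Y hK] at hg
  rw [mem_N3 hK]
  obtain ⟨za1, za2, zb2, za3, za4, za6, za7, za8, zb8⟩ := hg
  exact ⟨za1, za2, za8⟩

theorem E4_le_E : T.E4 ≤ T.E := by
  intro g hg
  rw [mem_E4 hK] at hg
  rw [mem_E hK]
  obtain ⟨za1, za2, zb2, za4, za6, za7, za8, zb8⟩ := hg
  exact ⟨za1, za2, za4, za6, za7, za8, zb8⟩

theorem E_le_QA : T.E ≤ T.QA := by
  intro g hg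
  rw [mem_E hK] at hg
  rw [mem_QA hK]
  obtain ⟨za1, za2, za4, za6, za7, za8, zb8⟩ := hg
  exact ⟨za8, zb8⟩

theorem E_le_D : T.E ≤ T.D := by
  intro g hg
  rw [mem_E hK] at hg
  rw [mem_D hK]
  obtain ⟨za1, za2, za4, za6, za7, za8, zb8⟩ := hg
  exact ⟨za1, za2, za6, za7, za8, zb8⟩

theorem D_le_QA : T.D ≤ T.QA := by
  intro g hg
  rw [mem_D hK] at hg
  rw [mem_QA hK]
  obtain ⟨za1, za2, za6, za7, za8, zb8⟩ := hg
  exact ⟨za8, zb8⟩

theorem D_le_QB : T.D ≤ T.QB := by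
  intro g hg
  rw [mem_D hK] at hg
  rw [mem_QB hK]
  obtain ⟨za1, za2, za6, za7, za8, zb8⟩ := hg
  exact za1

theorem A37_le_N3 : T.A37 ≤ T.N3 := by
  intro g hg
  rw [mem_A37 hK] at hg
  rw [mem_N3 hK]
  obtain ⟨za1, za2, zb2, za4, za6, za8, zb8⟩ := hg
  exact ⟨za1, za2, za8⟩

theorem N3_le_QB : T.N3 ≤ T.QB := by
  intro g hg
  rw [mem_N3 hK] at hg
  rw [mem_QB hK]
  obtain ⟨za1, za2, za8⟩ := hg
  exact za1

end Cfsg.Agent.H752.TF
end

private theorem dce_467fe9828f52 : _root_.True := by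
  try have : _root_.True := by simp only [_root_.Cfsg.Agent.H752.TF.e8.eq_1]
  try have : _root_.True := by simp only [_root_.Cfsg.Agent.H745.TF.TF.Z4.eq_1]
  try have : _root_.True := by simp only [_root_.Cfsg.Agent.H745.TF.TF.X8.eq_1]
  try have : _root_.True := by simp only [_root_.Cfsg.Agent.H752.TF.e7.eq_1]
  try have : _root_.True := by simp only [_root_.Cfsg.Agent.H745.TF.TF.X4.eq_1]
  try have : _root_.True := by simp only [_root_.Cfsg.Agent.H745.TF.TF.X1.eq_1]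
  try have : _root_.True := by simp only [_root_.Cfsg.Agent.H745.TF.TF.Z6.eq_1]
  try have : _root_.True := by simp only [_root_.Cfsg.Agent.H745.TF.TF.Z2.eq_1]
  try have : _root_.True := by simp only [_root_.Cfsg.Agent.H745.TF.TF.E4.eq_1]
  try have : _root_.True := by simp only [_root_.Cfsg.Agent.H745.TF.TF.QB.eq_1]
  try have : _root_.True := by simp only [_root_.Cfsg.Agent.H745.TF.TF.E.eq_1]
  try have : _root_.True := by simp only [_root_.Cfsg.Agent.H745.TF.TF.A37.eq_1]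
  try have : _root_.True := by simp only [_root_.Cfsg.Agent.H752.TF.e6.eq_1]
  try have : _root_.True := by simp only [_root_.Cfsg.Agent.H745.TF.TF.X6.eq_1]
  try have : _root_.True := by simp only [_root_.Cfsg.Agent.H745.TF.TF.N3.eq_1]
  try have : _root_.True := by simp only [_root_.Cfsg.Agent.H745.TF.TF.V.eq_1]
  try have : _root_.True := by simp only [_root_.Cfsg.Agent.H752.TF.e1.eq_1]
  try have : _root_.True := by simp only [_root_.Cfsg.Agent.H745.TF.TF.el.eq_1]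
  try have : _root_.True := by simp only [_root_.Cfsg.Agent.H745.TF.TF.X7.eq_1]
  try have : _root_.True := by simp only [_root_.Cfsg.Agent.H752.TF.e2.eq_1]
  try have : _root_.True := by simp only [_root_.Cfsg.Agent.H745.TF.TF.Z8.eq_1]
  try have : _root_.True := by simp only [_root_.Cfsg.Agent.H745.TF.TF.X3.eq_1]
  try have : _root_.True := by simp only [_root_.Cfsg.Agent.H752.TF.e3.eq_1]
  try have : _root_.True := by simp only [_root_.Cfsg.Agent.H745.TF.TF.X5.eq_1]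
  try have : _root_.True := by simp only [_root_.Cfsg.Agent.H745.TF.TF.QA.eq_1]
  try have : _root_.True := by simp only [_root_.Cfsg.Agent.H745.TF.TF.D.eq_1]
  try have : _root_.True := by simp only [_root_.Cfsg.Agent.H752.TF.e4.eq_1]
  try have : _root_.True := by simp only [_root_.Cfsg.Agent.H745.TF.TF.Y.eq_1]
  try have : _root_.True := by simp only [_root_.Cfsg.Agent.H752.TF.e5.eq_1]
  try have : _root_.True := by simp only [_root_.Cfsg.Agent.H745.TF.TF.X2.eq_1]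
  exact _root_.True.intro
end

-- part: H745/TF/EssStmts
section
set_option linter.all false

-- part: H745/TF/Stmts2
section
/-!
# S5262: further statements (essential subgroups)
-/

set_option autoImplicit false
set_option linter.dupNamespace false

namespace Cfsg.Agent.H745.TF

open Cfsg Cfsg.FusionSystem Cfsg.Agent.Octagon.Pkg Cfsg.Agent.H756.PU

universe u v

end Cfsg.Agent.H745.TF
end

-- part: H745/TF/EssStmts
section
/-!
# S5262: the essential subgroups, steps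

Plan: `outputs/live/tools/plans/S5262.md`, section ESS-745. The engine is `Cfsg.Agent.H802.TE.Eng` (StPhi, StP2, StP2c,
StP2w, StBd, StCh, StHull, StL, StConj, ...), `StSecC`, `StSecW` and the engine of `H756/PU/Engine.lean`.
-/

set_option autoImplicit false
set_option linter.dupNamespace false

namespace Cfsg.Agent.H745.TF

open Cfsg Cfsg.FusionSystem Cfsg.Agent.Octagon.Pkg Cfsg.Agent.H756.PU

universe u v

/-- (INV) involutions outside `QB` are conjugate to some `x1 t` -/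
def StInv : Prop :=
  ∀ {K : Type u} [Field K] {σ : K →+* K} {m : ℕ}, HypK σ m → ∀ {U : Type v} [Group U] (T : TF σ U)
    (g : U), g * g = 1 → g ∉ T.QB → ∃ x : U, ∃ t : K, t ≠ 0 ∧ x * g * x⁻¹ = T.x1 t

/-- (ORD) elements of `QB∖N3` are not involutions -/
def StOrd : Prop :=
  ∀ {K : Type u} [Field K] {σ : K →+* K} {m : ℕ}, HypK σ m → ∀ {U : Type v} [Group U] (T : TF σ U)
    (g : U), g * g = 1 → g ∈ T.QB → g ∈ T.N3

/-- (ESS1) -/
def StEss1 : Prop :=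
  ∀ {K : Type u} [Field K] {σ : K →+* K} {m : ℕ}, HypK σ m → ∀ {U : Type v} [Group U] (T : TF σ U)
    {R : Subgroup U} {Γ : Subgroup (MulAut R)}, Ess (⊤ : Subgroup U) R 2 Γ → T.V ≤ R

/-- (ESS2) -/
def StEss2 : Prop :=
  ∀ {K : Type u} [Field K] {σ : K →+* K} {m : ℕ}, HypK σ m → ∀ {U : Type v} [Group U] (T : TF σ U)
    {R : Subgroup U} {Γ : Subgroup (MulAut R)}, Ess (⊤ : Subgroup U) R 2 Γ → T.V ≤ R → T.Y ≤ R

/-- (ESS3) -/
def StEss3 : Prop :=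
  ∀ {K : Type u} [Field K] {σ : K →+* K} {m : ℕ}, HypK σ m → ∀ {U : Type v} [Group U] (T : TF σ U)
    {R : Subgroup U} {Γ : Subgroup (MulAut R)}, Ess (⊤ : Subgroup U) R 2 Γ → T.Y ≤ R → ¬ R ≤ T.N3

end Cfsg.Agent.H745.TF
end
end

-- part: H752/TF/Ess3_mg
section
prune_inst 0x300005002500020000000084010020203000009000000001a0200502080140200d0200000a80251008088a8020000020000000904040000000000000000100000021020200500c00000088000000000000000000000000000000000000000004000000000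
set_option linter.all false
open scoped Cfsg.Agent.FastGrp

-- part: H752/TF/Ess3
section
/-!
# S5262 (ESS3): `Y ≤ R ≤ N3` is impossible, parts (A) `A37 ≤ R < N3` and (C) `R = N3` (helper752)
-/

set_option autoImplicit false
set_option linter.unusedVariables false
set_option linter.unusedSimpArgs false

namespace Cfsg.Agent.H752.TF

open Cfsg Cfsg.FusionSystem Cfsg.Agent.Octagon.Pkg Cfsg.Agent.H745.TF Cfsg.Agent.H756.PU Cfsg.Agent.H802.TE

universe u v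

section

variable {K : Type u} [Field K] {σ : K →+* K} {m : ℕ} (hK : HypK σ m)
variable {U : Type v} [Group U] (T : TF σ U)

include hK

/-- the coordinates of a commutator -/
theorem co_comm {g h : U} {v : Cd K}
    (e : H181.TF.mul σ (co T g) (co T h) = H181.TF.mul σ v (H181.TF.mul σ (co T h) (co T g))) :
    co T (g * h * g⁻¹ * h⁻¹) = v := by
  have h1 : g * h = T.el v * (h * g) := by
    apply co_injective T
    rw [co_mul hK, co_mul hK, co_mul hK, co_el, e]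
  have h2 : g * h * g⁻¹ * h⁻¹ = T.el v := by
    rw [h1]
    group
  rw [h2, co_el]

/-- `[N3, A37]` -/
theorem comm_N3_A37 {n a : U} (hn : n ∈ T.N3) (ha : a ∈ T.A37) :
    co T (n * a * n⁻¹ * a⁻¹) =
      ⟨0, 0, 0, 0, 0, (co T n).a6 * (co T a).a3 + (co T n).b2 * (co T a).a7, 0, 0,
        (co T n).b8 * (co T a).a3 + (co T n).a4 * (co T a).a7, 0, 0, 0⟩ := by
  apply co_comm hK
  rw [mem_N3 hK] at hn
  rw [mem_A37 hK] at ha
  have h2 := hK.two
  generalize co T n = c at hn ⊢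
  generalize co T a = d at ha ⊢
  obtain ⟨c1, c2, c8⟩ := hn
  obtain ⟨d1, d2, d3, d4, d6, d8, d9⟩ := ha
  ext <;> simp only [mul_a1, mul_a2, mul_b2, mul_a3, mul_a4, mul_b4, mul_a5, mul_a6, mul_b6, mul_a7, mul_a8, mul_b8,
    c1, c2, c8, d1, d2, d3, d4, d6, d8, d9, zero_mul, mul_zero, add_zero, zero_add, map_zero, pow_zero, ne_eq,
    OfNat.ofNat_ne_zero, not_false_eq_true, zero_pow]
  all_goals first | ring1 | grind

/-- `[N3, N3] ≤ Y` -/
theorem comm_N3 {n n' : U} (hn : n ∈ T.N3) (hn' : n' ∈ T.N3) : n * n' * n⁻¹ * n'⁻¹ ∈ T.Y := by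
  have e : co T (n * n' * n⁻¹ * n'⁻¹ * (n' * n)) = co T (n * n') := by
    congr 1
    group
  rw [co_mul hK T _ (n' * n), co_mul hK T n' n, co_mul hK T n n'] at e
  rw [mem_N3 hK] at hn hn'
  rw [mem_Y hK]
  generalize co T (n * n' * n⁻¹ * n'⁻¹) = z at e ⊢
  generalize co T n = c at e hn
  generalize co T n' = d at e hn'
  obtain ⟨c1, c2, c8⟩ := hn
  obtain ⟨d1, d2, d8⟩ := hn'
  have f1 := congrArg Cd.a1 e
  simp only [mul_a1, c1, c2, c8, d1, d2, d8, zero_mul, mul_zero, add_zero, zero_add, map_zero] at f1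
  have f8 := congrArg Cd.a8 e
  simp only [mul_a8, c1, c2, c8, d1, d2, d8, zero_mul, mul_zero, add_zero, zero_add, map_zero] at f8
  have g8 := congrArg Cd.b8 e
  simp only [mul_b8, mul_a8, c1, c2, c8, d1, d2, d8, f1, f8, zero_mul, mul_zero, add_zero, zero_add, map_zero] at g8
  replace g8 : z.b8 = 0 := by linear_combination g8
  have f2 := congrArg Cd.a2 e
  simp only [mul_a2, mul_a1, c1, c2, c8, d1, d2, d8, f1, f8, g8, zero_mul, mul_zero, add_zero, zero_add, map_zero] at f2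
  have f4 := congrArg Cd.a4 e
  simp only [mul_a4, mul_a2, mul_a1, c1, c2, c8, d1, d2, d8, f1, f8, g8, f2, zero_mul, mul_zero, add_zero, zero_add, map_zero] at f4
  replace f4 : z.a4 = 0 := by linear_combination f4
  have f6 := congrArg Cd.a6 e
  simp only [mul_a6, mul_a4, mul_a2, mul_a1, c1, c2, c8, d1, d2, d8, f1, f8, g8, f2, f4, zero_mul, mul_zero, add_zero, zero_add,
    map_zero] at f6
  replace f6 : z.a6 = 0 := by linear_combination f6
  have f7 := congrArg Cd.a7 e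
  simp only [mul_a7, mul_a6, mul_a4, mul_a2, mul_a1, c1, c2, c8, d1, d2, d8, f1, f8, g8, f2, f4, f6, zero_mul, mul_zero, add_zero,
    zero_add, map_zero, pow_zero, ne_eq, OfNat.ofNat_ne_zero, not_false_eq_true, zero_pow] at f7
  replace f7 : z.a7 = 0 := by linear_combination f7
  have g2 := congrArg Cd.b2 e
  simp only [mul_b2, mul_a6, mul_a4, mul_a2, mul_a1, c1, c2, c8, d1, d2, d8, f1, f8, g8, f2, f4, f6, f7, zero_mul, mul_zero, add_zero,
    zero_add, map_zero, pow_zero, ne_eq, OfNat.ofNat_ne_zero, not_false_eq_true, zero_pow] at g2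
  replace g2 : z.b2 = 0 := by linear_combination g2
  have f3 := congrArg Cd.a3 e
  simp only [mul_a3, mul_b2, mul_a6, mul_a4, mul_a2, mul_a1, c1, c2, c8, d1, d2, d8, f1, f8, g8, f2, f4, f6, f7, g2, zero_mul, mul_zero,
    add_zero, zero_add, map_zero, pow_zero, ne_eq, OfNat.ofNat_ne_zero, not_false_eq_true, zero_pow] at f3
  replace f3 : z.a3 = 0 := by linear_combination f3
  exact ⟨f1, f2, g2, f3, f4, f6, f7, f8, g8⟩

/-- `Y` is central in `N3` -/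
theorem comm_Y {n y : U} (hn : n ∈ T.N3) (hy : y ∈ T.Y) : n * y = y * n := by
  apply co_injective T
  rw [co_mul hK, co_mul hK]
  rw [mem_N3 hK] at hn
  rw [mem_Y hK] at hy
  generalize co T n = c at hn ⊢
  generalize co T y = d at hy ⊢
  obtain ⟨c1, c2, c8⟩ := hn
  obtain ⟨d1, d2, d3, d4, d5, d6, d7, d8, d9⟩ := hy
  ext <;> simp only [mul_a1, mul_a2, mul_b2, mul_a3, mul_a4, mul_b4, mul_a5, mul_a6, mul_b6, mul_a7, mul_a8, mul_b8,
    c1, c2, c8, d1, d2, d3, d4, d5, d6, d7, d8, d9, zero_mul, mul_zero, add_zero, zero_add, map_zero, pow_zero, ne_eq,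
    OfNat.ofNat_ne_zero, not_false_eq_true, zero_pow]
  all_goals ring

/-- `C_{N3}(A37) = A37` -/
theorem mem_A37_of_comm {n : U} (hn : n ∈ T.N3) (h : ∀ a ∈ T.A37, n * a = a * n) : n ∈ T.A37 := by
  have key : ∀ a ∈ T.A37, (co T n).a6 * (co T a).a3 + (co T n).b2 * (co T a).a7 = 0 ∧
      (co T n).b8 * (co T a).a3 + (co T n).a4 * (co T a).a7 = 0 := by
    intro a ha
    have h1 : n * a * n⁻¹ * a⁻¹ = 1 := by rw [h a ha, mul_inv_cancel_right, mul_inv_cancel]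
    have h2 := comm_N3_A37 hK T hn ha
    rw [h1, co_one] at h2
    exact ⟨(congrArg Cd.b4 h2).symm, (congrArg Cd.b6 h2).symm⟩
  obtain ⟨k1, k2⟩ := key (T.x3 1) (X3_le_A37 T (x3_mem T 1))
  obtain ⟨k3, k4⟩ := key (T.x7 1) (X7_le_A37 T (x7_mem T 1))
  simp only [co_x3, co_x7, e3, e7, mul_one, mul_zero, add_zero, zero_add] at k1 k2 k3 k4
  rw [mem_N3 hK] at hn
  rw [mem_A37 hK]
  exact ⟨hn.1, hn.2.1, k3, k4, k1, hn.2.2, k2⟩

end

theorem relc {G : Type*} [Group G] {A B : Subgroup G} (h : A ≤ B) : A.relIndex B * Nat.card A = Nat.card B := by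
  rw [← Subgroup.card_mul_index (A.subgroupOf B), Subgroup.relIndex, mul_comm,
    Nat.card_congr (Subgroup.subgroupOfEquivOfLe h).toEquiv]

/-- (A) -/
theorem essA (hp2 : StP2.{v}) (hhull : StHull.{v}) (hphi : StPhi.{v}) {K : Type u} [Field K] {σ : K →+* K} {m : ℕ}
    (hK : HypK σ m) {U : Type v} [Group U] (T : TF σ U) {R : Subgroup U} {Γ : Subgroup (MulAut R)}
    (hE : Ess (⊤ : Subgroup U) R 2 Γ) (hR : T.A37 ≤ R) (hN : R ≤ T.N3) (hne : R ≠ T.N3) : False := by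
  haveI := finite_U hK T
  haveI := hK.fin
  have hYA : T.Y ≤ T.A37 := Y_le_A37 hK T
  have hYR : T.Y ≤ R := hYA.trans hR
  have hN3R : ¬ T.N3 ≤ R := fun h => hne (le_antisymm hN h)
  have hpR : IsPGroup 2 R := hE.pgr.of_injective (Subgroup.inclusion hE.E_le) (Subgroup.inclusion_injective _)
  obtain ⟨hΦR, hRR, -, -, -, -⟩ := hphi R 2 Nat.prime_two inferInstance hpR
  have hcom : ∀ x ∈ T.N3, ∀ y ∈ T.N3, x * y * x⁻¹ * y⁻¹ ∈ T.Y := fun x hx y hy => comm_N3 hK T hx hy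
  -- `N3` normalizes `R`
  have hnorm : T.N3 ≤ normalizerIn ⊤ R := by
    intro x hx
    refine Subgroup.mem_inf.2 ⟨Subgroup.mem_top _, ?_⟩
    have h1 : ∀ w ∈ T.N3, ∀ e ∈ R, w * e * w⁻¹ ∈ R := by
      intro w hw e he
      have h2 : w * e * w⁻¹ = w * e * w⁻¹ * e⁻¹ * e := by group
      rw [h2]
      exact R.mul_mem (hYR (hcom w hw e (hN he))) he
    rw [Subgroup.mem_normalizer_iff]
    intro e
    refine ⟨h1 x hx e, fun h => ?_⟩
    have h2 := h1 x⁻¹ (T.N3.inv_mem hx) _ h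
    rwa [inv_inv, ← mul_assoc, ← mul_assoc, inv_mul_cancel, one_mul, inv_mul_cancel_right] at h2
  -- HULL
  obtain ⟨γ, hγ, y0, hy0, n, hn, hcon⟩ := hhull hE T.N3 T.Y le_top hYR (fun x hx e he => hcom x hx e (hN he)) hN3R
  set y : U := ((γ y0 : R) : U) with hy
  have hyR : y ∈ R := (γ y0).2
  have hyc : ∀ r ∈ R, y * r = r * y := by
    intro r hr
    have h1 : y0 * γ⁻¹ ⟨r, hr⟩ = γ⁻¹ ⟨r, hr⟩ * y0 := by
      apply Subtype.ext
      exact (comm_Y hK T (hN (γ⁻¹ ⟨r, hr⟩).2) hy0).symm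
    have h2 := congrArg (fun e : R => ((γ e : R) : U)) h1
    simp only [map_mul, MulAut.apply_inv_self, Subgroup.coe_mul] at h2
    exact h2
  have hyA : y ∈ T.A37 := mem_A37_of_comm hK T (hN hyR) fun a ha => hyc a (hR ha)
  have hyY : y ∉ T.Y := by
    intro h
    apply hcon
    rw [comm_Y hK T hn h, mul_inv_cancel_right, mul_inv_cancel]
    exact (Phi R).one_mem
  -- the element `a0`
  obtain ⟨a0, ha0, hinj⟩ : ∃ a0 ∈ T.A37, ∀ r ∈ R, r * a0 * r⁻¹ * a0⁻¹ = 1 → r ∈ T.A37 := by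
    have h37 : (co T y).a3 ≠ 0 ∨ (co T y).a7 ≠ 0 := by
      by_contra hh
      push Not at hh
      apply hyY
      rw [mem_A37 hK] at hyA
      rw [mem_Y hK]
      exact ⟨hyA.1, hyA.2.1, hyA.2.2.1, hh.1, hyA.2.2.2.1, hyA.2.2.2.2.1, hh.2, hyA.2.2.2.2.2.1, hyA.2.2.2.2.2.2⟩
    have hr0 : ∀ r ∈ R, (co T r).a6 * (co T y).a3 + (co T r).b2 * (co T y).a7 = 0 ∧
        (co T r).b8 * (co T y).a3 + (co T r).a4 * (co T y).a7 = 0 := by
      intro r hr
      have h1 : r * y * r⁻¹ * y⁻¹ = 1 := by rw [← hyc r hr, mul_inv_cancel_right, mul_inv_cancel]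
      have h2 := comm_N3_A37 hK T (hN hr) hyA
      rw [h1, co_one] at h2
      exact ⟨(congrArg Cd.b4 h2).symm, (congrArg Cd.b6 h2).symm⟩
    rcases h37 with h3 | h7
    · refine ⟨T.x7 1, X7_le_A37 T (x7_mem T 1), fun r hr h => ?_⟩
      have h2 := comm_N3_A37 hK T (hN hr) (X7_le_A37 T (x7_mem T 1))
      rw [h, co_one] at h2
      have k3 := (congrArg Cd.b4 h2).symm
      have k4 := (congrArg Cd.b6 h2).symm
      simp only [co_x7, e7, mul_one, mul_zero, zero_add] at k3 k4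
      obtain ⟨k1, k2⟩ := hr0 r hr
      rw [k3, zero_mul, add_zero] at k1
      rw [k4, zero_mul, add_zero] at k2
      have hrN := hN hr
      rw [mem_N3 hK] at hrN
      rw [mem_A37 hK]
      exact ⟨hrN.1, hrN.2.1, k3, k4, (mul_eq_zero.1 k1).resolve_right h3, hrN.2.2, (mul_eq_zero.1 k2).resolve_right h3⟩
    · refine ⟨T.x3 1, X3_le_A37 T (x3_mem T 1), fun r hr h => ?_⟩
      have h2 := comm_N3_A37 hK T (hN hr) (X3_le_A37 T (x3_mem T 1))
      rw [h, co_one] at h2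
      have k3 := (congrArg Cd.b4 h2).symm
      have k4 := (congrArg Cd.b6 h2).symm
      simp only [co_x3, e3, mul_one, mul_zero, add_zero] at k3 k4
      obtain ⟨k1, k2⟩ := hr0 r hr
      rw [k3, zero_mul, zero_add] at k1
      rw [k4, zero_mul, zero_add] at k2
      have hrN := hN hr
      rw [mem_N3 hK] at hrN
      rw [mem_A37 hK]
      exact ⟨hrN.1, hrN.2.1, (mul_eq_zero.1 k1).resolve_right h7, (mul_eq_zero.1 k2).resolve_right h7, k3, hrN.2.2, k4⟩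
  -- the homomorphism `r ↦ [r, a0]`
  have hVY : T.V ≤ T.Y := V_le_Y hK T
  have hcV : ∀ r ∈ R, r * a0 * r⁻¹ * a0⁻¹ ∈ T.V := by
    intro r hr
    rw [mem_V hK, comm_N3_A37 hK T (hN hr) ha0]
    exact ⟨rfl, rfl, rfl, rfl, rfl, rfl, rfl, rfl, rfl, rfl⟩
  let ψ : R →* U :=
    { toFun := fun r => (r : U) * a0 * (r : U)⁻¹ * a0⁻¹
      map_one' := by simp
      map_mul' := fun r s => by
        have h1 := comm_Y hK T (hN r.2) (hVY (hcV s s.2))
        have h2 : (((r * s : R) : U)) * a0 * ((r * s : R) : U)⁻¹ * a0⁻¹ =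
            ((r : U) * ((s : U) * a0 * (s : U)⁻¹ * a0⁻¹)) * (a0 * (r : U)⁻¹ * a0⁻¹) := by
          rw [Subgroup.coe_mul]; group
        rw [h2, h1]
        have h3 := comm_Y hK T (hN (R.mul_mem (R.mul_mem r.2 (hR ha0)) (R.mul_mem (R.inv_mem r.2) (R.inv_mem (hR ha0)))))
          (hVY (hcV s s.2))
        have h4 : ((s : U) * a0 * (s : U)⁻¹ * a0⁻¹) * (r : U) * (a0 * (r : U)⁻¹ * a0⁻¹) =
            ((s : U) * a0 * (s : U)⁻¹ * a0⁻¹) * ((r : U) * a0 * ((r : U)⁻¹ * a0⁻¹)) := by group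
        rw [h4, ← h3]
        group }
  have hker : Nat.card ψ.ker ≤ Nat.card T.A37 := by
    refine Nat.card_le_card_of_injective (fun r : ψ.ker => (⟨((r : R) : U), hinj _ (r : R).2 r.2⟩ : T.A37)) ?_
    intro r s h
    exact Subtype.ext (Subtype.ext (congrArg (fun z : T.A37 => (z : U)) h))
  have hran : ψ.range ≤ T.V ⊓ Phi R := by
    rintro _ ⟨r, rfl⟩
    exact ⟨hcV r r.2, hRR r r.2 a0 (hR ha0)⟩
  have hcard : Nat.card R = Nat.card ψ.ker * Nat.card ψ.range := by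
    rw [mul_comm, ← Nat.card_congr (QuotientGroup.quotientKerEquivRange ψ).toEquiv]
    exact Subgroup.card_eq_card_quotient_mul_card_subgroup ψ.ker
  -- counting
  obtain ⟨b, hb, hbR⟩ := SetLike.not_le_iff_exists.1 hN3R
  have hP := hp2 hE T.N3 T.N3 T.Y T.Y (T.V ⊓ Phi R) (T.V ⊓ Phi R) hnorm hnorm hN3R hYR hYR
    (fun x hx e he => hcom x hx e (hN he)) (fun x hx e he => hcom x hx e (hN he)) inf_le_right inf_le_right
  rw [← sq] at hP
  have hle : R.relIndex T.N3 ≤ (T.V ⊓ Phi R).relIndex T.Y := by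
    by_contra h
    exact absurd hP (not_le.2 (Nat.pow_lt_pow_left (not_le.1 h) two_ne_zero))
  have c1 := relc hN
  have c2 := relc (inf_le_left.trans hVY : T.V ⊓ Phi R ≤ T.Y)
  rw [card_N3 hK] at c1
  rw [card_Y hK] at c2
  rw [card_A37 hK] at hker
  have hran' : Nat.card ψ.range ≤ Nat.card ((T.V ⊓ Phi R : Subgroup U)) := Subgroup.card_le_of_le hran
  set q := 2 ^ (2 * m + 1) with hq
  have hq1 : 1 < q := Nat.one_lt_two_pow (by omega)
  set i := (T.V ⊓ Phi R).relIndex T.Y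
  set f := Nat.card ((T.V ⊓ Phi R : Subgroup U))
  have h1 : q ^ 9 ≤ q ^ 8 := by
    calc q ^ 9 = R.relIndex T.N3 * Nat.card R := c1.symm
      _ ≤ i * (q ^ 5 * f) := by
        rw [hcard]
        exact Nat.mul_le_mul hle (Nat.mul_le_mul hker hran')
      _ = q ^ 5 * (i * f) := by ring
      _ = q ^ 8 := by rw [c2]; ring
  exact absurd h1 (not_le.2 (Nat.pow_lt_pow_right hq1 (by norm_num)))

section

variable {K : Type u} [Field K] {σ : K →+* K} {m : ℕ} (hK : HypK σ m)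
variable {U : Type v} [Group U] (T : TF σ U)

include hK

/-- `Z(N3) ≤ Y` -/
theorem mem_Y_of_comm {n : U} (hn : n ∈ T.N3) (h : ∀ a ∈ T.N3, n * a = a * n) : n ∈ T.Y := by
  have hA : n ∈ T.A37 := mem_A37_of_comm hK T hn fun a ha => h a (A37_le_N3 hK T ha)
  have h1 : ∀ x ∈ T.N3, (co T x).a6 * (co T n).a3 + (co T x).b2 * (co T n).a7 = 0 := by
    intro x hx
    have h2 := comm_N3_A37 hK T hx hA
    rw [show x * n * x⁻¹ * n⁻¹ = 1 by rw [← h x hx, mul_inv_cancel_right, mul_inv_cancel], co_one] at h2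
    exact (congrArg Cd.b4 h2).symm
  have k3 := h1 (T.x6 1 0) (X6_le_N3 T (x6_mem T 1 0))
  have k7 := h1 (T.x2 0 1) (Z2_le_N3 T (x2_mem_Z T 1))
  simp only [co_x6, co_x2, e6, e2, one_mul, zero_mul, add_zero, zero_add] at k3 k7
  rw [mem_A37 hK] at hA
  rw [mem_Y hK]
  exact ⟨hA.1, hA.2.1, hA.2.2.1, k3, hA.2.2.2.1, hA.2.2.2.2.1, k7, hA.2.2.2.2.2.1, hA.2.2.2.2.2.2⟩

/-- `C_U(Y) = N3` -/
theorem mem_N3_of_comm {x : U} (h : ∀ y ∈ T.Y, x * y = y * x) : x ∈ T.N3 := by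
  have h1 := congrArg (co T) (h (T.x6 0 1) (Z6_le_Y T (x6_mem_Z T 1)))
  have h2 := congrArg (co T) (h (T.x5 1) (X5_le_Y T (x5_mem T 1)))
  rw [co_mul hK, co_mul hK, co_x6] at h1
  rw [co_mul hK, co_mul hK, co_x5] at h2
  rw [mem_N3 hK]
  generalize co T x = c at h1 h2 ⊢
  have f1 := congrArg Cd.b4 h1
  simp only [mul_b4, e6, mul_one, one_mul, zero_mul, mul_zero, add_zero, zero_add, map_zero, pow_zero, ne_eq,
    OfNat.ofNat_ne_zero, not_false_eq_true, zero_pow, left_eq_add] at f1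
  have f2 := congrArg Cd.b4 h2
  simp only [mul_b4, e5, mul_one, one_mul, zero_mul, mul_zero, add_zero, zero_add, map_zero, pow_zero, ne_eq,
    OfNat.ofNat_ne_zero, not_false_eq_true, zero_pow, left_eq_add, f1] at f2
  have f3 := congrArg Cd.b6 h2
  simp only [mul_b6, e5, mul_one, one_mul, zero_mul, mul_zero, add_zero, zero_add, map_zero, pow_zero, ne_eq,
    OfNat.ofNat_ne_zero, not_false_eq_true, zero_pow, add_eq_left, f1, f2] at f3
  exact ⟨f1, f2, f3⟩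

/-- `[QB, QB] ≤ N3` -/
theorem comm_QB {n n' : U} (hn : n ∈ T.QB) (hn' : n' ∈ T.QB) : n * n' * n⁻¹ * n'⁻¹ ∈ T.N3 := by
  have e : co T (n * n' * n⁻¹ * n'⁻¹ * (n' * n)) = co T (n * n') := by
    congr 1
    group
  rw [co_mul hK T _ (n' * n), co_mul hK T n' n, co_mul hK T n n'] at e
  rw [mem_QB hK] at hn hn'
  rw [mem_N3 hK]
  generalize co T (n * n' * n⁻¹ * n'⁻¹) = z at e ⊢
  generalize co T n = c at e hn
  generalize co T n' = d at e hn'
  have f1 := congrArg Cd.a1 e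
  simp only [mul_a1, hn, hn', zero_mul, mul_zero, add_zero, zero_add, map_zero] at f1
  have f8 := congrArg Cd.a8 e
  simp only [mul_a8, hn, hn', zero_mul, mul_zero, add_zero, zero_add, map_zero] at f8
  replace f8 : z.a8 = 0 := by linear_combination f8
  have f2 := congrArg Cd.a2 e
  simp only [mul_a2, mul_a1, hn, hn', f1, f8, zero_mul, mul_zero, add_zero, zero_add, map_zero] at f2
  replace f2 : z.a2 = 0 := by linear_combination f2
  exact ⟨f1, f2, f8⟩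

/-- `Z4` is central -/
theorem comm_Z4 (x : U) (u : K) : x * T.x4 0 u = T.x4 0 u * x := by
  apply co_injective T
  rw [co_mul hK, co_mul hK, co_x4]
  generalize co T x = c
  ext <;> simp only [mul_a1, mul_a2, mul_b2, mul_a3, mul_a4, mul_b4, mul_a5, mul_a6, mul_b6, mul_a7, mul_a8, mul_b8,
    e4, zero_mul, mul_zero, add_zero, zero_add, map_zero, pow_zero, ne_eq,
    OfNat.ofNat_ne_zero, not_false_eq_true, zero_pow]
  all_goals ring1

end

/-- (C) -/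
theorem essC (hsec : StSecW.{v}) {K : Type u} [Field K] {σ : K →+* K} {m : ℕ}
    (hK : HypK σ m) {U : Type v} [Group U] (T : TF σ U) {Γ : Subgroup (MulAut T.N3)}
    (hE : Ess (⊤ : Subgroup U) T.N3 2 Γ) : False := by
  haveI := finite_U hK T
  haveI := hK.fin
  have hY := Y_le_N3 hK T
  have h2 := hK.two
  have hnorm : ∀ A : Subgroup U, A ≤ normalizerIn ⊤ T.N3 := by
    intro A x _
    haveI := N3_normal hK T
    refine Subgroup.mem_inf.2 ⟨Subgroup.mem_top _, ?_⟩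
    rw [Subgroup.normalizer_eq_top T.N3]
    exact Subgroup.mem_top _
  -- the subgroup `Z4 X5`
  obtain ⟨S, hS⟩ := exists_sub hK T (fun c => c.a1 = 0 ∧ c.a2 = 0 ∧ c.b2 = 0 ∧ c.a3 = 0 ∧ c.a4 = 0 ∧ c.a6 = 0 ∧ c.b6 = 0 ∧
      c.a7 = 0 ∧ c.a8 = 0 ∧ c.b8 = 0) ⟨rfl, rfl, rfl, rfl, rfl, rfl, rfl, rfl, rfl, rfl⟩ (by
    rintro c d ⟨c1, c2, c3, c4, c5, c6, c7, c8, c9, c10⟩ ⟨d1, d2, d3, d4, d5, d6, d7, d8, d9, d10⟩
    refine ⟨?_, ?_, ?_, ?_, ?_, ?_, ?_, ?_, ?_, ?_⟩ <;>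
    simp only [mul_a1, mul_a2, mul_b2, mul_a3, mul_a4, mul_b4, mul_a5, mul_a6, mul_b6, mul_a7, mul_a8, mul_b8,
      c1, c2, c3, c4, c5, c6, c7, c8, c9, c10, d1, d2, d3, d4, d5, d6, d7, d8, d9, d10,
      zero_mul, mul_zero, add_zero, zero_add, map_zero, pow_zero, ne_eq, OfNat.ofNat_ne_zero, not_false_eq_true, zero_pow])
  have hScard : Nat.card S = (2 ^ (2 * m + 1)) ^ 2 := by
    refine card_of_mask hK T ![false, false, false, false, false, true, true, false, false, false, false, false] (by rfl) S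
      fun g => ?_
    rw [hS]
    constructor
    · rintro ⟨z0, z1, z2, z3, z4, z5, z6, z7, z8, z9⟩ i hi
      fin_cases i <;> first | exact z0 | exact z1 | exact z2 | exact z3 | exact z4 | exact z5 | exact z6 | exact z7 | exact z8 | exact z9 | exact absurd hi (by decide)
    · intro h
      exact ⟨h 0 rfl, h 1 rfl, h 2 rfl, h 3 rfl, h 4 rfl, h 7 rfl, h 8 rfl, h 9 rfl, h 10 rfl, h 11 rfl⟩
  have hSY : S ≤ T.Y := by
    intro g hg
    rw [hS] at hg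
    rw [mem_Y hK]
    obtain ⟨z0, z1, z2, z3, z4, z5, z6, z7, z8, z9⟩ := hg
    exact ⟨z0, z1, z2, z3, z4, z5, z7, z8, z9⟩
  have hx1S : ∀ y ∈ S, T.x1 1 * y = y * T.x1 1 := by
    intro y hy
    rw [hS] at hy
    apply co_injective T
    rw [co_mul hK, co_mul hK, co_x1]
    generalize co T y = c at hy ⊢
    obtain ⟨z0, z1, z2, z3, z4, z5, z6, z7, z8, z9⟩ := hy
    ext <;> simp only [mul_a1, mul_a2, mul_b2, mul_a3, mul_a4, mul_b4, mul_a5, mul_a6, mul_b6, mul_a7, mul_a8, mul_b8,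
      e1, z0, z1, z2, z3, z4, z5, z6, z7, z8, z9, zero_mul, mul_zero, add_zero, zero_add, map_zero, pow_zero, ne_eq,
      OfNat.ofNat_ne_zero, not_false_eq_true, zero_pow]
  have hZ4Y : T.Z4 ≤ T.Y := Z4_le_Y T
  have c1 := relc (N3_le_QB hK T)
  have c2 := relc (le_top : T.N3 ≤ ⊤)
  have c3 := relc hZ4Y
  have c4 := relc hSY
  rw [card_N3 hK, card_QB hK] at c1
  rw [card_N3 hK, Subgroup.card_top, card_U hK T] at c2
  rw [card_Z4 hK, card_Y hK] at c3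
  rw [hScard, card_Y hK] at c4
  have hq2 : 2 ≤ 2 ^ (2 * m + 1) := by
    calc 2 = 2 ^ 1 := (pow_one 2).symm
      _ ≤ 2 ^ (2 * m + 1) := Nat.pow_le_pow_right (by norm_num) (by omega)
  set q := 2 ^ (2 * m + 1) with hq
  have hq0 : 0 < q := by omega
  have d1 : T.N3.relIndex T.QB = q ^ 2 := Nat.eq_of_mul_eq_mul_right (pow_pos hq0 9) (by rw [c1]; ring)
  have d2 : T.N3.relIndex ⊤ = q ^ 3 := Nat.eq_of_mul_eq_mul_right (pow_pos hq0 9) (by rw [c2]; ring)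
  have d3 : T.Z4.relIndex T.Y = q ^ 2 := Nat.eq_of_mul_eq_mul_right hq0 (by rw [c3]; ring)
  have d4 : S.relIndex T.Y = q := Nat.eq_of_mul_eq_mul_right (pow_pos hq0 2) (by rw [c4]; ring)
  have hx1 : T.x1 1 ∉ T.N3 := by
    rw [mem_N3 hK, co_x1]
    rintro ⟨h, -⟩
    exact one_ne_zero h
  have hbot : _root_.Cfsg.Agent.H756.PU.Inv Γ (⊥ : Subgroup U) := by
    refine ⟨bot_le, fun γ _ e he => ?_⟩
    have h1 : e = 1 := Subtype.ext (Subgroup.mem_bot.1 he)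
    rw [h1, map_one]
    exact Subgroup.mem_bot.2 rfl
  have hinvY : _root_.Cfsg.Agent.H756.PU.Inv Γ T.Y := by
    refine ⟨hY, fun γ _ e he => ?_⟩
    refine mem_Y_of_comm hK T (γ e).2 fun a ha => ?_
    have h1 : e * γ⁻¹ ⟨a, ha⟩ = γ⁻¹ ⟨a, ha⟩ * e := by
      apply Subtype.ext
      exact (comm_Y hK T (γ⁻¹ ⟨a, ha⟩).2 he).symm
    have h2 := congrArg (fun e : T.N3 => ((γ e : T.N3) : U)) h1
    simp only [map_mul, MulAut.apply_inv_self, Subgroup.coe_mul] at h2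
    exact h2
  have key := hsec hE ⊥ T.Y T.QB ⊤ (Subgroup.zpowers (T.x1 1)) T.Z4 S hbot hinvY bot_le
    (fun x hx y hy => Subgroup.mem_bot.2 (by rw [comm_Y hK T hx hy, mul_inv_cancel_right, mul_inv_cancel]))
    (fun y hy => ?_) (fun x _ hx => mem_N3_of_comm hK T fun y hy => ?_) (hnorm _) (fun x hx y hy => comm_QB hK T hx hy)
    (fun x hx => ?_) (by rw [d1]; nlinarith only [hq2]) (hnorm _) (hnorm _)
    (fun h => hx1 (h (Subgroup.mem_zpowers _))) hZ4Y hSY (fun x _ y hy => ?_) (fun x hx y hy => ?_)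
  · rw [d2, d3, d4] at key
    have h1 : q ^ 3 < q ^ 6 := Nat.pow_lt_pow_right (by omega) (by norm_num)
    have h3 : q ^ 6 ≤ q ^ 3 := by
      calc q ^ 6 = (q ^ 3) ^ 2 := by ring
        _ ≤ q ^ 2 * q := key
        _ = q ^ 3 := by ring
    omega
  · -- squares of elements of `Y`
    rw [Subgroup.mem_bot, sq]
    apply co_injective T
    rw [co_mul hK, co_one]
    rw [mem_Y hK] at hy
    generalize co T y = c at hy ⊢
    obtain ⟨z0, z1, z2, z3, z4, z5, z6, z7, z8⟩ := hy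
    ext <;> simp only [mul_a1, mul_a2, mul_b2, mul_a3, mul_a4, mul_b4, mul_a5, mul_a6, mul_b6, mul_a7, mul_a8, mul_b8,
      z0, z1, z2, z3, z4, z5, z6, z7, z8, zero_mul, mul_zero, add_zero, zero_add, map_zero, pow_zero, ne_eq,
      OfNat.ofNat_ne_zero, not_false_eq_true, zero_pow]
    all_goals grind
  · have h1 := Subgroup.mem_bot.1 (hx y hy)
    rw [mul_inv_eq_one, mul_inv_eq_iff_eq_mul] at h1
    exact h1
  · rw [sq, mem_N3 hK, co_mul hK]
    rw [mem_QB hK] at hx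
    refine ⟨?_, ?_, ?_⟩
    · rw [mul_a1, hx, add_zero]
    · rw [mul_a2, hx]; linear_combination (co T x).a2 * h2
    · rw [mul_a8]; linear_combination (co T x).a8 * h2
  · obtain ⟨u, rfl⟩ := (mem_Z4 hK T).1 hy
    rw [comm_Z4 hK T x u, mul_inv_cancel_right, mul_inv_cancel]
    exact Subgroup.mem_bot.2 rfl
  · obtain ⟨k, rfl⟩ := Subgroup.mem_zpowers_iff.1 hx
    have h1 : Commute (T.x1 1) y := hx1S y hy
    have h3 := (h1.zpow_left k).eq
    rw [h3, mul_inv_cancel_right, mul_inv_cancel]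
    exact Subgroup.mem_bot.2 rfl

/-- (B), helper587 -/
def StEssB : Prop :=
  ∀ {K : Type u} [Field K] {σ : K →+* K} {m : ℕ}, HypK σ m → ∀ {U : Type v} [Group U] (T : TF σ U)
    {R : Subgroup U} {Γ : Subgroup (MulAut R)}, Ess (⊤ : Subgroup U) R 2 Γ → T.Y ≤ R → R ≤ T.N3 → ¬ T.A37 ≤ R → False

theorem stEss3_of (hp2 : StP2.{v}) (hhull : StHull.{v}) (hphi : StPhi.{v}) (hsec : StSecW.{v}) (hB : StEssB.{u, v}) :
    StEss3.{u, v} := by
  intro K _ σ m hK U _ T R Γ hE hY hN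
  by_cases hA : T.A37 ≤ R
  · by_cases h : R = T.N3
    · subst h
      exact essC hsec hK T hE
    · exact essA hp2 hhull hphi hK T hE hA hN h
  · exact hB hK T hE hY hN hA

end Cfsg.Agent.H752.TF
end

-- part: H752/TF/Inv
section
/-!
# S5262 (INV), (ORD): involutions of `U` (helper752)
-/

set_option autoImplicit false
set_option linter.unusedVariables false
set_option linter.unusedSimpArgs false

namespace Cfsg.Agent.H752.TF

open Cfsg Cfsg.FusionSystem Cfsg.Agent.Octagon.Pkg Cfsg.Agent.H745.TF Cfsg.Agent.H756.PU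

universe u v

/-- (ORD) -/
theorem stOrd : StOrd.{u, v} := by
  intro K _ σ m hK U _ T g hg hgQ
  have h2 := hK.two
  have h := congrArg (co T) hg
  rw [co_mul hK, co_one] at h
  rw [mem_QB hK] at hgQ
  rw [mem_N3 hK]
  generalize co T g = c at h hgQ ⊢
  have f1 := congrArg Cd.b2 h
  have f2 := congrArg Cd.b8 h
  rw [mul_b2, hgQ] at f1
  rw [mul_b8] at f2
  simp only [zero_mul, mul_zero, map_zero, add_zero] at f1 f2
  have f3 : c.a2 * σ c.a2 = 0 := by linear_combination f1 - c.b2 * h2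
  have f4 : c.a8 * σ c.a8 = 0 := by linear_combination f2 - c.b8 * h2
  have hz : ∀ x : K, x * σ x = 0 → x = 0 := by
    intro x hx
    rcases mul_eq_zero.1 hx with h | h
    · exact h
    · exact (map_eq_zero σ).1 h
  exact ⟨hgQ, hz _ f3, hz _ f4⟩

section

variable {K : Type u} [Field K] {σ : K →+* K} {m : ℕ} (hK : HypK σ m)
variable {U : Type v} [Group U] (T : TF σ U)

include hK

/-- conjugation by `x8` kills `a2`, `a6` -/
theorem inv_step1 {g : U} (h8 : (co T g).a8 = 0) (h8' : (co T g).b8 = 0) (h1 : (co T g).a1 ≠ 0) :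
    ∃ z : U, (co T (z * g * z⁻¹)).a1 = (co T g).a1 ∧ (co T (z * g * z⁻¹)).a2 = 0 ∧ (co T (z * g * z⁻¹)).a6 = 0 ∧
      (co T (z * g * z⁻¹)).a8 = 0 ∧ (co T (z * g * z⁻¹)).b8 = 0 := by
  have h2 := hK.two
  set k := (co T g).a2 / (co T g).a1 with hk
  set v := ((co T g).a6 + (co T g).a2 * σ k + k * σ k * (co T g).a1) / (co T g).a1 with hv
  have hk' : k * (co T g).a1 = (co T g).a2 := div_mul_cancel₀ _ h1
  have hv' : v * (co T g).a1 = (co T g).a6 + (co T g).a2 * σ k + k * σ k * (co T g).a1 := div_mul_cancel₀ _ h1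
  clear_value k v
  refine ⟨T.x8 k v, ?_⟩
  have e : co T (T.x8 k v * g * (T.x8 k v)⁻¹ * T.x8 k v) = co T (T.x8 k v * g) := by rw [inv_mul_cancel_right]
  rw [co_mul hK T _ (T.x8 k v), co_mul hK T (T.x8 k v) g, co_x8] at e
  generalize co T (T.x8 k v * g * (T.x8 k v)⁻¹) = h at e ⊢
  generalize co T g = c at h8 h8' h1 hk' hv' e ⊢
  have f1 := congrArg Cd.a1 e
  rw [mul_a1, mul_a1] at f1
  simp only [e8, add_zero, zero_add] at f1
  have f8 := congrArg Cd.a8 e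
  rw [mul_a8, mul_a8] at f8
  simp only [e8, h8, add_zero, zero_add, add_eq_right] at f8
  have g8 := congrArg Cd.b8 e
  rw [mul_b8, mul_b8] at g8
  simp only [e8, h8, h8', f8, map_zero, mul_zero, zero_mul, add_zero, zero_add, add_eq_right] at g8
  have f2 := congrArg Cd.a2 e
  rw [mul_a2, mul_a2] at f2
  simp only [e8, f8, mul_zero, zero_mul, add_zero, zero_add] at f2
  have f6 := congrArg Cd.a6 e
  rw [mul_a6, mul_a6] at f6
  simp only [e8, f8, g8, mul_zero, zero_mul, add_zero, zero_add, map_zero] at f6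
  refine ⟨f1, ?_, ?_, f8, g8⟩
  · rw [f2, hk']; linear_combination c.a2 * h2
  · rw [f6, hv']; linear_combination (c.a6 + c.a2 * σ k + k * σ k * c.a1) * h2

/-- an involution outside `QB` with `a2 = a6 = a8 = 0` is conjugate to `x1 t` -/
theorem inv_step2 {g : U} (hg : g * g = 1) (h1 : (co T g).a1 ≠ 0) (h2' : (co T g).a2 = 0) (h6 : (co T g).a6 = 0)
    (h8 : (co T g).a8 = 0) (h8' : (co T g).b8 = 0) : ∃ y : U, y * g * y⁻¹ = T.x1 (co T g).a1 := by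
  have h2 := hK.two
  haveI := hK.fin
  have hs : Function.Surjective σ := Finite.surjective_of_injective σ.injective
  have e := congrArg (co T) hg
  rw [co_mul hK, co_one] at e
  have key : ∃ c : Cd K, T.el c * g = T.x1 (co T g).a1 * T.el c := by
    have hgel := el_co T g
    generalize co T g = c at h1 h2' h6 h8 h8' e hgel ⊢
    have hσ : σ c.a1 ≠ 0 := (map_ne_zero σ).2 h1
    have f4 := congrArg Cd.b2 e
    rw [mul_b2] at f4
    simp only [h2', h6, h8, h8', mul_zero, zero_mul, add_zero, map_zero] at f4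
    replace f4 : c.a4 = 0 := by
      have : c.a4 * c.a1 = 0 := by linear_combination f4 - c.b2 * h2
      exact (mul_eq_zero.1 this).resolve_right h1
    have f7 := congrArg Cd.a3 e
    rw [mul_a3] at f7
    simp only [h2', h6, h8, h8', f4, mul_zero, zero_mul, add_zero, map_zero] at f7
    replace f7 : c.a7 = 0 := by
      have : c.a7 * σ c.a1 = 0 := by linear_combination f7 - c.a3 * h2
      exact (mul_eq_zero.1 this).resolve_right hσ
    have g6 := congrArg Cd.b4 e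
    rw [mul_b4] at g6
    simp only [h2', h6, h8, h8', f4, f7, mul_zero, zero_mul, add_zero, map_zero, zero_pow, ne_eq, OfNat.ofNat_ne_zero,
      not_false_eq_true] at g6
    replace g6 : c.b6 = 0 := by
      have : c.b6 * c.a1 = 0 := by linear_combination g6 - c.b4 * h2
      exact (mul_eq_zero.1 this).resolve_right h1
    obtain ⟨s, hs1⟩ := hs (c.a5 / c.a1)
    obtain ⟨q, hq1⟩ := hs ((c.a3 + s * σ c.a1) / c.a1)
    obtain ⟨p, hp1⟩ : ∃ p, p = (c.b2 + q * σ c.a1) / c.a1 := ⟨_, rfl⟩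
    obtain ⟨w, hw1⟩ : ∃ w, w = (c.b4 + c.a3 * q + c.b2 * s + q * s * σ c.a1) / c.a1 := ⟨_, rfl⟩
    have hs2 : σ s * c.a1 = c.a5 := by rw [hs1, div_mul_cancel₀ _ h1]
    have hq2 : σ q * c.a1 = c.a3 + s * σ c.a1 := by rw [hq1, div_mul_cancel₀ _ h1]
    have hp2 : p * c.a1 = c.b2 + q * σ c.a1 := by rw [hp1, div_mul_cancel₀ _ h1]
    have hw2 : w * c.a1 = c.b4 + c.a3 * q + c.b2 * s + q * s * σ c.a1 := by rw [hw1, div_mul_cancel₀ _ h1]
    clear hs1 hq1 hp1 hw1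
    refine ⟨⟨0, 0, 0, 0, p, 0, 0, q, w, s, 0, 0⟩, ?_⟩
    rw [← hgel, ← el_e1, H181.TF.el_mul T hK.two hK.sq, H181.TF.el_mul T hK.two hK.sq]
    congr 1
    ext <;> simp only [mul_a1, mul_a2, mul_b2, mul_a3, mul_a4, mul_b4, mul_a5, mul_a6, mul_b6, mul_a7, mul_a8, mul_b8,
      e1, h2', h6, h8, h8', f4, f7, g6, zero_mul, mul_zero, add_zero, zero_add, map_zero, pow_zero, ne_eq,
      OfNat.ofNat_ne_zero, not_false_eq_true, zero_pow]
    all_goals grind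
  obtain ⟨c, hc⟩ := key
  exact ⟨T.el c, by rw [hc, mul_inv_cancel_right]⟩

end

/-- (INV) -/
theorem stInv : StInv.{u, v} := by
  intro K _ σ m hK U _ T g hg hgQ
  have h2 := hK.two
  rw [mem_QB hK] at hgQ
  have e := congrArg (co T) hg
  rw [co_mul hK, co_one] at e
  have h8 : (co T g).a8 = 0 := by
    have f := congrArg Cd.b8 e
    rw [mul_b8] at f
    simp only at f
    have f4 : (co T g).a8 * σ (co T g).a8 = 0 := by linear_combination f - (co T g).b8 * h2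
    rcases mul_eq_zero.1 f4 with h | h
    · exact h
    · exact (map_eq_zero σ).1 h
  have h8' : (co T g).b8 = 0 := by
    have f := congrArg Cd.a6 e
    rw [mul_a6, h8] at f
    simp only [map_zero, zero_mul, add_zero] at f
    have f4 : (co T g).b8 * (co T g).a1 = 0 := by linear_combination f - (co T g).a6 * h2
    exact (mul_eq_zero.1 f4).resolve_right hgQ
  obtain ⟨z, z1, z2, z6, z8, z8'⟩ := inv_step1 hK T h8 h8' hgQ
  have hz : z * g * z⁻¹ * (z * g * z⁻¹) = 1 := by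
    have : z * g * z⁻¹ * (z * g * z⁻¹) = z * (g * g) * z⁻¹ := by group
    rw [this, hg, mul_one, mul_inv_cancel]
  obtain ⟨y, hy⟩ := inv_step2 hK T hz (by rw [z1]; exact hgQ) z2 z6 z8 z8'
  refine ⟨y * z, (co T g).a1, hgQ, ?_⟩
  rw [z1] at hy
  rw [← hy]
  group

end Cfsg.Agent.H752.TF
end
end

-- part: H805/TF/Iso
section
set_option linter.all false

/-!
# S5262: StIso, and automorphisms from twisted families (helper805)
-/

set_option autoImplicit false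

namespace Cfsg.Agent.H805.TF

open Cfsg.Agent.Octagon.Pkg Cfsg.Agent.H745.TF

universe u v w

variable {K : Type u} [Field K] {σ : K →+* K} {U : Type v} [Group U] (T : TF σ U) {H : Type w} [Group H]

/-- two homomorphisms which agree on the root elements are equal -/
theorem hom_ext {φ ψ : U →* H} (h1 : ∀ t, φ (T.x1 t) = ψ (T.x1 t)) (h2 : ∀ p u, φ (T.x2 p u) = ψ (T.x2 p u))
    (h3 : ∀ t, φ (T.x3 t) = ψ (T.x3 t)) (h4 : ∀ p u, φ (T.x4 p u) = ψ (T.x4 p u)) (h5 : ∀ t, φ (T.x5 t) = ψ (T.x5 t))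
    (h6 : ∀ p u, φ (T.x6 p u) = ψ (T.x6 p u)) (h7 : ∀ t, φ (T.x7 t) = ψ (T.x7 t))
    (h8 : ∀ p u, φ (T.x8 p u) = ψ (T.x8 p u)) : φ = ψ := by
  ext g
  obtain ⟨c, rfl⟩ := T.bij.2 g
  simp only [map_mul, h1, h2, h3, h4, h5, h6, h7, h8]

theorem stIso : Cfsg.Agent.H745.TF.StIso.{u, v, w} := by
  intro K _ σ m hK U U' _ _ T T'
  obtain ⟨φ, a1, a2, a3, a4, a5, a6, a7, a8⟩ := Cfsg.Agent.H659.TF.ump T T'.rel
  obtain ⟨ψ, b1, b2, b3, b4, b5, b6, b7, b8⟩ := Cfsg.Agent.H659.TF.ump T' T.rel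
  have h1 : ψ.comp φ = MonoidHom.id U := hom_ext T (by simp [a1, b1]) (by simp [a2, b2]) (by simp [a3, b3])
    (by simp [a4, b4]) (by simp [a5, b5]) (by simp [a6, b6]) (by simp [a7, b7]) (by simp [a8, b8])
  have h2 : φ.comp ψ = MonoidHom.id U' := hom_ext T' (by simp [a1, b1]) (by simp [a2, b2]) (by simp [a3, b3])
    (by simp [a4, b4]) (by simp [a5, b5]) (by simp [a6, b6]) (by simp [a7, b7]) (by simp [a8, b8])
  refine ⟨MonoidHom.toMulEquiv φ ψ h1 h2, ?_⟩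
  exact ⟨a1, a2, a3, a4, a5, a6, a7, a8⟩

end Cfsg.Agent.H805.TF
end

-- part: H240/TF/QBc
section
set_option linter.all false
open scoped Cfsg.Agent.FastGrp

/-!
# S5262 (ESS4a, ESS4b): commutators in `QB` in coordinates (helper240)
-/

set_option autoImplicit false
set_option linter.unusedVariables false
set_option linter.unusedSimpArgs false

namespace Cfsg.Agent.H240.TF

open Cfsg Cfsg.FusionSystem Cfsg.Agent.Octagon.Pkg Cfsg.Agent.H745.TF Cfsg.Agent.H756.PU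
open Cfsg.Agent.H752.TF

universe u v

variable {K : Type u} [Field K] {σ : K →+* K} {m : ℕ} (hK : HypK σ m)
variable {U : Type v} [Group U] (T : TF σ U)

include hK

attribute [-instance] instNoNatZeroDivisorsOfIsAddTorsionFree instIsCharPOfIsLeftCancelAddOfCharP in
/-- `[w, x5(s)] = z4(ps) z6(ks)` -/
theorem co_QB_Y {w y : U} (hw : w ∈ T.QB) (hy : y ∈ T.Y) :
    co T (w * y * w⁻¹ * y⁻¹) =
      ⟨0, 0, 0, 0, 0, (co T w).a2 * (co T y).a5, 0, 0, (co T w).a8 * (co T y).a5, 0, 0, 0⟩ := by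
  apply co_comm hK
  rw [mem_QB hK] at hw
  rw [mem_Y hK] at hy
  have h2 := hK.two
  generalize co T w = c at hw ⊢
  generalize co T y = d at hy ⊢
  obtain ⟨d1, d2, d3, d4, d5, d6, d7, d8, d9⟩ := hy
  ext <;> simp only [mul_a1, mul_a2, mul_b2, mul_a3, mul_a4, mul_b4, mul_a5, mul_a6, mul_b6, mul_a7, mul_a8, mul_b8,
    hw, d1, d2, d3, d4, d5, d6, d7, d8, d9, zero_mul, mul_zero, add_zero, zero_add, map_zero, pow_zero, ne_eq,
    OfNat.ofNat_ne_zero, not_false_eq_true, zero_pow]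
  all_goals first | ring1 | grobner

/-- `V` is central in `QB` -/
theorem comm_QB_V {w v : U} (hw : w ∈ T.QB) (hv : v ∈ T.V) : w * v = v * w := by
  have h1 := co_QB_Y hK T hw (V_le_Y hK T hv)
  rw [mem_V hK] at hv
  rw [hv.2.2.2.2.2.1, mul_zero, mul_zero] at h1
  have h2 : w * v * w⁻¹ * v⁻¹ = 1 := co_injective T (by rw [h1, co_one])
  rw [mul_inv_eq_one, mul_inv_eq_iff_eq_mul] at h2
  exact h2

/-- `[QB, A37] ≤ Y`, with the `x5`-coordinate -/
theorem comm_QB_A37 {w a : U} (hw : w ∈ T.QB) (ha : a ∈ T.A37) :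
    w * a * w⁻¹ * a⁻¹ ∈ T.Y ∧
      (co T (w * a * w⁻¹ * a⁻¹)).a5 = σ (co T w).a8 * (co T a).a3 + (co T a).a7 * σ (co T w).a2 := by
  have h2 := hK.two
  have e : co T (w * a * w⁻¹ * a⁻¹ * (a * w)) = co T (w * a) := by
    congr 1
    group
  rw [co_mul hK T _ (a * w), co_mul hK T a w, co_mul hK T w a] at e
  rw [mem_QB hK] at hw
  rw [mem_A37 hK] at ha
  rw [mem_Y hK]
  generalize co T (w * a * w⁻¹ * a⁻¹) = z at e ⊢
  generalize co T w = c at e hw ⊢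
  generalize co T a = d at e ha ⊢
  obtain ⟨d1, d2, d3, d4, d6, d8, d9⟩ := ha
  have f1 := congrArg Cd.a1 e
  simp only [mul_a1, hw, d1, d2, d3, d4, d6, d8, d9, zero_mul, mul_zero, add_zero, zero_add, map_zero] at f1
  have f8 := congrArg Cd.a8 e
  simp only [mul_a8, hw, d1, d2, d3, d4, d6, d8, d9, zero_mul, mul_zero, add_zero, zero_add, map_zero] at f8
  replace f8 : z.a8 = 0 := by linear_combination f8
  have g8 := congrArg Cd.b8 e
  simp only [mul_b8, mul_a8, hw, d1, d2, d3, d4, d6, d8, d9, f1, f8, zero_mul, mul_zero, add_zero, zero_add, map_zero] at g8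
  replace g8 : z.b8 = 0 := by linear_combination g8
  have f2 := congrArg Cd.a2 e
  simp only [mul_a2, mul_a1, hw, d1, d2, d3, d4, d6, d8, d9, f1, f8, g8, zero_mul, mul_zero, add_zero, zero_add, map_zero] at f2
  replace f2 : z.a2 = 0 := by linear_combination f2
  have f4 := congrArg Cd.a4 e
  simp only [mul_a4, mul_a2, mul_a1, hw, d1, d2, d3, d4, d6, d8, d9, f1, f8, g8, f2, zero_mul, mul_zero, add_zero, zero_add,
    map_zero] at f4
  replace f4 : z.a4 = 0 := by linear_combination f4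
  have f6 := congrArg Cd.a6 e
  simp only [mul_a6, mul_a4, mul_a2, mul_a1, hw, d1, d2, d3, d4, d6, d8, d9, f1, f8, g8, f2, f4, zero_mul, mul_zero, add_zero,
    zero_add, map_zero] at f6
  replace f6 : z.a6 = 0 := by linear_combination f6
  have f7 := congrArg Cd.a7 e
  simp only [mul_a7, mul_a6, mul_a4, mul_a2, mul_a1, hw, d1, d2, d3, d4, d6, d8, d9, f1, f8, g8, f2, f4, f6, zero_mul, mul_zero,
    add_zero, zero_add, map_zero, pow_zero, ne_eq, OfNat.ofNat_ne_zero, not_false_eq_true, zero_pow] at f7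
  replace f7 : z.a7 = 0 := by linear_combination f7
  have g2 := congrArg Cd.b2 e
  simp only [mul_b2, mul_a6, mul_a4, mul_a2, mul_a1, hw, d1, d2, d3, d4, d6, d8, d9, f1, f8, g8, f2, f4, f6, f7, zero_mul,
    mul_zero, add_zero, zero_add, map_zero, pow_zero, ne_eq, OfNat.ofNat_ne_zero, not_false_eq_true, zero_pow] at g2
  replace g2 : z.b2 = 0 := by linear_combination g2
  have f3 := congrArg Cd.a3 e
  simp only [mul_a3, mul_b2, mul_a6, mul_a4, mul_a2, mul_a1, hw, d1, d2, d3, d4, d6, d8, d9, f1, f8, g8, f2, f4, f6, f7, g2,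
    zero_mul, mul_zero, add_zero, zero_add, map_zero, pow_zero, ne_eq, OfNat.ofNat_ne_zero, not_false_eq_true, zero_pow] at f3
  replace f3 : z.a3 = 0 := by linear_combination f3
  have f5 := congrArg Cd.a5 e
  simp only [mul_a5, mul_a3, mul_b2, mul_a6, mul_a4, mul_a2, mul_a1, hw, d1, d2, d3, d4, d6, d8, d9, f1, f8, g8, f2, f4, f6, f7,
    g2, f3, zero_mul, mul_zero, add_zero, zero_add, map_zero, pow_zero, ne_eq, OfNat.ofNat_ne_zero, not_false_eq_true,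
    zero_pow] at f5
  refine ⟨⟨f1, f2, g2, f3, f4, f6, f7, f8, g8⟩, ?_⟩
  linear_combination f5 - d.a7 * σ c.a2 * h2

/-- `[A37, QB] ≤ Y` -/
theorem comm_A37_QB {a w : U} (ha : a ∈ T.A37) (hw : w ∈ T.QB) : a * w * a⁻¹ * w⁻¹ ∈ T.Y := by
  have h1 := T.Y.inv_mem (comm_QB_A37 hK T hw ha).1
  have h2 : (w * a * w⁻¹ * a⁻¹)⁻¹ = a * w * a⁻¹ * w⁻¹ := by group
  rwa [h2] at h1

/-- `[N3, QB] ≤ A37`, with the coordinates modulo `Y` -/
theorem comm_N3_QB {n w : U} (hn : n ∈ T.N3) (hw : w ∈ T.QB) :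
    n * w * n⁻¹ * w⁻¹ ∈ T.A37 ∧
      (co T (n * w * n⁻¹ * w⁻¹)).a3 = (co T n).a4 * (co T w).a2 + (co T w).a8 * (co T n).b2 ∧
      (co T (n * w * n⁻¹ * w⁻¹)).a7 = (co T n).b8 * (co T w).a2 + (co T w).a8 * (co T n).a6 := by
  have h2 := hK.two
  have e : co T (n * w * n⁻¹ * w⁻¹ * (w * n)) = co T (n * w) := by
    congr 1
    group
  rw [co_mul hK T _ (w * n), co_mul hK T w n, co_mul hK T n w] at e
  rw [mem_N3 hK] at hn
  rw [mem_QB hK] at hw
  rw [mem_A37 hK]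
  generalize co T (n * w * n⁻¹ * w⁻¹) = z at e ⊢
  generalize co T n = c at e hn ⊢
  generalize co T w = d at e hw ⊢
  obtain ⟨c1, c2, c8⟩ := hn
  have f1 := congrArg Cd.a1 e
  simp only [mul_a1, hw, c1, c2, c8, zero_mul, mul_zero, add_zero, zero_add, map_zero] at f1
  have f8 := congrArg Cd.a8 e
  simp only [mul_a8, hw, c1, c2, c8, zero_mul, mul_zero, add_zero, zero_add, map_zero] at f8
  replace f8 : z.a8 = 0 := by linear_combination f8
  have g8 := congrArg Cd.b8 e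
  simp only [mul_b8, mul_a8, hw, c1, c2, c8, f1, f8, zero_mul, mul_zero, add_zero, zero_add, map_zero] at g8
  replace g8 : z.b8 = 0 := by linear_combination g8
  have f2 := congrArg Cd.a2 e
  simp only [mul_a2, mul_a1, hw, c1, c2, c8, f1, f8, g8, zero_mul, mul_zero, add_zero, zero_add, map_zero] at f2
  replace f2 : z.a2 = 0 := by linear_combination f2
  have f4 := congrArg Cd.a4 e
  simp only [mul_a4, mul_a2, mul_a1, hw, c1, c2, c8, f1, f8, g8, f2, zero_mul, mul_zero, add_zero, zero_add, map_zero] at f4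
  replace f4 : z.a4 = 0 := by linear_combination f4
  have f6 := congrArg Cd.a6 e
  simp only [mul_a6, mul_a4, mul_a2, mul_a1, hw, c1, c2, c8, f1, f8, g8, f2, f4, zero_mul, mul_zero, add_zero, zero_add,
    map_zero] at f6
  replace f6 : z.a6 = 0 := by linear_combination f6
  have g2 := congrArg Cd.b2 e
  simp only [mul_b2, mul_a6, mul_a4, mul_a2, mul_a1, hw, c1, c2, c8, f1, f8, g8, f2, f4, f6, zero_mul, mul_zero, add_zero,
    zero_add, map_zero, pow_zero, ne_eq, OfNat.ofNat_ne_zero, not_false_eq_true, zero_pow] at g2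
  replace g2 : z.b2 = 0 := by linear_combination g2
  have f7 := congrArg Cd.a7 e
  simp only [mul_a7, mul_a6, mul_a4, mul_a2, mul_a1, hw, c1, c2, c8, f1, f8, g8, f2, f4, f6, g2, zero_mul, mul_zero, add_zero,
    zero_add, map_zero, pow_zero, ne_eq, OfNat.ofNat_ne_zero, not_false_eq_true, zero_pow] at f7
  replace f7 : z.a7 = c.b8 * d.a2 + d.a8 * c.a6 := by linear_combination f7 - d.a8 * c.a6 * h2
  have f3 := congrArg Cd.a3 e
  simp only [mul_a3, mul_b2, mul_a6, mul_a4, mul_a2, mul_a1, hw, c1, c2, c8, f1, f8, g8, f2, f4, f6, g2, zero_mul, mul_zero,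
    add_zero, zero_add, map_zero, pow_zero, ne_eq, OfNat.ofNat_ne_zero, not_false_eq_true, zero_pow] at f3
  replace f3 : z.a3 = c.a4 * d.a2 + d.a8 * c.b2 := by linear_combination f3 - d.a8 * c.b2 * h2
  exact ⟨⟨f1, f2, g2, f4, f6, f8, g8⟩, f3, f7⟩

/-- `A37` is abelian -/
theorem comm_A37 {a b : U} (ha : a ∈ T.A37) (hb : b ∈ T.A37) : a * b * a⁻¹ * b⁻¹ = 1 := by
  apply co_injective T
  rw [comm_N3_A37 hK T (A37_le_N3 hK T ha) hb, co_one]
  rw [mem_A37 hK] at ha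
  obtain ⟨d1, d2, d3, d4, d6, d8, d9⟩ := ha
  simp only [d3, d4, d6, d9, zero_mul, add_zero]

attribute [-instance] instNoNatZeroDivisorsOfIsAddTorsionFree instIsCharPOfIsLeftCancelAddOfCharP in
/-- `A37` has exponent 2 -/
theorem sq_A37 {a : U} (ha : a ∈ T.A37) : a * a = 1 := by
  have h2 := hK.two
  apply co_injective T
  rw [co_mul hK, co_one]
  rw [mem_A37 hK] at ha
  generalize co T a = c at ha ⊢
  obtain ⟨d1, d2, d3, d4, d6, d8, d9⟩ := ha
  ext <;> simp only [mul_a1, mul_a2, mul_b2, mul_a3, mul_a4, mul_b4, mul_a5, mul_a6, mul_b6, mul_a7, mul_a8, mul_b8,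
    d1, d2, d3, d4, d6, d8, d9, zero_mul, mul_zero, add_zero, zero_add, map_zero, pow_zero, ne_eq,
    OfNat.ofNat_ne_zero, not_false_eq_true, zero_pow]
  all_goals grobner

attribute [-instance] instNoNatZeroDivisorsOfIsAddTorsionFree instIsCharPOfIsLeftCancelAddOfCharP in
/-- `[N_L, y] ≤ Z4`, first case -/
theorem comm_Z4_case {n y : U} (hn : n ∈ T.N3) (hy : y ∈ T.N3) (n4 : (co T n).a4 = 0) (n8 : (co T n).b8 = 0)
    (y4 : (co T y).a4 = 0) (y6 : (co T y).a6 = 0) (y8 : (co T y).b8 = 0) :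
    n * y * n⁻¹ * y⁻¹ ∈ T.Z4 := by
  rw [mem_Z4 hK]
  refine ⟨(co T n).a6 * (co T y).a3 + (co T n).a7 * (co T y).b2 + (co T y).a7 * (co T n).b2, ?_⟩
  apply co_injective T
  rw [co_x4]
  apply co_comm hK
  rw [mem_N3 hK] at hn hy
  have h2 := hK.two
  generalize co T n = c at hn n4 n8 ⊢
  generalize co T y = d at hy y4 y6 y8 ⊢
  obtain ⟨c1, c2, c8⟩ := hn
  obtain ⟨d1, d2, d8⟩ := hy
  ext <;> simp only [e4, mul_a1, mul_a2, mul_b2, mul_a3, mul_a4, mul_b4, mul_a5, mul_a6, mul_b6, mul_a7, mul_a8, mul_b8,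
    c1, c2, c8, d1, d2, d8, n4, n8, y4, y6, y8, zero_mul, mul_zero, add_zero, zero_add, map_zero, pow_zero, ne_eq,
    OfNat.ofNat_ne_zero, not_false_eq_true, zero_pow]
  all_goals first | ring1 | grobner

attribute [-instance] instNoNatZeroDivisorsOfIsAddTorsionFree instIsCharPOfIsLeftCancelAddOfCharP in
/-- `[N_L, y] ≤ Z6`, second case -/
theorem comm_Z6_case {n y : U} (hn : n ∈ T.N3) (hy : y ∈ T.N3) (n2 : (co T n).b2 = 0) (n6 : (co T n).a6 = 0)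
    (y2 : (co T y).b2 = 0) (y4 : (co T y).a4 = 0) (y6 : (co T y).a6 = 0) :
    n * y * n⁻¹ * y⁻¹ ∈ T.Z6 := by
  rw [mem_Z6 hK]
  refine ⟨(co T n).b8 * (co T y).a3 + (co T y).a7 * (co T n).a4 + (co T y).b8 * (co T n).a3, ?_⟩
  apply co_injective T
  rw [co_x6]
  apply co_comm hK
  rw [mem_N3 hK] at hn hy
  have h2 := hK.two
  generalize co T n = c at hn n2 n6 ⊢
  generalize co T y = d at hy y2 y4 y6 ⊢
  obtain ⟨c1, c2, c8⟩ := hn
  obtain ⟨d1, d2, d8⟩ := hy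
  ext <;> simp only [e6, mul_a1, mul_a2, mul_b2, mul_a3, mul_a4, mul_b4, mul_a5, mul_a6, mul_b6, mul_a7, mul_a8, mul_b8,
    c1, c2, c8, d1, d2, d8, n2, n6, y2, y4, y6, zero_mul, mul_zero, add_zero, zero_add, map_zero, pow_zero, ne_eq,
    OfNat.ofNat_ne_zero, not_false_eq_true, zero_pow]
  all_goals first | ring1 | grobner

end Cfsg.Agent.H240.TF
end

-- part: H659/TF/PosA
section
prune_inst 0x20104000202200000818008401001c2292000090000800018060070006810c0024450821b2b0211008880e5468380040011000900260000000000800011d00800000000080480000200080000000000000000000000000000000000000000004000000000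
set_option linter.all false
open scoped Cfsg.Agent.FastGrp

-- part: H659/TF/Heis
section
/-!
# S5262, StPos: the quotient `X1 X2/Z2 X8/Z8` of `U`, and quotients where `X2, X4, X6` are central (helper659)
-/

set_option autoImplicit false

namespace Cfsg.Agent.H659.TF

open Cfsg.Agent.Octagon.Pkg Cfsg.Agent.H745.TF

universe u v w

/-- the Heisenberg group: `x1 t · x2 p · x8 q` -/
@[ext] structure H3 (K : Type u) where
  t : K
  p : K
  q : K

namespace H3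

variable {K : Type u} [Field K]

instance : Mul (H3 K) := ⟨fun x y => ⟨x.t + y.t, x.p + y.p + x.q * y.t, x.q + y.q⟩⟩
instance : One (H3 K) := ⟨⟨0, 0, 0⟩⟩
instance : Inv (H3 K) := ⟨fun x => ⟨-x.t, -x.p + x.q * x.t, -x.q⟩⟩

@[simp] theorem mul_t (x y : H3 K) : (x * y).t = x.t + y.t := rfl
@[simp] theorem mul_p (x y : H3 K) : (x * y).p = x.p + y.p + x.q * y.t := rfl
@[simp] theorem mul_q (x y : H3 K) : (x * y).q = x.q + y.q := rfl
@[simp] theorem one_t : (1 : H3 K).t = 0 := rfl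
@[simp] theorem one_p : (1 : H3 K).p = 0 := rfl
@[simp] theorem one_q : (1 : H3 K).q = 0 := rfl
@[simp] theorem inv_t (x : H3 K) : (x⁻¹).t = -x.t := rfl
@[simp] theorem inv_p (x : H3 K) : (x⁻¹).p = -x.p + x.q * x.t := rfl
@[simp] theorem inv_q (x : H3 K) : (x⁻¹).q = -x.q := rfl

instance : Group (H3 K) where
  mul_assoc x y z := by ext <;> simp <;> ring
  one_mul x := by ext <;> simp
  mul_one x := by ext <;> simp
  inv_mul_cancel x := by ext <;> simp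

end H3

section

variable {K : Type u} [Field K] {σ : K →+* K} {U : Type v} [Group U]

/-- **The projection onto `X1 X2/Z2 X8/Z8`.** -/
theorem exists_pi (T : TF σ U) (h2 : (2 : K) = 0) :
    ∃ φ : U →* H3 K, (∀ t, φ (T.x1 t) = ⟨t, 0, 0⟩) ∧ (∀ p u, φ (T.x2 p u) = ⟨0, p, 0⟩) ∧ (∀ t, φ (T.x3 t) = 1) ∧
      (∀ p u, φ (T.x4 p u) = 1) ∧ (∀ t, φ (T.x5 t) = 1) ∧ (∀ p u, φ (T.x6 p u) = 1) ∧
      (∀ t, φ (T.x7 t) = 1) ∧ (∀ p u, φ (T.x8 p u) = ⟨0, 0, p⟩) := by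
  refine ump T (H := H3 K) (y1 := fun t => ⟨t, 0, 0⟩) (y2 := fun p _ => ⟨0, p, 0⟩) (y3 := fun _ => 1) (y4 := fun _ _ => 1)
    (y5 := fun _ => 1) (y6 := fun _ _ => 1) (y7 := fun _ => 1) (y8 := fun p _ => ⟨0, 0, p⟩)
    { m1 := ?_, m3 := ?_, m5 := ?_, m7 := ?_, m2 := ?_, m4 := ?_, m6 := ?_, m8 := ?_, r12 := ?_, r13 := ?_, r14 := ?_,
      r15 := ?_, r16 := ?_, r17 := ?_, r18 := ?_, r23 := ?_, r24 := ?_, r25 := ?_, r26 := ?_, r27 := ?_, r28 := ?_,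
      r34 := ?_, r35 := ?_, r36 := ?_, r37 := ?_, r38 := ?_, r45 := ?_, r46 := ?_, r47 := ?_, r48 := ?_, r56 := ?_,
      r57 := ?_, r58 := ?_, r67 := ?_, r68 := ?_, r78 := ?_ }
  case refine_15 =>
    intro t q v
    ext
    · simp
    · simp
      linear_combination (-(q * t)) * h2
    · simp
  all_goals
    intros
    ext <;> simp

/-- the even root elements of `Q0` are central in the image, of exponent two -/
structure Ce (T : TF σ U) {A : Type w} [Group A] (ψ : U →* A) : Prop where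
  c2 : ∀ p u g, ψ (T.x2 p u) * ψ g = ψ g * ψ (T.x2 p u)
  c4 : ∀ p u g, ψ (T.x4 p u) * ψ g = ψ g * ψ (T.x4 p u)
  c6 : ∀ p u g, ψ (T.x6 p u) * ψ g = ψ g * ψ (T.x6 p u)
  s4 : ∀ p u, ψ (T.x4 p u) * ψ (T.x4 p u) = 1
  s6 : ∀ p u, ψ (T.x6 p u) * ψ (T.x6 p u) = 1

theorem one_of_rel {A : Type w} [Group A] (ψ : U →* A) {a b c : U} (h : a * b = b * a * c) (hc : ψ a * ψ b = ψ b * ψ a) :
    ψ c = 1 := by
  have h1 := congrArg ψ h
  rw [map_mul, map_mul, map_mul, hc] at h1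
  exact (mul_eq_left.1 h1.symm)

theorem split4 (T : TF σ U) (p u : K) : T.x4 p u = T.x4 p 0 * T.x4 0 u := by
  rw [T.rel.m4]
  simp

theorem split6 (T : TF σ U) (p u : K) : T.x6 p u = T.x6 p 0 * T.x6 0 u := by
  rw [T.rel.m6]
  simp

theorem split2 (T : TF σ U) (p u : K) : T.x2 p u = T.x2 p 0 * T.x2 0 u := by
  rw [T.rel.m2]
  simp

theorem split8 (T : TF σ U) (p u : K) : T.x8 p u = T.x8 p 0 * T.x8 0 u := by
  rw [T.rel.m8]
  simp

namespace Ce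

variable {T : TF σ U} {A : Type w} [Group A] {ψ : U →* A} (h : Ce T ψ)
include h

theorem e3 (s : K) : ψ (T.x3 s) = 1 := by
  have h1 := T.rel.r24 1 0 s 0
  rw [one_mul] at h1
  exact one_of_rel ψ h1 (h.c2 _ _ _)

theorem e5 (s : K) : ψ (T.x5 s) = 1 := by
  have h1 := T.rel.r46 1 0 s 0
  rw [one_mul] at h1
  exact one_of_rel ψ h1 (h.c4 _ _ _)

theorem e7 (s : K) : ψ (T.x7 s) = 1 := by
  have h1 := T.rel.r68 1 0 s 0
  rw [one_mul] at h1
  exact one_of_rel ψ h1 (h.c6 _ _ _)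

theorem e40 (s : K) : ψ (T.x4 0 s) = 1 := by
  have h1 := T.rel.r25 1 0 s
  rw [one_mul] at h1
  exact one_of_rel ψ h1 (h.c2 _ _ _)

theorem e60 (s : K) : ψ (T.x6 0 s) = 1 := by
  have h1 := T.rel.r47 1 0 s
  rw [one_mul] at h1
  exact one_of_rel ψ h1 (h.c4 _ _ _)

theorem e20 (s : K) : ψ (T.x2 0 s) = 1 := by
  have h1 := T.rel.r14 1 s 0
  rw [one_mul] at h1
  exact one_of_rel ψ h1 (h.c4 _ _ _).symm

theorem e4 (p u : K) : ψ (T.x4 p u) = ψ (T.x4 p 0) := by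
  rw [split4, map_mul, h.e40, mul_one]

theorem e6 (p u : K) : ψ (T.x6 p u) = ψ (T.x6 p 0) := by
  rw [split6, map_mul, h.e60, mul_one]

theorem e2 (p u : K) : ψ (T.x2 p u) = ψ (T.x2 p 0) := by
  rw [split2, map_mul, h.e20, mul_one]

theorem add4 (a b : K) : ψ (T.x4 (a + b) 0) = ψ (T.x4 a 0) * ψ (T.x4 b 0) := by
  rw [← map_mul, T.rel.m4, h.e4 (a + b) (0 + 0 + a * σ b)]

theorem add2 (a b : K) : ψ (T.x2 (a + b) 0) = ψ (T.x2 a 0) * ψ (T.x2 b 0) := by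
  rw [← map_mul, T.rel.m2, h.e2 (a + b) (0 + 0 + a * σ b)]

theorem e46 (p q : K) : ψ (T.x4 (σ p * q) 0) = ψ (T.x6 (p * σ q) 0) := by
  have h1 := T.rel.r28 p 0 q 0
  simp only [mul_assoc] at h1
  rw [← mul_assoc (T.x8 q 0)] at h1
  have h2 := one_of_rel ψ h1 (h.c2 _ _ _)
  rw [map_mul, map_mul, map_mul, map_mul, h.e3, h.e5, h.e7, one_mul, one_mul, mul_one, h.e4, h.e6] at h2
  rw [eq_inv_of_mul_eq_one_left h2]
  exact inv_eq_of_mul_eq_one_right (h.s6 _ _)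

/-- for `q > 2` the images of `X4` and `X6` are trivial -/
theorem all4 (hs : ∀ x, σ (σ x) = x ^ 2) {r : K} (h1 : r ^ 2 + r ≠ 0) (x : K) : ψ (T.x4 x 0) = 1 := by
  have key : ∀ q, ψ (T.x4 (r ^ 2 * q) 0) = ψ (T.x4 (r * q) 0) := by
    intro q
    have e1 := h.e46 (σ r) q
    have e2 := h.e46 1 (r * q)
    rw [hs] at e1
    rw [map_one, one_mul, one_mul, map_mul] at e2
    rw [e1, e2]
  have h3 : ψ (T.x4 ((r ^ 2 + r) * (x / (r ^ 2 + r))) 0) = 1 := by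
    rw [add_mul, h.add4, key]
    exact h.s4 _ _
  rwa [mul_div_cancel₀ _ h1] at h3

theorem all6 (hs : ∀ x, σ (σ x) = x ^ 2) {r : K} (h1 : r ^ 2 + r ≠ 0) (x : K) : ψ (T.x6 x 0) = 1 := by
  have e1 := h.e46 x 1
  rw [map_one, mul_one, mul_one] at e1
  rw [← e1]
  exact h.all4 hs h1 _

/-- the commutator of `X1` and `X8` -/
theorem comm18 (hs : ∀ x, σ (σ x) = x ^ 2) {r : K} (h1 : r ^ 2 + r ≠ 0) (t q v : K) :
    ψ (T.x1 t) * ψ (T.x8 q v) = ψ (T.x8 q v) * ψ (T.x1 t) * ψ (T.x2 (t * q) 0) := by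
  have h2 := congrArg ψ (T.rel.r18 t q v)
  simp only [map_mul] at h2
  rw [h2, h.e2, h.e3, h.e4, h.all4 hs h1, h.e5, h.e6, h.all6 hs h1, h.e7]
  simp only [mul_one]

end Ce

end

end Cfsg.Agent.H659.TF
end

-- part: H659/TF/PosA
section
/-!
# S5262, StPos: the action of an automorphism on the quotient `X1 X2/Z2 X8/Z8` (helper659)

`autotopism` : `α` acts as `f τ` on `X1`, as `g τ` on `X8/Z8`.
-/

set_option autoImplicit false

namespace Cfsg.Agent.H659.TF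

open Cfsg.Agent.Octagon.Pkg Cfsg.Agent.H745.TF

universe u v w

section

variable {K : Type u} [Field K] {σ : K →+* K} {U : Type v} [Group U] {T : TF σ U}

/-! ### membership of the root elements -/

theorem x1_A (t : K) : T.x1 t ∈ T.QA := by
  unfold TF.QA
  iterate 6 refine Subgroup.mem_sup_left ?_
  exact Subgroup.subset_closure ⟨t, rfl⟩

theorem x2_A (p u : K) : T.x2 p u ∈ T.QA := by
  unfold TF.QA
  iterate 5 refine Subgroup.mem_sup_left ?_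
  exact Subgroup.mem_sup_right (Subgroup.subset_closure ⟨p, u, rfl⟩)

theorem x3_A (t : K) : T.x3 t ∈ T.QA := by
  unfold TF.QA
  iterate 4 refine Subgroup.mem_sup_left ?_
  exact Subgroup.mem_sup_right (Subgroup.subset_closure ⟨t, rfl⟩)

theorem x4_A (p u : K) : T.x4 p u ∈ T.QA := by
  unfold TF.QA
  iterate 3 refine Subgroup.mem_sup_left ?_
  exact Subgroup.mem_sup_right (Subgroup.subset_closure ⟨p, u, rfl⟩)

theorem x5_A (t : K) : T.x5 t ∈ T.QA := by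
  unfold TF.QA
  iterate 2 refine Subgroup.mem_sup_left ?_
  exact Subgroup.mem_sup_right (Subgroup.subset_closure ⟨t, rfl⟩)

theorem x6_A (p u : K) : T.x6 p u ∈ T.QA := by
  unfold TF.QA
  refine Subgroup.mem_sup_left ?_
  exact Subgroup.mem_sup_right (Subgroup.subset_closure ⟨p, u, rfl⟩)

theorem x7_A (t : K) : T.x7 t ∈ T.QA := by
  unfold TF.QA
  exact Subgroup.mem_sup_right (Subgroup.subset_closure ⟨t, rfl⟩)

theorem x2_B (p u : K) : T.x2 p u ∈ T.QB := by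
  unfold TF.QB
  iterate 6 refine Subgroup.mem_sup_left ?_
  exact Subgroup.subset_closure ⟨p, u, rfl⟩

theorem x3_B (t : K) : T.x3 t ∈ T.QB := by
  unfold TF.QB
  iterate 5 refine Subgroup.mem_sup_left ?_
  exact Subgroup.mem_sup_right (Subgroup.subset_closure ⟨t, rfl⟩)

theorem x4_B (p u : K) : T.x4 p u ∈ T.QB := by
  unfold TF.QB
  iterate 4 refine Subgroup.mem_sup_left ?_
  exact Subgroup.mem_sup_right (Subgroup.subset_closure ⟨p, u, rfl⟩)

theorem x5_B (t : K) : T.x5 t ∈ T.QB := by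
  unfold TF.QB
  iterate 3 refine Subgroup.mem_sup_left ?_
  exact Subgroup.mem_sup_right (Subgroup.subset_closure ⟨t, rfl⟩)

theorem x6_B (p u : K) : T.x6 p u ∈ T.QB := by
  unfold TF.QB
  iterate 2 refine Subgroup.mem_sup_left ?_
  exact Subgroup.mem_sup_right (Subgroup.subset_closure ⟨p, u, rfl⟩)

theorem x7_B (t : K) : T.x7 t ∈ T.QB := by
  unfold TF.QB
  refine Subgroup.mem_sup_left ?_
  exact Subgroup.mem_sup_right (Subgroup.subset_closure ⟨t, rfl⟩)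

theorem x8_B (p u : K) : T.x8 p u ∈ T.QB := by
  unfold TF.QB
  exact Subgroup.mem_sup_right (Subgroup.subset_closure ⟨p, u, rfl⟩)

/-- the projection -/
structure Pi (T : TF σ U) (π : U →* H3 K) : Prop where
  e1 : ∀ t, π (T.x1 t) = ⟨t, 0, 0⟩
  e2 : ∀ p u, π (T.x2 p u) = ⟨0, p, 0⟩
  e3 : ∀ t, π (T.x3 t) = 1
  e4 : ∀ p u, π (T.x4 p u) = 1
  e5 : ∀ t, π (T.x5 t) = 1
  e6 : ∀ p u, π (T.x6 p u) = 1
  e7 : ∀ t, π (T.x7 t) = 1
  e8 : ∀ p u, π (T.x8 p u) = ⟨0, 0, p⟩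

theorem exists_Pi (T : TF σ U) (h2 : (2 : K) = 0) : ∃ π : U →* H3 K, Pi T π := by
  obtain ⟨π, h1, h2, h3, h4, h5, h6, h7, h8⟩ := exists_pi T h2
  exact ⟨π, h1, h2, h3, h4, h5, h6, h7, h8⟩

namespace Pi

variable {π : U →* H3 K} (P : Pi T π)
include P

theorem el_t (c : Cd K) : (π (T.el c)).t = c.a1 := by
  simp [TF.el, P.e1, P.e2, P.e3, P.e4, P.e5, P.e6, P.e7, P.e8]

theorem el_q (c : Cd K) : (π (T.el c)).q = c.a8 := by
  simp [TF.el, P.e1, P.e2, P.e3, P.e4, P.e5, P.e6, P.e7, P.e8]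

theorem A_q {g : U} (hg : g ∈ T.QA) : (π g).q = 0 := by
  let M : Subgroup U :=
    { carrier := {g | (π g).q = 0}
      mul_mem' := fun {a b} ha hb => by
        change (π (a * b)).q = 0
        rw [map_mul, H3.mul_q, ha, hb, add_zero]
      one_mem' := by
        change (π 1).q = 0
        rw [map_one, H3.one_q]
      inv_mem' := fun {a} ha => by
        change (π a⁻¹).q = 0
        rw [map_inv, H3.inv_q, ha, neg_zero] }
  have h : T.QA ≤ M := by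
    unfold TF.QA TF.X1 TF.X2 TF.X3 TF.X4 TF.X5 TF.X6 TF.X7
    refine sup_le (sup_le (sup_le (sup_le (sup_le (sup_le ?_ ?_) ?_) ?_) ?_) ?_) ?_ <;>
      rw [Subgroup.closure_le]
    · rintro _ ⟨t, rfl⟩
      change (π _).q = 0
      rw [P.e1]
    · rintro _ ⟨p, u, rfl⟩
      change (π _).q = 0
      rw [P.e2]
    · rintro _ ⟨t, rfl⟩
      change (π _).q = 0
      rw [P.e3, H3.one_q]
    · rintro _ ⟨p, u, rfl⟩
      change (π _).q = 0
      rw [P.e4, H3.one_q]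
    · rintro _ ⟨t, rfl⟩
      change (π _).q = 0
      rw [P.e5, H3.one_q]
    · rintro _ ⟨p, u, rfl⟩
      change (π _).q = 0
      rw [P.e6, H3.one_q]
    · rintro _ ⟨t, rfl⟩
      change (π _).q = 0
      rw [P.e7, H3.one_q]
  exact h hg

theorem B_t {g : U} (hg : g ∈ T.QB) : (π g).t = 0 := by
  let M : Subgroup U :=
    { carrier := {g | (π g).t = 0}
      mul_mem' := fun {a b} ha hb => by
        change (π (a * b)).t = 0
        rw [map_mul, H3.mul_t, ha, hb, add_zero]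
      one_mem' := by
        change (π 1).t = 0
        rw [map_one, H3.one_t]
      inv_mem' := fun {a} ha => by
        change (π a⁻¹).t = 0
        rw [map_inv, H3.inv_t, ha, neg_zero] }
  have h : T.QB ≤ M := by
    unfold TF.QB TF.X2 TF.X3 TF.X4 TF.X5 TF.X6 TF.X7 TF.X8
    refine sup_le (sup_le (sup_le (sup_le (sup_le (sup_le ?_ ?_) ?_) ?_) ?_) ?_) ?_ <;>
      rw [Subgroup.closure_le]
    · rintro _ ⟨p, u, rfl⟩
      change (π _).t = 0
      rw [P.e2]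
    · rintro _ ⟨t, rfl⟩
      change (π _).t = 0
      rw [P.e3, H3.one_t]
    · rintro _ ⟨p, u, rfl⟩
      change (π _).t = 0
      rw [P.e4, H3.one_t]
    · rintro _ ⟨t, rfl⟩
      change (π _).t = 0
      rw [P.e5, H3.one_t]
    · rintro _ ⟨p, u, rfl⟩
      change (π _).t = 0
      rw [P.e6, H3.one_t]
    · rintro _ ⟨t, rfl⟩
      change (π _).t = 0
      rw [P.e7, H3.one_t]
    · rintro _ ⟨p, u, rfl⟩
      change (π _).t = 0
      rw [P.e8]
  exact h hg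

end Pi

/-! ### an automorphism preserving `QA` and `QB` -/

/-- the hypotheses on the automorphism -/
structure Pr (T : TF σ U) (α : MulAut U) : Prop where
  A : ∀ g ∈ T.QA, α g ∈ T.QA
  B : ∀ g ∈ T.QB, α g ∈ T.QB

/-- squares of `X8` give `Z8` -/
theorem exists_sq [Finite K] (h2 : (2 : K) = 0) (hs : ∀ x, σ (σ x) = x ^ 2) (u : K) : ∃ r : K, r * σ r = u := by
  by_cases hu : u = 0
  · exact ⟨0, by rw [hu, zero_mul]⟩
  have hinj : Function.Injective (fun x : Kˣ => x * Units.map (σ : K →* K) x) := by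
    intro x y hxy
    let f : Kˣ →* Kˣ := MonoidHom.id Kˣ * Units.map (σ : K →* K)
    have hf : Function.Injective f := by
      rw [injective_iff_map_eq_one]
      intro z hz
      have h1 : (z : K) * σ z = 1 := by
        have := congrArg (Units.val) hz
        exact this
      have h3 : σ (z : K) * (z : K) ^ 2 = 1 := by
        have := congrArg σ h1
        rwa [map_mul, map_one, hs] at this
      have h4 : (z : K) = 1 := by
        have h5 : (z : K) * ((z : K) * σ z) = 1 := by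
          rw [← h3]; ring
        rwa [h1, mul_one] at h5
      exact Units.ext h4
    exact hf hxy
  have hsurj := Finite.surjective_of_injective hinj
  obtain ⟨r, hr⟩ := hsurj (Units.mk0 u hu)
  exact ⟨r, congrArg Units.val hr⟩

theorem x8_sq (h2 : (2 : K) = 0) (r : K) : T.x8 r 0 * T.x8 r 0 = T.x8 0 (r * σ r) := by
  rw [T.rel.m8]
  congr 1
  · linear_combination r * h2
  · ring

theorem add_self' (h2 : (2 : K) = 0) (x : K) : x + x = 0 := by linear_combination x * h2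

section auto

variable [Finite K] (h2 : (2 : K) = 0) (hs : ∀ x, σ (σ x) = x ^ 2) {π : U →* H3 K} (P : Pi T π) {α : MulAut U}
  (hα : Pr T α)
include h2 P hα

theorem im0 {w : U} (hA : w ∈ T.QA) (hB : w ∈ T.QB) : π (α w) = ⟨0, (π (α w)).p, 0⟩ :=
  H3.ext (P.B_t (hα.B w hB)) rfl (P.A_q (hα.A w hA))

theorem ce : Ce T (π.comp α.toMonoidHom) := by
  have hc : ∀ {w : U}, w ∈ T.QA → w ∈ T.QB → ∀ g, π (α w) * π (α g) = π (α g) * π (α w) := by
    intro w hA hB g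
    rw [im0 h2 P hα hA hB]
    ext <;> simp [add_comm]
  have hq : ∀ {w : U}, w ∈ T.QA → w ∈ T.QB → π (α w) * π (α w) = 1 := by
    intro w hA hB
    rw [im0 h2 P hα hA hB]
    ext
    · simp
    · simp only [H3.mul_p, zero_mul, add_zero, H3.one_p]
      exact add_self' h2 _
    · simp
  exact
    { c2 := fun p u g => hc (x2_A p u) (x2_B p u) g
      c4 := fun p u g => hc (x4_A p u) (x4_B p u) g
      c6 := fun p u g => hc (x6_A p u) (x6_B p u) g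
      s4 := fun p u => hq (x4_A p u) (x4_B p u)
      s6 := fun p u => hq (x6_A p u) (x6_B p u) }

/-- the action on `X1` -/
theorem act_t (x : U) : (π (α x)).t = (π (α (T.x1 (π x).t))).t := by
  obtain ⟨c, rfl⟩ := T.bij.2 x
  change (π (α (T.el c))).t = (π (α (T.x1 (π (T.el c)).t))).t
  rw [P.el_t]
  unfold TF.el
  simp only [map_mul, H3.mul_t]
  rw [P.B_t (hα.B _ (x2_B _ _)), P.B_t (hα.B _ (x3_B _)), P.B_t (hα.B _ (x4_B _ _)), P.B_t (hα.B _ (x5_B _)),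
    P.B_t (hα.B _ (x6_B _ _)), P.B_t (hα.B _ (x7_B _)), P.B_t (hα.B _ (x8_B _ _))]
  simp only [add_zero]

include hs in
/-- the action on `X8 / Z8` -/
theorem act_q (x : U) : (π (α x)).q = (π (α (T.x8 (π x).q 0))).q := by
  obtain ⟨c, rfl⟩ := T.bij.2 x
  change (π (α (T.el c))).q = (π (α (T.x8 (π (T.el c)).q 0))).q
  rw [P.el_q]
  unfold TF.el
  rw [split8 T c.a8 c.b8]
  simp only [map_mul, H3.mul_q]
  have h8 : (π (α (T.x8 0 c.b8))).q = 0 := by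
    obtain ⟨r, hr⟩ := exists_sq h2 hs c.b8
    rw [← hr, ← x8_sq h2, map_mul, map_mul, H3.mul_q]
    exact add_self' h2 _
  rw [P.A_q (hα.A _ (x1_A _)), P.A_q (hα.A _ (x2_A _ _)), P.A_q (hα.A _ (x3_A _)), P.A_q (hα.A _ (x4_A _ _)),
    P.A_q (hα.A _ (x5_A _)), P.A_q (hα.A _ (x6_A _ _)), P.A_q (hα.A _ (x7_A _)), h8]
  simp only [add_zero, zero_add]

theorem exists_f_ne : ∃ t, (π (α (T.x1 t))).t ≠ 0 := by
  refine ⟨(π (α⁻¹ (T.x1 1))).t, ?_⟩
  rw [← act_t h2 P hα, MulAut.apply_inv_self, P.e1]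
  exact one_ne_zero

include hs in
theorem exists_g_ne : ∃ s, (π (α (T.x8 s 0))).q ≠ 0 := by
  refine ⟨(π (α⁻¹ (T.x8 1 0))).q, ?_⟩
  rw [← act_q h2 hs P hα, MulAut.apply_inv_self, P.e8]
  exact one_ne_zero

include hs in
/-- `k (t s) = f t g s` -/
theorem kfg {r : K} (hr : r ^ 2 + r ≠ 0) (t s : K) :
    (π (α (T.x2 (t * s) 0))).p = (π (α (T.x1 t))).t * (π (α (T.x8 s 0))).q := by
  have h1 := congrArg H3.p ((ce h2 P hα).comm18 hs hr t s 0)
  have e1 : (π (α (T.x1 t))).q = 0 := P.A_q (hα.A _ (x1_A _))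
  have e8 : (π (α (T.x8 s 0))).t = 0 := P.B_t (hα.B _ (x8_B _ _))
  have e2 : (π (α (T.x2 (t * s) 0))).t = 0 := P.B_t (hα.B _ (x2_B _ _))
  change (π (α (T.x1 t)) * π (α (T.x8 s 0))).p = (π (α (T.x8 s 0)) * π (α (T.x1 t)) * π (α (T.x2 (t * s) 0))).p at h1
  simp only [H3.mul_p, H3.mul_q, e1, e8, e2, mul_zero, add_zero] at h1
  linear_combination (-1 : K) * h1 - ((π (α (T.x1 t))).t * (π (α (T.x8 s 0))).q) * h2

include hs in
/-- **Autotopism.** -/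
theorem autotopism {r : K} (hr : r ^ 2 + r ≠ 0) : ∃ (f g : K) (τ : K ≃+* K), f ≠ 0 ∧ g ≠ 0 ∧
    (∀ x, (π (α x)).t = f * τ (π x).t) ∧ (∀ x, (π (α x)).q = g * τ (π x).q) := by
  set f : K → K := fun t => (π (α (T.x1 t))).t with hf
  set g : K → K := fun s => (π (α (T.x8 s 0))).q with hg
  set k : K → K := fun p => (π (α (T.x2 p 0))).p with hk
  have hkfg : ∀ t s, k (t * s) = f t * g s := fun t s => kfg h2 hs P hα hr t s
  obtain ⟨t0, ht0⟩ := exists_f_ne h2 P hα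
  obtain ⟨s0, hs0⟩ := exists_g_ne h2 hs P hα
  have hf1 : f 1 ≠ 0 := by
    intro h0
    have h3 : ∀ s, k s = 0 := fun s => by
      have := hkfg 1 s
      rwa [one_mul, h0, zero_mul] at this
    have h4 := hkfg t0 s0
    rw [h3] at h4
    exact mul_ne_zero ht0 hs0 h4.symm
  have hg1 : g 1 ≠ 0 := by
    intro h0
    have h3 : ∀ s, k s = 0 := fun s => by
      have := hkfg s 1
      rwa [mul_one, h0, mul_zero] at this
    have h4 := hkfg t0 s0
    rw [h3] at h4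
    exact mul_ne_zero ht0 hs0 h4.symm
  have hk1 : k 1 = f 1 * g 1 := by
    have := hkfg 1 1
    rwa [one_mul] at this
  have hk1' : k 1 ≠ 0 := by rw [hk1]; exact mul_ne_zero hf1 hg1
  have hkadd : ∀ a b, k (a + b) = k a + k b := by
    intro a b
    have h3 := congrArg H3.p ((ce h2 P hα).add2 a b)
    have e2 : (π (α (T.x2 b 0))).t = 0 := P.B_t (hα.B _ (x2_B _ _))
    change (π (α (T.x2 (a + b) 0))).p = (π (α (T.x2 a 0)) * π (α (T.x2 b 0))).p at h3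
    rw [H3.mul_p, e2, mul_zero, add_zero] at h3
    exact h3
  have hkf : ∀ t, k t = f t * g 1 := fun t => by
    have := hkfg t 1
    rwa [mul_one] at this
  have hkg : ∀ s, k s = f 1 * g s := fun s => by
    have := hkfg 1 s
    rwa [one_mul] at this
  let τ₀ : K →+* K :=
    { toFun := fun x => k x / k 1
      map_one' := div_self hk1'
      map_zero' := by
        have h3 := hkadd 0 0
        rw [add_zero] at h3
        have h4 : k 0 = 0 := by linear_combination -h3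
        change k 0 / k 1 = 0
        rw [h4, zero_div]
      map_mul' := fun x y => by
        change k (x * y) / k 1 = k x / k 1 * (k y / k 1)
        rw [div_mul_div_comm, div_eq_div_iff hk1' (mul_ne_zero hk1' hk1'), hkfg x y, hkf x, hkg y, hk1]
        ring
      map_add' := fun x y => by
        change k (x + y) / k 1 = k x / k 1 + k y / k 1
        rw [hkadd, add_div] }
  have hbij : Function.Bijective τ₀ := Finite.injective_iff_bijective.1 τ₀.injective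
  let τ : K ≃+* K := RingEquiv.ofBijective τ₀ hbij
  have hτ : ∀ x, τ x = k x / k 1 := fun x => rfl
  refine ⟨f 1, g 1, τ, hf1, hg1, fun x => ?_, fun x => ?_⟩
  · rw [act_t h2 P hα x, hτ, hkf, hk1]
    change f (π x).t = _
    field_simp
  · rw [act_q h2 hs P hα x, hτ, hkg, hk1]
    change g (π x).q = _
    field_simp

end auto

end

end Cfsg.Agent.H659.TF
end

private theorem dce_001ec83fa30c : _root_.True := by
  try have : _root_.True := by simp only [_root_.Cfsg.Agent.H745.TF.TF.el.eq_1]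
  exact _root_.True.intro
end

-- part: H240/TF/Base
section
set_option linter.all false
open scoped Cfsg.Agent.FastGrp

/-!
# S5262, LA1 / LA2: the quotient `U / Q_a`, uniqueness and products of torus automorphisms (helper240)
-/

set_option autoImplicit false

namespace Cfsg.Agent.H240.TF

open Cfsg.Agent.Octagon.Pkg Cfsg.Agent.H745.TF Cfsg.Agent.H659.TF

universe u v

/-- the group `X8` -/
@[ext] structure SU {K : Type u} [Field K] (σ : K →+* K) where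
  p : K
  u : K

namespace SU

variable {K : Type u} [Field K] {σ : K →+* K}

instance : Mul (SU σ) := ⟨fun x y => ⟨x.p + y.p, x.u + y.u + x.p * σ y.p⟩⟩
instance : One (SU σ) := ⟨⟨0, 0⟩⟩
instance : Inv (SU σ) := ⟨fun x => ⟨-x.p, -x.u + x.p * σ x.p⟩⟩

@[simp] theorem mul_p (x y : SU σ) : (x * y).p = x.p + y.p := rfl
@[simp] theorem mul_u (x y : SU σ) : (x * y).u = x.u + y.u + x.p * σ y.p := rfl
@[simp] theorem one_p : (1 : SU σ).p = 0 := rfl
@[simp] theorem one_u : (1 : SU σ).u = 0 := rfl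
@[simp] theorem inv_p (x : SU σ) : (x⁻¹).p = -x.p := rfl
@[simp] theorem inv_u (x : SU σ) : (x⁻¹).u = -x.u + x.p * σ x.p := rfl

instance : Group (SU σ) where
  mul_assoc x y z := by ext <;> simp <;> ring
  one_mul x := by ext <;> simp
  mul_one x := by ext <;> simp
  inv_mul_cancel x := by ext <;> simp

end SU

section

variable {K : Type u} [Field K] {σ : K →+* K} {U : Type v} [Group U] (T : TF σ U)

/-- the projection onto `X8` -/
structure Rho (ρ : U →* SU σ) : Prop where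
  e1 : ∀ t, ρ (T.x1 t) = 1
  e2 : ∀ p u, ρ (T.x2 p u) = 1
  e3 : ∀ t, ρ (T.x3 t) = 1
  e4 : ∀ p u, ρ (T.x4 p u) = 1
  e5 : ∀ t, ρ (T.x5 t) = 1
  e6 : ∀ p u, ρ (T.x6 p u) = 1
  e7 : ∀ t, ρ (T.x7 t) = 1
  e8 : ∀ p u, ρ (T.x8 p u) = ⟨p, u⟩

theorem exists_rho : ∃ ρ : U →* SU σ, Rho T ρ := by
  obtain ⟨ρ, h1, h2, h3, h4, h5, h6, h7, h8⟩ := ump T (H := SU σ) (y1 := fun _ => 1) (y2 := fun _ _ => 1)
    (y3 := fun _ => 1) (y4 := fun _ _ => 1) (y5 := fun _ => 1) (y6 := fun _ _ => 1) (y7 := fun _ => 1)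
    (y8 := fun p u => ⟨p, u⟩) (by
      constructor <;> intros <;> (try simp) <;> (try (ext <;> simp)))
  exact ⟨ρ, h1, h2, h3, h4, h5, h6, h7, h8⟩

variable {T} {ρ : U →* SU σ} (P : Rho T ρ)
include P

theorem Rho.el (c : Cd K) : ρ (T.el c) = ⟨c.a8, c.b8⟩ := by
  simp [TF.el, P.e1, P.e2, P.e3, P.e4, P.e5, P.e6, P.e7, P.e8]

theorem Rho.mem_QA (x : U) : x ∈ T.QA ↔ ρ x = 1 := by
  constructor
  · intro h
    have hle : T.QA ≤ ρ.ker := by
      unfold TF.QA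
      refine sup_le (sup_le (sup_le (sup_le (sup_le (sup_le ?_ ?_) ?_) ?_) ?_) ?_) ?_ <;>
        refine (Subgroup.closure_le _).2 ?_
      · rintro _ ⟨t, rfl⟩; exact P.e1 t
      · rintro _ ⟨p, u, rfl⟩; exact P.e2 p u
      · rintro _ ⟨t, rfl⟩; exact P.e3 t
      · rintro _ ⟨p, u, rfl⟩; exact P.e4 p u
      · rintro _ ⟨t, rfl⟩; exact P.e5 t
      · rintro _ ⟨p, u, rfl⟩; exact P.e6 p u
      · rintro _ ⟨t, rfl⟩; exact P.e7 t
    exact hle h
  · intro h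
    obtain ⟨c, rfl⟩ := T.bij.2 x
    change T.el c ∈ T.QA
    have h' : ρ (T.el c) = 1 := h
    rw [P.el] at h'
    have h8 : c.a8 = 0 := congrArg SU.p h'
    have h9 : c.b8 = 0 := congrArg SU.u h'
    unfold TF.el
    rw [h8, h9, x8_zero T.rel, mul_one]
    exact mul_mem (mul_mem (mul_mem (mul_mem (mul_mem (mul_mem (x1_A _) (x2_A _ _)) (x3_A _)) (x4_A _ _)) (x5_A _)) (x6_A _ _))
      (x7_A _)

theorem Rho.x8_mem (p u : K) : T.x8 p u ∈ T.QA ↔ p = 0 ∧ u = 0 := by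
  rw [P.mem_QA, P.e8]
  constructor
  · intro h
    exact ⟨congrArg SU.p h, congrArg SU.u h⟩
  · rintro ⟨rfl, rfl⟩
    rfl

omit P in
theorem exists_x8 (T : TF σ U) (x : U) : ∃ e ∈ T.QA, ∃ p u, x = e * T.x8 p u := by
  obtain ⟨c, rfl⟩ := T.bij.2 x
  exact ⟨_, mul_mem (mul_mem (mul_mem (mul_mem (mul_mem (mul_mem (x1_A _) (x2_A _ _)) (x3_A _)) (x4_A _ _)) (x5_A _)) (x6_A _ _))
      (x7_A _), _, _, rfl⟩

theorem Rho.normal : T.QA.Normal := by
  refine ⟨fun n hn g => ?_⟩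
  rw [P.mem_QA] at hn ⊢
  rw [map_mul, map_mul, hn, mul_one, ← map_mul, mul_inv_cancel, map_one]

omit P in
theorem QA_normal (T : TF σ U) : T.QA.Normal := by
  obtain ⟨ρ, P⟩ := exists_rho T
  exact P.normal

omit P in
/-- the coordinates of `x4` -/
theorem x4_inj (T : TF σ U) {p u r s : K} (h : T.x4 p u = T.x4 r s) : p = r ∧ u = s := by
  have e : ∀ p u, T.x4 p u = T.x1 0 * T.x2 0 0 * T.x3 0 * T.x4 p u * T.x5 0 * T.x6 0 0 * T.x7 0 * T.x8 0 0 := by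
    intro p u
    rw [x1_zero T.rel, x2_zero T.rel, x3_zero T.rel, x5_zero T.rel, x6_zero T.rel, x7_zero T.rel, x8_zero T.rel]
    simp
  rw [e p u, e r s] at h
  have h1 := T.bij.1 (a₁ := ⟨0, 0, 0, 0, p, u, 0, 0, 0, 0, 0, 0⟩) (a₂ := ⟨0, 0, 0, 0, r, s, 0, 0, 0, 0, 0, 0⟩) h
  exact ⟨congrArg Cd.a4 h1, congrArg Cd.b4 h1⟩

omit P in
/-- automorphisms are determined by the values on the root elements -/
theorem aut_ext (T : TF σ U) {α β : MulAut U} (h1 : ∀ t, α (T.x1 t) = β (T.x1 t)) (h2 : ∀ p u, α (T.x2 p u) = β (T.x2 p u))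
    (h3 : ∀ t, α (T.x3 t) = β (T.x3 t)) (h4 : ∀ p u, α (T.x4 p u) = β (T.x4 p u)) (h5 : ∀ t, α (T.x5 t) = β (T.x5 t))
    (h6 : ∀ p u, α (T.x6 p u) = β (T.x6 p u)) (h7 : ∀ t, α (T.x7 t) = β (T.x7 t))
    (h8 : ∀ p u, α (T.x8 p u) = β (T.x8 p u)) : α = β := by
  have h := Cfsg.Agent.H805.TF.hom_ext T (φ := α.toMonoidHom) (ψ := β.toMonoidHom) h1 h2 h3 h4 h5 h6 h7 h8
  ext x
  exact DFunLike.congr_fun h x

omit P in
theorem tor_unique (T : TF σ U) {α β : MulAut U} {f g : K} {τ : K ≃+* K} (h : T.IsTor α f g τ) (h' : T.IsTor β f g τ) :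
    α = β := by
  apply aut_ext T <;> intros
  · rw [h.e1, h'.e1]
  · rw [h.e2, h'.e2]
  · rw [h.e3, h'.e3]
  · rw [h.e4, h'.e4]
  · rw [h.e5, h'.e5]
  · rw [h.e6, h'.e6]
  · rw [h.e7, h'.e7]
  · rw [h.e8, h'.e8]

omit P in
theorem tor_one (T : TF σ U) {α : MulAut U} (h : T.IsTor α 1 1 (RingEquiv.refl K)) : α = 1 := by
  apply aut_ext T <;> intros
  · rw [h.e1]; simp
  · rw [h.e2]; simp
  · rw [h.e3]; simp
  · rw [h.e4]; simp
  · rw [h.e5]; simp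
  · rw [h.e6]; simp
  · rw [h.e7]; simp
  · rw [h.e8]; simp

omit P in
theorem tor_mul (T : TF σ U) {α β : MulAut U} {f g f' g' : K} (h : T.IsTor α f g (RingEquiv.refl K))
    (h' : T.IsTor β f' g' (RingEquiv.refl K)) : T.IsTor (α * β) (f * f') (g * g') (RingEquiv.refl K) where
  nf := mul_ne_zero h.nf h'.nf
  ng := mul_ne_zero h.ng h'.ng
  e1 t := by rw [MulAut.mul_apply, h'.e1, h.e1]; simp only [RingEquiv.refl_apply]; congr 1; ring
  e2 p u := by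
    rw [MulAut.mul_apply, h'.e2, h.e2]; simp only [RingEquiv.refl_apply, map_mul]; congr 1 <;> ring
  e3 t := by rw [MulAut.mul_apply, h'.e3, h.e3]; simp only [RingEquiv.refl_apply, map_mul]; congr 1; ring
  e4 p u := by
    rw [MulAut.mul_apply, h'.e4, h.e4]; simp only [RingEquiv.refl_apply, map_mul]; congr 1 <;> ring
  e5 t := by rw [MulAut.mul_apply, h'.e5, h.e5]; simp only [RingEquiv.refl_apply, map_mul]; congr 1; ring
  e6 p u := by
    rw [MulAut.mul_apply, h'.e6, h.e6]; simp only [RingEquiv.refl_apply, map_mul]; congr 1 <;> ring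
  e7 t := by rw [MulAut.mul_apply, h'.e7, h.e7]; simp only [RingEquiv.refl_apply, map_mul]; congr 1; ring
  e8 p u := by
    rw [MulAut.mul_apply, h'.e8, h.e8]; simp only [RingEquiv.refl_apply, map_mul]; congr 1 <;> ring

end

end Cfsg.Agent.H240.TF
end

-- part: H7/TF/LB
section
prune_inst 0x100400002200000000000000001c029200000000080000004006000e800c0000000820802000000000088400300060011000000000000000000000011c0080000000008008a000000000000000000000000000000000000000000000000000000000000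
set_option linter.all false
open scoped Cfsg.Agent.FastGrp

/-!
# S5262: the statements `StLB1` and `StLB2` (helper7)

* the centre `V` of `QB`, the action `pi : MulAut QB →* Aut(K × K)` on it;
* `stLB1 : StGrp → StTIB → StLB1`, `stLB2 : StGrp → StTIB → StLB2`.
-/

set_option autoImplicit false
set_option linter.unusedSectionVars false

section

namespace Cfsg.Agent.H7.TF

open Cfsg Cfsg.Agent.H756.PU Cfsg.Agent.H745.TF Cfsg.Agent.H7.PU.Core
open Cfsg.Agent.H659.TF (x2_B x3_B x4_B x5_B x6_B x7_B x8_B exists_Pi)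
open Cfsg.Agent.H802 (exists_conjAut mem_autInducedBy_iff)

universe u v

variable {K : Type u} [Field K] {σ : K →+* K} {m : ℕ} {U : Type v} [Group U] (T : TF σ U)

/-! ### zero -/

theorem x1_0 : T.x1 0 = 1 := by
  have h := T.rel.m1 0 0
  rw [add_zero] at h
  exact mul_eq_left.1 h
theorem x3_0 : T.x3 0 = 1 := by
  have h := T.rel.m3 0 0
  rw [add_zero] at h
  exact mul_eq_left.1 h
theorem x5_0 : T.x5 0 = 1 := by
  have h := T.rel.m5 0 0
  rw [add_zero] at h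
  exact mul_eq_left.1 h
theorem x7_0 : T.x7 0 = 1 := by
  have h := T.rel.m7 0 0
  rw [add_zero] at h
  exact mul_eq_left.1 h
theorem x2_0 : T.x2 0 0 = 1 := by
  have h := T.rel.m2 0 0 0 0
  rw [zero_mul, add_zero, add_zero] at h
  exact mul_eq_left.1 h
theorem x4_0 : T.x4 0 0 = 1 := by
  have h := T.rel.m4 0 0 0 0
  rw [zero_mul, add_zero, add_zero] at h
  exact mul_eq_left.1 h
theorem x6_0 : T.x6 0 0 = 1 := by
  have h := T.rel.m6 0 0 0 0
  rw [zero_mul, add_zero, add_zero] at h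
  exact mul_eq_left.1 h
theorem x8_0 : T.x8 0 0 = 1 := by
  have h := T.rel.m8 0 0 0 0
  rw [zero_mul, add_zero, add_zero] at h
  exact mul_eq_left.1 h

/-- the elements of `V` -/
def vv (u : K × K) : U := T.x4 0 u.1 * T.x6 0 u.2

theorem vv_mem (u : K × K) : vv T u ∈ T.QB := mul_mem (x4_B _ _) (x6_B _ _)

/-- `Z4` is central in `U` -/
theorem z4_comm (u : K) (g : U) : T.x4 0 u * g = g * T.x4 0 u := by
  obtain ⟨c, rfl⟩ := T.bij.2 g
  have R := T.rel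
  have k1 : ∀ t, T.x4 0 u * T.x1 t = T.x1 t * T.x4 0 u := fun t => by
    have := R.r14 t 0 u
    rw [mul_zero, x2_0, mul_one] at this
    exact this.symm
  have k2 : ∀ p v, T.x4 0 u * T.x2 p v = T.x2 p v * T.x4 0 u := fun p v => by
    have := R.r24 p v 0 u
    rw [mul_zero, x3_0, mul_one] at this
    exact this.symm
  have k3 : ∀ t, T.x4 0 u * T.x3 t = T.x3 t * T.x4 0 u := fun t => (R.r34 t 0 u).symm
  have k4 : ∀ p v, T.x4 0 u * T.x4 p v = T.x4 p v * T.x4 0 u := fun p v => by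
    rw [R.m4, R.m4]
    congr 1
    · ring
    · rw [zero_mul, map_zero, mul_zero]; ring
  have k5 : ∀ t, T.x4 0 u * T.x5 t = T.x5 t * T.x4 0 u := fun t => R.r45 0 u t
  have k6 : ∀ p v, T.x4 0 u * T.x6 p v = T.x6 p v * T.x4 0 u := fun p v => by
    have := R.r46 0 u p v
    rwa [zero_mul, x5_0, mul_one] at this
  have k7 : ∀ t, T.x4 0 u * T.x7 t = T.x7 t * T.x4 0 u := fun t => by
    have := R.r47 0 u t
    rwa [zero_mul, x6_0, mul_one] at this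
  have k8 : ∀ p v, T.x4 0 u * T.x8 p v = T.x8 p v * T.x4 0 u := fun p v => R.r48 0 u p v
  show Commute (T.x4 0 u) _
  have hc : ∀ {a b : U}, T.x4 0 u * a = a * T.x4 0 u → T.x4 0 u * b = b * T.x4 0 u →
      T.x4 0 u * (a * b) = a * b * T.x4 0 u := by
    intro a b ha hb
    rw [← mul_assoc, ha, mul_assoc, hb, mul_assoc]
  exact hc (hc (hc (hc (hc (hc (hc (k1 _) (k2 _ _)) (k3 _)) (k4 _ _)) (k5 _)) (k6 _ _)) (k7 _)) (k8 _ _)

/-- elements of `QB` as products -/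
theorem exists_B (h2 : (2 : K) = 0) {g : U} (hg : g ∈ T.QB) : ∃ a2 b2 a3 a4 b4 a5 a6 b6 a7 a8 b8 : K,
    g = T.x2 a2 b2 * T.x3 a3 * T.x4 a4 b4 * T.x5 a5 * T.x6 a6 b6 * T.x7 a7 * T.x8 a8 b8 := by
  obtain ⟨π, P⟩ := exists_Pi T h2
  obtain ⟨c, rfl⟩ := T.bij.2 g
  have h1 := P.B_t hg
  have h3 : (π (T.el c)).t = 0 := h1
  rw [P.el_t] at h3
  refine ⟨c.a2, c.b2, c.a3, c.a4, c.b4, c.a5, c.a6, c.b6, c.a7, c.a8, c.b8, ?_⟩
  show T.x1 c.a1 * _ * _ * _ * _ * _ * _ * _ = _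
  rw [h3, x1_0, one_mul]

/-- `Z6` is central in `QB` -/
theorem z6_comm (h2 : (2 : K) = 0) (u : K) {g : U} (hg : g ∈ T.QB) : T.x6 0 u * g = g * T.x6 0 u := by
  obtain ⟨a2, b2, a3, a4, b4, a5, a6, b6, a7, a8, b8, rfl⟩ := exists_B T h2 hg
  have R := T.rel
  have k2 : ∀ p v, T.x6 0 u * T.x2 p v = T.x2 p v * T.x6 0 u := fun p v => (R.r26 p v 0 u).symm
  have k3 : ∀ t, T.x6 0 u * T.x3 t = T.x3 t * T.x6 0 u := fun t => by
    have := R.r36 t 0 u
    rw [mul_zero, x4_0, mul_one] at this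
    exact this.symm
  have k4 : ∀ p v, T.x6 0 u * T.x4 p v = T.x4 p v * T.x6 0 u := fun p v => by
    have := R.r46 p v 0 u
    rw [mul_zero, x5_0, mul_one] at this
    exact this.symm
  have k5 : ∀ t, T.x6 0 u * T.x5 t = T.x5 t * T.x6 0 u := fun t => (R.r56 t 0 u).symm
  have k6 : ∀ p v, T.x6 0 u * T.x6 p v = T.x6 p v * T.x6 0 u := fun p v => by
    rw [R.m6, R.m6]
    congr 1
    · ring
    · rw [zero_mul, map_zero, mul_zero]; ring
  have k7 : ∀ t, T.x6 0 u * T.x7 t = T.x7 t * T.x6 0 u := fun t => R.r67 0 u t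
  have k8 : ∀ p v, T.x6 0 u * T.x8 p v = T.x8 p v * T.x6 0 u := fun p v => by
    have := R.r68 0 u p v
    rwa [zero_mul, x7_0, mul_one] at this
  have hc : ∀ {a b : U}, T.x6 0 u * a = a * T.x6 0 u → T.x6 0 u * b = b * T.x6 0 u →
      T.x6 0 u * (a * b) = a * b * T.x6 0 u := by
    intro a b ha hb
    rw [← mul_assoc, ha, mul_assoc, hb, mul_assoc]
  exact hc (hc (hc (hc (hc (hc (k2 _ _) (k3 _)) (k4 _ _)) (k5 _)) (k6 _ _)) (k7 _)) (k8 _ _)

theorem vv_comm (h2 : (2 : K) = 0) (u : K × K) {g : U} (hg : g ∈ T.QB) : vv T u * g = g * vv T u := by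
  unfold vv
  rw [mul_assoc, z6_comm T h2 _ hg, ← mul_assoc, z4_comm, mul_assoc]

theorem vv_add (u w : K × K) : vv T (u + w) = vv T u * vv T w := by
  unfold vv
  have e4 : T.x4 0 (u.1 + w.1) = T.x4 0 u.1 * T.x4 0 w.1 := by
    rw [T.rel.m4, map_zero, mul_zero, add_zero, add_zero]
  have e6 : T.x6 0 (u.2 + w.2) = T.x6 0 u.2 * T.x6 0 w.2 := by
    rw [T.rel.m6, map_zero, mul_zero, add_zero, add_zero]
  rw [Prod.fst_add, Prod.snd_add, e4, e6]
  have := z4_comm T w.1 (T.x6 0 u.2)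
  calc T.x4 0 u.1 * T.x4 0 w.1 * (T.x6 0 u.2 * T.x6 0 w.2)
      = T.x4 0 u.1 * (T.x4 0 w.1 * T.x6 0 u.2) * T.x6 0 w.2 := by group
    _ = T.x4 0 u.1 * (T.x6 0 u.2 * T.x4 0 w.1) * T.x6 0 w.2 := by rw [this]
    _ = _ := by group

theorem vv_zero : vv T 0 = 1 := by
  have h := vv_add T 0 0
  rw [add_zero] at h
  exact mul_eq_left.1 h.symm

theorem vv_self (h2 : (2 : K) = 0) (u : K × K) : vv T u * vv T u = 1 := by
  rw [← vv_add, ← vv_zero T]
  congr 1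
  apply Prod.ext
  · show u.1 + u.1 = 0
    linear_combination u.1 * h2
  · show u.2 + u.2 = 0
    linear_combination u.2 * h2

theorem vv_injective : Function.Injective (vv T) := by
  intro u w h
  have key : ∀ u : K × K, T.el ⟨0, 0, 0, 0, 0, u.1, 0, 0, u.2, 0, 0, 0⟩ = vv T u := by
    intro u
    show T.x1 0 * T.x2 0 0 * T.x3 0 * T.x4 0 u.1 * T.x5 0 * T.x6 0 u.2 * T.x7 0 * T.x8 0 0 = _
    rw [x1_0, x2_0, x3_0, x5_0, x7_0, x8_0, one_mul, one_mul, one_mul, mul_one, mul_one, mul_one]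
    rfl
  rw [← key, ← key] at h
  have h1 := T.bij.1 h
  simp only [Cd.mk.injEq, true_and, and_true] at h1
  exact Prod.ext h1.1 h1.2

/-! ### the centre of `QB` -/

/-- `y g = g y vv(u)` -/
def CM (y g : U) (u : K × K) : Prop := g ∈ T.QB ∧ y * g = g * y * vv T u

section
variable {T}

theorem CM.mul (h2 : (2 : K) = 0) {y g g' : U} {u u' : K × K} (h : CM T y g u) (h' : CM T y g' u') :
    CM T y (g * g') (u + u') := by
  refine ⟨mul_mem h.1 h'.1, ?_⟩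
  calc y * (g * g') = y * g * g' := by group
    _ = g * y * vv T u * g' := by rw [h.2]
    _ = g * y * (vv T u * g') := by group
    _ = g * y * (g' * vv T u) := by rw [vv_comm T h2 u h'.1]
    _ = g * (y * g') * vv T u := by group
    _ = g * (g' * y * vv T u') * vv T u := by rw [h'.2]
    _ = g * g' * y * (vv T u' * vv T u) := by group
    _ = g * g' * y * (vv T (u + u')) := by rw [add_comm u u', vv_add]

theorem CM.eq_zero {y g : U} {u : K × K} (h : CM T y g u) (hc : y * g = g * y) : u = 0 := by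
  have h1 := h.2
  rw [hc] at h1
  apply vv_injective T
  rw [vv_zero]
  exact mul_eq_left.1 h1.symm

theorem CM.of_comm {y g : U} (hg : g ∈ T.QB) (h : y * g = g * y) : CM T y g 0 := ⟨hg, by rw [vv_zero, mul_one, h]⟩

/-- from the relation in the other order -/
theorem CM.of_rel (h2 : (2 : K) = 0) {y g : U} {u : K × K} (hg : g ∈ T.QB) (_hy : y ∈ T.QB)
    (h : g * y = y * g * vv T u) : CM T y g u := by
  refine ⟨hg, ?_⟩
  rw [h, mul_assoc, vv_self T h2, mul_one]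

theorem vv_left (a : K) : vv T (a, 0) = T.x4 0 a := by
  show T.x4 0 a * T.x6 0 0 = _
  rw [x6_0, mul_one]

theorem vv_right (a : K) : vv T (0, a) = T.x6 0 a := by
  show T.x4 0 0 * T.x6 0 a = _
  rw [x4_0, one_mul]

end

theorem center_aux (h2 : (2 : K) = 0) {g : U} (hg : g ∈ T.QB) (hc : ∀ y ∈ T.QB, y * g = g * y) :
    ∃ u, g = vv T u := by
  obtain ⟨a2, b2, a3, a4, b4, a5, a6, b6, a7, a8, b8, rfl⟩ := exists_B T h2 hg
  have R := T.rel
  -- `x5`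
  have s1 : CM T (T.x5 1) (T.x2 a2 b2 * T.x3 a3 * T.x4 a4 b4 * T.x5 a5 * T.x6 a6 b6 * T.x7 a7 * T.x8 a8 b8)
      ((a2, 0) + 0 + 0 + 0 + 0 + 0 + (0, a8)) := by
    refine (((((CM.mul h2 (CM.mul h2 ?_ ?_) ?_).mul h2 ?_).mul h2 ?_).mul h2 ?_).mul h2 ?_)
    · refine CM.of_rel h2 (x2_B _ _) (x5_B _) ?_
      rw [vv_left, R.r25, mul_one]
    · exact CM.of_comm (x3_B _) (R.r35 _ _).symm
    · exact CM.of_comm (x4_B _ _) (R.r45 _ _ _).symm
    · exact CM.of_comm (x5_B _) (by rw [R.m5, R.m5, add_comm])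
    · exact CM.of_comm (x6_B _ _) (R.r56 _ _ _)
    · exact CM.of_comm (x7_B _) (R.r57 _ _)
    · refine ⟨x8_B _ _, ?_⟩
      rw [vv_right, R.r58, one_mul]
  have t1 := s1.eq_zero (hc _ (x5_B _))
  simp only [add_zero, Prod.mk_add_mk, zero_add, Prod.mk_eq_zero] at t1
  obtain ⟨rfl, rfl⟩ := t1
  -- `x3`
  have s2 : CM T (T.x3 1) (T.x2 0 b2 * T.x3 a3 * T.x4 a4 b4 * T.x5 a5 * T.x6 a6 b6 * T.x7 a7 * T.x8 0 b8)
      (0 + 0 + 0 + 0 + (a6, 0) + 0 + (0, b8)) := by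
    refine (((((CM.mul h2 (CM.mul h2 ?_ ?_) ?_).mul h2 ?_).mul h2 ?_).mul h2 ?_).mul h2 ?_)
    · exact CM.of_comm (x2_B _ _) (R.r23 _ _ _).symm
    · exact CM.of_comm (x3_B _) (by rw [R.m3, R.m3, add_comm])
    · exact CM.of_comm (x4_B _ _) (R.r34 _ _ _)
    · exact CM.of_comm (x5_B _) (R.r35 _ _)
    · refine ⟨x6_B _ _, ?_⟩
      rw [vv_left, R.r36, one_mul]
    · exact CM.of_comm (x7_B _) (R.r37 _ _)
    · refine ⟨x8_B _ _, ?_⟩
      rw [vv_right, R.r38, map_zero, mul_zero, mul_zero, x4_0, mul_one, x5_0, mul_one, zero_mul, zero_add, one_mul]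
  have t2 := s2.eq_zero (hc _ (x3_B _))
  simp only [add_zero, Prod.mk_add_mk, zero_add, Prod.mk_eq_zero] at t2
  obtain ⟨rfl, rfl⟩ := t2
  -- `x7`
  have s3 : CM T (T.x7 1) (T.x2 0 b2 * T.x3 a3 * T.x4 a4 b4 * T.x5 a5 * T.x6 0 b6 * T.x7 a7 * T.x8 0 0)
      ((b2, 0) + 0 + (0, a4) + 0 + 0 + 0 + 0) := by
    refine (((((CM.mul h2 (CM.mul h2 ?_ ?_) ?_).mul h2 ?_).mul h2 ?_).mul h2 ?_).mul h2 ?_)
    · refine CM.of_rel h2 (x2_B _ _) (x7_B _) ?_
      rw [vv_left, R.r27]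
      simp only [map_zero, zero_mul, zero_add, mul_one, x5_0, x6_0]
    · exact CM.of_comm (x3_B _) (R.r37 _ _).symm
    · refine CM.of_rel h2 (x4_B _ _) (x7_B _) ?_
      rw [vv_right, R.r47, mul_one]
    · exact CM.of_comm (x5_B _) (R.r57 _ _).symm
    · exact CM.of_comm (x6_B _ _) (R.r67 _ _ _).symm
    · exact CM.of_comm (x7_B _) (by rw [R.m7, R.m7, add_comm])
    · exact CM.of_comm (x8_B _ _) (R.r78 _ _ _)
  have t3 := s3.eq_zero (hc _ (x7_B _))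
  simp only [add_zero, Prod.mk_add_mk, zero_add, Prod.mk_eq_zero] at t3
  obtain ⟨rfl, rfl⟩ := t3
  rw [x2_0, x8_0, one_mul, mul_one] at hc ⊢
  -- `x6`
  have s4 : CM T (T.x6 1 0) (T.x3 a3 * T.x4 0 b4 * T.x5 a5 * T.x6 0 b6 * T.x7 a7) ((a3, 0) + 0 + 0 + 0 + 0) := by
    refine ((CM.mul h2 (CM.mul h2 ?_ ?_) ?_).mul h2 ?_).mul h2 ?_
    · refine CM.of_rel h2 (x3_B _) (x6_B _ _) ?_
      rw [vv_left, R.r36, mul_one]
    · exact CM.of_comm (x4_B _ _) (z4_comm T _ _).symm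
    · exact CM.of_comm (x5_B _) (R.r56 _ _ _).symm
    · exact CM.of_comm (x6_B _ _) (z6_comm T h2 _ (x6_B _ _)).symm
    · exact CM.of_comm (x7_B _) (R.r67 _ _ _)
  have t4 := s4.eq_zero (hc _ (x6_B _ _))
  simp only [add_zero, Prod.mk_eq_zero, and_true] at t4
  obtain rfl := t4
  rw [x3_0, one_mul] at hc ⊢
  -- `x4`
  have s5 : CM T (T.x4 1 0) (T.x4 0 b4 * T.x5 a5 * T.x6 0 b6 * T.x7 a7) (0 + 0 + 0 + (0, a7)) := by
    refine (CM.mul h2 (CM.mul h2 ?_ ?_) ?_).mul h2 ?_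
    · exact CM.of_comm (x4_B _ _) (z4_comm T _ _).symm
    · exact CM.of_comm (x5_B _) (R.r45 _ _ _)
    · exact CM.of_comm (x6_B _ _) (z6_comm T h2 _ (x4_B _ _)).symm
    · refine ⟨x7_B _, ?_⟩
      rw [vv_right, R.r47, one_mul]
  have t5 := s5.eq_zero (hc _ (x4_B _ _))
  simp only [add_zero, zero_add, Prod.mk_eq_zero, true_and] at t5
  obtain rfl := t5
  rw [x7_0, mul_one] at hc ⊢
  -- `x8`
  have s6 : CM T (T.x8 1 0) (T.x4 0 b4 * T.x5 a5 * T.x6 0 b6) (0 + (0, a5) + 0) := by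
    refine CM.mul h2 (CM.mul h2 ?_ ?_) ?_
    · exact CM.of_comm (x4_B _ _) (z4_comm T _ _).symm
    · refine CM.of_rel h2 (x5_B _) (x8_B _ _) ?_
      rw [vv_right, R.r58, mul_one]
    · exact CM.of_comm (x6_B _ _) (z6_comm T h2 _ (x8_B _ _)).symm
  have t6 := s6.eq_zero (hc _ (x8_B _ _))
  simp only [add_zero, zero_add, Prod.mk_eq_zero, true_and] at t6
  obtain rfl := t6
  rw [x5_0, mul_one]
  exact ⟨(b4, b6), rfl⟩

/-- the element of `QB` -/
def vB (u : K × K) : T.QB := ⟨vv T u, vv_mem T u⟩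

theorem vB_add (u w : K × K) : vB T (u + w) = vB T u * vB T w := Subtype.ext (vv_add T u w)

theorem vB_injective : Function.Injective (vB T) := fun _ _ h => vv_injective T (congrArg Subtype.val h)

theorem center_iff (h2 : (2 : K) = 0) (e : T.QB) : (∀ y : T.QB, y * e = e * y) ↔ ∃ u, e = vB T u := by
  constructor
  · intro h
    obtain ⟨u, hu⟩ := center_aux T h2 e.2 (fun y hy => congrArg Subtype.val (h ⟨y, hy⟩))
    exact ⟨u, Subtype.ext hu⟩
  · rintro ⟨u, rfl⟩ y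
    exact Subtype.ext (vv_comm T h2 u y.2).symm

section Pi

variable (h2 : (2 : K) = 0)
include h2

theorem exists_fn (γ : MulAut T.QB) (u : K × K) : ∃ w, γ (vB T u) = vB T w := by
  rw [← center_iff T h2]
  intro y
  obtain ⟨z, rfl⟩ := γ.surjective y
  rw [← map_mul, ← map_mul, (center_iff T h2 (vB T u)).2 ⟨u, rfl⟩ z]

/-- the action on `V` -/
noncomputable def fn (γ : MulAut T.QB) (u : K × K) : K × K := (exists_fn T h2 γ u).choose

theorem fn_spec (γ : MulAut T.QB) (u : K × K) : γ (vB T u) = vB T (fn T h2 γ u) := (exists_fn T h2 γ u).choose_spec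

theorem fn_mul (γ γ' : MulAut T.QB) (u : K × K) : fn T h2 (γ * γ') u = fn T h2 γ (fn T h2 γ' u) := by
  apply vB_injective T
  rw [← fn_spec, ← fn_spec, ← fn_spec]
  rfl

theorem fn_one (u : K × K) : fn T h2 1 u = u := by
  apply vB_injective T
  rw [← fn_spec]
  rfl

theorem fn_add (γ : MulAut T.QB) (u w : K × K) : fn T h2 γ (u + w) = fn T h2 γ u + fn T h2 γ w := by
  apply vB_injective T
  rw [← fn_spec, vB_add, map_mul, fn_spec T h2, fn_spec T h2, vB_add]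

/-- **The action on `V`.** -/
noncomputable def pi : MulAut T.QB →* A2 K where
  toFun γ := mk
    { toFun := fn T h2 γ
      invFun := fn T h2 γ⁻¹
      left_inv := fun u => by rw [← fn_mul, inv_mul_cancel, fn_one]
      right_inv := fun u => by rw [← fn_mul, mul_inv_cancel, fn_one]
      map_add' := fn_add T h2 γ }
  map_one' := ext' fun u => fn_one T h2 u
  map_mul' γ γ' := ext' fun u => fn_mul T h2 γ γ' u

theorem pi_spec (γ : MulAut T.QB) (u : K × K) : γ (vB T u) = vB T (pi T h2 γ u) := fn_spec T h2 γ u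

theorem pi_eq {γ : MulAut T.QB} {u w : K × K} (h : ((γ (vB T u) : T.QB) : U) = vv T w) : pi T h2 γ u = w := by
  apply vB_injective T
  rw [← pi_spec]
  exact Subtype.ext h

end Pi

end Cfsg.Agent.H7.TF

end

section

namespace Cfsg.Agent.H7.TF

open Matrix Cfsg Cfsg.FusionSystem Cfsg.Agent.H756.PU Cfsg.Agent.H745.TF Cfsg.Agent.H7.PU.Core Cfsg.Agent.H7.PU.Shear
open Cfsg.Agent.H659.TF (x2_B x3_B x4_B x5_B x6_B x7_B x8_B exists_Pi Pi H3)
open Cfsg.Agent.H802 (exists_conjAut mem_autInducedBy_iff)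

universe u v

/-- (TI') an automorphism in `Γ` which fixes `Z4` normalizes `Aut_U(QB)` -/
def StTIB : Prop :=
  ∀ {K : Type u} [Field K] {σ : K →+* K} {m : ℕ}, HypK σ m → ∀ {U : Type v} [Group U] (T : TF σ U)
    (Γ : Subgroup (MulAut T.QB)), autInducedBy ⊤ T.QB ≤ Γ →
    (∀ P : Subgroup (MulAut T.QB), P ≤ Γ → IsPGroup 2 P → ∃ g ∈ Γ, ∀ x ∈ P, g * x * g⁻¹ ∈ autInducedBy ⊤ T.QB) →
    ∀ γ ∈ Γ, (∀ u, ∃ u', γ (vB T (u, 0)) = vB T (u', 0)) → NormAut ⊤ γ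

variable {K : Type u} [Field K] {σ : K →+* K} {m : ℕ} {U : Type v} [Group U] (T : TF σ U)

section basic

variable (h2 : (2 : K) = 0)
include h2

theorem mem_B_iff {π : U →* H3 K} (P : Pi T π) {g : U} : g ∈ T.QB ↔ (π g).t = 0 := by
  refine ⟨P.B_t, fun h => ?_⟩
  obtain ⟨c, rfl⟩ := T.bij.2 g
  have h3 : (π (T.el c)).t = 0 := h
  rw [P.el_t] at h3
  show T.x1 c.a1 * _ * _ * _ * _ * _ * _ * _ ∈ _
  rw [h3, x1_0, one_mul]
  exact mul_mem (mul_mem (mul_mem (mul_mem (mul_mem (mul_mem (x2_B _ _) (x3_B _)) (x4_B _ _)) (x5_B _)) (x6_B _ _))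
    (x7_B _)) (x8_B _ _)

theorem conj_mem_B {g : U} (x : U) : x * g * x⁻¹ ∈ T.QB ↔ g ∈ T.QB := by
  obtain ⟨π, P⟩ := exists_Pi T h2
  rw [mem_B_iff T h2 P, mem_B_iff T h2 P, map_mul, map_mul, map_inv, H3.mul_t, H3.mul_t, H3.inv_t]
  constructor
  · intro h
    linear_combination h
  · intro h
    rw [h]
    ring

theorem exists_conj (x : U) : ∃ γ : MulAut T.QB, ∀ e : T.QB, ((γ e : T.QB) : U) = x * e * x⁻¹ := by
  apply exists_conjAut
  rw [Subgroup.mem_normalizer_iff]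
  intro g
  exact (conj_mem_B T h2 x).symm

theorem exists_conj_aut (x : U) : ∃ γ ∈ autInducedBy ⊤ T.QB, ∀ e : T.QB, ((γ e : T.QB) : U) = x * e * x⁻¹ := by
  obtain ⟨γ, hγ⟩ := exists_conj T h2 x
  exact ⟨γ, (mem_autInducedBy_iff _ _ _).2 ⟨x, Subgroup.mem_top x, hγ⟩, hγ⟩

theorem exists_x1 (x : U) : ∃ t, ∃ b ∈ T.QB, x = T.x1 t * b := by
  obtain ⟨c, rfl⟩ := T.bij.2 x
  refine ⟨c.a1, T.x2 c.a2 c.b2 * T.x3 c.a3 * T.x4 c.a4 c.b4 * T.x5 c.a5 * T.x6 c.a6 c.b6 * T.x7 c.a7 * T.x8 c.a8 c.b8,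
    mul_mem (mul_mem (mul_mem (mul_mem (mul_mem (mul_mem (x2_B _ _) (x3_B _)) (x4_B _ _)) (x5_B _)) (x6_B _ _))
    (x7_B _)) (x8_B _ _), ?_⟩
  show T.x1 c.a1 * T.x2 c.a2 c.b2 * T.x3 c.a3 * T.x4 c.a4 c.b4 * T.x5 c.a5 * T.x6 c.a6 c.b6 * T.x7 c.a7 *
      T.x8 c.a8 c.b8 = _
  simp only [mul_assoc]

theorem x1_vv (t : K) (u : K × K) : T.x1 t * vv T u = vv T (u.1 + t * u.2, u.2) * T.x1 t := by
  have R := T.rel
  have h6 : T.x1 t * T.x6 0 u.2 = T.x6 0 u.2 * T.x1 t * T.x4 0 (t * u.2) := by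
    rw [R.r16]
    simp only [map_zero, mul_zero, zero_add, x2_0, x3_0, mul_one]
  have h4 := z4_comm T u.1 (T.x1 t)
  have e4 : T.x4 0 (u.1 + t * u.2) = T.x4 0 (t * u.2) * T.x4 0 u.1 := by
    rw [R.m4, map_zero, mul_zero, add_zero, add_zero, add_comm]
  show T.x1 t * (T.x4 0 u.1 * T.x6 0 u.2) = T.x4 0 (u.1 + t * u.2) * T.x6 0 u.2 * T.x1 t
  calc T.x1 t * (T.x4 0 u.1 * T.x6 0 u.2) = (T.x1 t * T.x4 0 u.1) * T.x6 0 u.2 := by group
    _ = T.x4 0 u.1 * (T.x1 t * T.x6 0 u.2) := by rw [← h4]; group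
    _ = T.x4 0 u.1 * T.x6 0 u.2 * T.x1 t * T.x4 0 (t * u.2) := by rw [h6]; group
    _ = T.x4 0 (t * u.2) * (T.x4 0 u.1 * T.x6 0 u.2 * T.x1 t) := (z4_comm T _ _).symm
    _ = _ := by rw [e4]; group

theorem pi_conj {γ : MulAut T.QB} {t : K} {b : U} (hb : b ∈ T.QB)
    (hγ : ∀ e : T.QB, ((γ e : T.QB) : U) = T.x1 t * b * e * (T.x1 t * b)⁻¹) : pi T h2 γ = tau t := by
  apply ext'
  intro u
  apply pi_eq
  rw [hγ, tau_apply]
  show T.x1 t * b * vv T u * (T.x1 t * b)⁻¹ = _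
  rw [mul_inv_eq_iff_eq_mul, mul_assoc, ← vv_comm T h2 u hb, ← mul_assoc, x1_vv T h2, mul_assoc]

theorem pi_mem_TG {γ : MulAut T.QB} (hγ : γ ∈ autInducedBy ⊤ T.QB) : pi T h2 γ ∈ TG K := by
  obtain ⟨x, -, hx⟩ := (mem_autInducedBy_iff _ _ _).1 hγ
  obtain ⟨t, b, hb, rfl⟩ := exists_x1 T h2 x
  rw [pi_conj T h2 hb hx]
  exact tau_mem _

theorem exists_of_mem_TG {g : A2 K} (hg : g ∈ TG K) : ∃ γ ∈ autInducedBy ⊤ T.QB, pi T h2 γ = g := by
  obtain ⟨r, rfl⟩ := hg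
  obtain ⟨γ, hγ, hx⟩ := exists_conj_aut T h2 (T.x1 r)
  exact ⟨γ, hγ, pi_conj T h2 (one_mem _) (by simpa only [_root_.mul_one, _root_.Subtype.forall] using hx)⟩

theorem pi_tor {δ : MulAut T.QB} {d : MulAut U} {f g : K} {τ : K ≃+* K} (hd : T.IsTor d f g τ) (hδ : TF.IsR d δ)
    (u : K × K) : pi T h2 δ u = (σ (f * g) * g * σ (σ (f * g) * g) * τ u.1, f * g * σ g * σ (f * g * σ g) * τ u.2) := by
  apply pi_eq
  rw [hδ]
  show d (T.x4 0 u.1 * T.x6 0 u.2) = _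
  rw [map_mul, hd.e4, hd.e6, map_zero, mul_zero, mul_zero]
  rfl

theorem pi_wb {γ : MulAut T.QB} (hγ : T.IsWb γ) (u : K × K) : pi T h2 γ u = (u.2, u.1) := by
  apply pi_eq
  have h1 : vB T u = ⟨T.x4 0 u.1, x4_B _ _⟩ * ⟨T.x6 0 u.2, x6_B _ _⟩ := rfl
  rw [h1, map_mul]
  show ((γ ⟨T.x4 0 u.1, x4_B _ _⟩ : T.QB) : U) * ((γ ⟨T.x6 0 u.2, x6_B _ _⟩ : T.QB) : U) = _
  rw [hγ.e4 _ 0 u.1 rfl, hγ.e6 _ 0 u.2 rfl, ← z4_comm]
  rfl

theorem IsTor_unique {d d' : MulAut U} {f g : K} {τ : K ≃+* K} (hd : T.IsTor d f g τ) (hd' : T.IsTor d' f g τ) :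
    d = d' := by
  have : d.toMonoidHom = d'.toMonoidHom := by
    apply Cfsg.Agent.H805.TF.hom_ext T
    · intro t; exact (hd.e1 t).trans (hd'.e1 t).symm
    · intro p u; exact (hd.e2 p u).trans (hd'.e2 p u).symm
    · intro t; exact (hd.e3 t).trans (hd'.e3 t).symm
    · intro p u; exact (hd.e4 p u).trans (hd'.e4 p u).symm
    · intro t; exact (hd.e5 t).trans (hd'.e5 t).symm
    · intro p u; exact (hd.e6 p u).trans (hd'.e6 p u).symm
    · intro t; exact (hd.e7 t).trans (hd'.e7 t).symm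
    · intro p u; exact (hd.e8 p u).trans (hd'.e8 p u).symm
  ext1 x
  exact DFunLike.congr_fun this x

omit h2 in
theorem isTor_one : T.IsTor (1 : MulAut U) 1 1 (RingEquiv.refl K) := by
  refine ⟨one_ne_zero, one_ne_zero, ?_, ?_, ?_, ?_, ?_, ?_, ?_, ?_⟩ <;> intros <;> simp only [_root_.MulAut.one_apply, _root_.RingEquiv.refl_apply, _root_.one_mul, _root_.mul_one, _root_.map_one, _root_.one_pow]

theorem exists_restr {d : MulAut U} {f g : K} {τ : K ≃+* K} (hd : T.IsTor d f g τ) :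
    ∃ δ : MulAut T.QB, TF.IsR d δ := by
  obtain ⟨π, P⟩ := exists_Pi T h2
  have key : ∀ x, (π (d x)).t = f * τ (π x).t := by
    intro x
    obtain ⟨c, rfl⟩ := T.bij.2 x
    show (π (d (T.el c))).t = f * τ (π (T.el c)).t
    rw [P.el_t]
    unfold TF.el
    simp only [map_mul, hd.e1, hd.e2, hd.e3, hd.e4, hd.e5, hd.e6, hd.e7, hd.e8, H3.mul_t, P.e1, P.e2, P.e3, P.e4, P.e5,
      P.e6, P.e7, P.e8, H3.one_t, add_zero]
  have hmem : ∀ x : U, d x ∈ T.QB ↔ x ∈ T.QB := by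
    intro x
    rw [mem_B_iff T h2 P, mem_B_iff T h2 P, key, mul_eq_zero, map_eq_zero]
    simp [hd.nf]
  refine ⟨{ toFun := fun e => ⟨d e, (hmem _).2 e.2⟩
            invFun := fun e => ⟨d.symm e, (hmem _).1 (by rw [MulEquiv.apply_symm_apply]; exact e.2)⟩
            left_inv := fun e => Subtype.ext (d.symm_apply_apply _)
            right_inv := fun e => Subtype.ext (d.apply_symm_apply _)
            map_mul' := fun x y => Subtype.ext (map_mul d _ _) }, fun e => rfl⟩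

end basic

section fld

variable (hK : HypK σ m)
include hK

theorem ns_inj {y : K} (h : y * σ y = 1) : y = 1 := by
  have hy : y ≠ 0 := by
    rintro rfl
    rw [zero_mul] at h
    exact zero_ne_one h
  have h1 : σ y = y⁻¹ := (eq_inv_of_mul_eq_one_right h)
  have h3 : σ (σ y) = y := by rw [h1, map_inv₀, h1, inv_inv]
  rw [hK.sq] at h3
  have h4 : y * (y - 1) = 0 := by linear_combination h3
  rcases mul_eq_zero.1 h4 with h5 | h5
  · exact absurd h5 hy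
  · linear_combination h5

theorem fg_one {f g : K} (hg : g ≠ 0) (h4 : σ (f * g) * g * σ (σ (f * g) * g) = 1)
    (h6 : f * g * σ g * σ (f * g * σ g) = 1) : f = 1 ∧ g = 1 := by
  have e4 := ns_inj hK h4
  have e6 := ns_inj hK h6
  have hsg : σ g ≠ 0 := by rwa [ne_eq, map_eq_zero]
  have h1 : f * g = (σ g)⁻¹ := eq_inv_of_mul_eq_one_left e6
  rw [h1, map_inv₀, hK.sq] at e4
  have hg1 : g = 1 := by
    field_simp at e4
    exact e4.symm
  subst hg1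
  refine ⟨?_, rfl⟩
  rwa [map_one, inv_one, mul_one] at h1

end fld

section Gamma

variable (hK : HypK σ m) (hG : StGrp.{u, v})
include T hK hG

theorem pow_U (x : U) : ∃ k, x ^ 2 ^ k = 1 := by
  obtain ⟨k, hk⟩ := (hG hK T).2.1 ⟨x, Subgroup.mem_top x⟩
  exact ⟨k, congrArg Subtype.val hk⟩

theorem finite_U : Finite U := by
  have := (hG hK T).1
  apply Nat.finite_of_card_ne_zero
  rw [this]
  positivity

theorem finite_aut : Finite (MulAut T.QB) := by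
  have : Finite U := finite_U T hK hG
  exact Finite.of_injective (fun e : MulAut T.QB => (e : T.QB → T.QB)) DFunLike.coe_injective

theorem pow_aut {γ : MulAut T.QB} (hγ : γ ∈ autInducedBy ⊤ T.QB) : ∃ k, γ ^ 2 ^ k = 1 := by
  obtain ⟨x, -, hx⟩ := (mem_autInducedBy_iff _ _ _).1 hγ
  obtain ⟨k, hk⟩ := pow_U T hK hG x
  refine ⟨k, ?_⟩
  have key : ∀ j : ℕ, ∀ e : T.QB, (((γ ^ j) e : T.QB) : U) = x ^ j * e * (x ^ j)⁻¹ := by
    intro j
    induction j with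
    | zero => intro e; simp
    | succ j ih =>
      intro e
      rw [pow_succ', MulAut.mul_apply, hx, ih, pow_succ']
      group
  ext1 e
  apply Subtype.ext
  rw [key, hk]
  simp

variable {T} (hTI : StTIB.{u, v}) {Γ : Subgroup (MulAut T.QB)} {D : Subgroup (MulAut U)} (hp : T.Par T.QB Γ D)
include hTI hp

/-- an element of the kernel is a conjugation by an element of `QB` -/
theorem ker_form {γ : MulAut T.QB} (hγ : γ ∈ Γ) (h1 : pi T hK.two γ = 1) :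
    ∃ b ∈ T.QB, ∀ e : T.QB, ((γ e : T.QB) : U) = b * e * b⁻¹ := by
  have hN : NormAut ⊤ γ := by
    refine hTI hK T Γ hp.indu hp.syl γ hγ fun u => ⟨u, ?_⟩
    rw [pi_spec T hK.two, h1]
    rfl
  obtain ⟨x, d, hd, hx⟩ := hp.norm γ hγ hN
  obtain ⟨f, g, τ, hdt⟩ := (hG hK T).2.2.2.1 d (hp.D_le hd)
  obtain ⟨δ, hδ⟩ := exists_restr T hK.two hdt
  obtain ⟨t, b, hb, rfl⟩ := exists_x1 T hK.two x
  obtain ⟨c, hc⟩ := exists_conj T hK.two (T.x1 t * b)
  have hγc : γ = c * δ := by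
    ext1 e
    apply Subtype.ext
    rw [MulAut.mul_apply, hc, hδ, hx]
  have h3 : ∀ u : K × K, (σ (f * g) * g * σ (σ (f * g) * g) * τ u.1 + t * (f * g * σ g * σ (f * g * σ g) * τ u.2),
      f * g * σ g * σ (f * g * σ g) * τ u.2) = u := by
    intro u
    have h4 : pi T hK.two γ u = u := by rw [h1]; rfl
    rw [hγc, map_mul, LinearEquiv.mul_apply, pi_conj T hK.two hb hc, tau_apply, pi_tor T hK.two hdt hδ] at h4
    exact h4
  have e4 : σ (f * g) * g * σ (σ (f * g) * g) = 1 := by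
    have := congrArg Prod.fst (h3 (1, 0))
    simpa only [_root_.map_mul, _root_.map_one, _root_.mul_one, _root_.map_zero, _root_.MulZeroClass.mul_zero, _root_.add_zero] using this
  have e6 : f * g * σ g * σ (f * g * σ g) = 1 := by
    have := congrArg Prod.snd (h3 (0, 1))
    simpa only [_root_.map_mul, _root_.map_one, _root_.mul_one] using this
  obtain ⟨rfl, rfl⟩ := fg_one hK hdt.ng e4 e6
  have ht : t = 0 := by
    have := congrArg Prod.fst (h3 (0, 1))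
    simpa only [_root_.mul_one, _root_.map_one, _root_.map_zero, _root_.MulZeroClass.mul_zero, _root_.zero_add] using this
  have hτ : τ = RingEquiv.refl K := by
    ext y
    have := congrArg Prod.fst (h3 (y, 0))
    simpa only [_root_.RingEquiv.refl_apply, _root_.mul_one, _root_.map_one, _root_.one_mul, _root_.map_zero, _root_.MulZeroClass.mul_zero, _root_.add_zero] using this
  subst hτ
  have hd1 : d = 1 := IsTor_unique T hK.two hdt (isTor_one T)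
  subst hd1
  subst ht
  refine ⟨b, hb, fun e => ?_⟩
  rw [hx, x1_0, one_mul]
  rfl

theorem ker_le {γ : MulAut T.QB} (hγ : γ ∈ Γ) (h1 : pi T hK.two γ = 1) : γ ∈ autInducedBy ⊤ T.QB := by
  obtain ⟨b, -, hb⟩ := ker_form hK hG hTI hp hγ h1
  exact (mem_autInducedBy_iff _ _ _).2 ⟨b, Subgroup.mem_top b, hb⟩

theorem mem_aut_iff {γ : MulAut T.QB} (hγ : γ ∈ Γ) : pi T hK.two γ ∈ TG K ↔ γ ∈ autInducedBy ⊤ T.QB := by
  constructor
  · intro h1
    obtain ⟨x, hx, hxγ⟩ := exists_of_mem_TG T hK.two h1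
    have h2 : x⁻¹ * γ ∈ autInducedBy ⊤ T.QB := by
      apply ker_le hK hG hTI hp (mul_mem (_root_.InvMemClass.inv_mem (hp.indu hx)) hγ)
      rw [map_mul, map_inv, hxγ, inv_mul_cancel]
    have h3 := mul_mem hx h2
    rwa [mul_inv_cancel_left] at h3
  · intro h1
    exact pi_mem_TG T hK.two h1

/-- **The hypotheses of `Core`.** -/
theorem hyp : Hyp K 2 (Γ.map (pi T hK.two)) := by
  have := finite_aut T hK hG
  have hchar : CharP K 2 := CharTwo.of_one_ne_zero_of_two_eq_zero one_ne_zero hK.two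
  refine ⟨hK.fin, Nat.prime_two, hchar, ?_, ?_, ?_⟩
  · intro g hg
    obtain ⟨x, hx, rfl⟩ := exists_of_mem_TG T hK.two hg
    exact ⟨x, hp.indu hx, rfl⟩
  · intro P hPG hP hTP
    have hP' : IsPGroup 2 ↥(Γ ⊓ P.comap (pi T hK.two)) := by
      rintro ⟨x, hx, hx1⟩
      obtain ⟨k, hk⟩ := hP ⟨pi T hK.two x, hx1⟩
      have hk' : pi T hK.two x ^ 2 ^ k = 1 := congrArg Subtype.val hk
      have h1 : pi T hK.two (x ^ 2 ^ k) = 1 := by rw [map_pow, hk']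
      obtain ⟨j, hj⟩ := pow_aut T hK hG (ker_le hK hG hTI hp (pow_mem hx _) h1)
      refine ⟨k + j, Subtype.ext ?_⟩
      show x ^ 2 ^ (k + j) = 1
      rw [pow_add, pow_mul, hj]
    obtain ⟨g, hg, hs⟩ := hp.syl _ inf_le_left hP'
    have hA : autInducedBy ⊤ T.QB ≤ Γ ⊓ P.comap (pi T hK.two) := fun x hx =>
      ⟨hp.indu hx, hTP (pi_mem_TG T hK.two hx)⟩
    have hcard : Nat.card ↥(Γ ⊓ P.comap (pi T hK.two)) ≤ Nat.card ↥(autInducedBy ⊤ T.QB) := by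
      refine Nat.card_le_card_of_injective (fun x => ⟨g * x.1 * g⁻¹, hs x.1 x.2⟩) ?_
      intro x y hxy
      have h1 : g * x.1 * g⁻¹ = g * y.1 * g⁻¹ := congrArg Subtype.val hxy
      exact Subtype.ext (mul_left_cancel (mul_right_cancel h1))
    have heq := Subgroup.eq_of_le_of_card_ge hA hcard
    intro y hy
    obtain ⟨x, hx, rfl⟩ := hPG hy
    have h2 : x ∈ Γ ⊓ P.comap (pi T hK.two) := ⟨hx, hy⟩
    rw [← heq] at h2
    exact pi_mem_TG T hK.two h2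
  · by_contra hno
    push Not at hno
    apply hp.nn
    intro γ hγ x hx
    have h1 := hno (pi T hK.two γ) ⟨γ, hγ, rfl⟩ (pi T hK.two x) (pi_mem_TG T hK.two hx)
    rw [← map_inv, ← map_mul, ← map_mul] at h1
    exact (mem_aut_iff hK hG hTI hp (mul_mem (mul_mem hγ (hp.indu hx)) (_root_.InvMemClass.inv_mem hγ))).1 h1

/-- elements which normalize the root group -/
theorem norm_form {γ : MulAut T.QB} (hγ : γ ∈ Γ) (hn : ∀ t ∈ TG K, pi T hK.two γ * t * (pi T hK.two γ)⁻¹ ∈ TG K) :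
    ∃ (c : MulAut T.QB) (r : K) (d : MulAut U) (f g : K) (τ : K ≃+* K) (δ : MulAut T.QB), c ∈ autInducedBy ⊤ T.QB ∧
      pi T hK.two c = tau r ∧ d ∈ D ∧ T.IsTor d f g τ ∧ TF.IsR d δ ∧ γ = c * δ := by
  have h1 : NormAut ⊤ γ := by
    intro x hx
    have h2 := hn _ (pi_mem_TG T hK.two hx)
    rw [← map_inv, ← map_mul, ← map_mul] at h2
    exact (mem_aut_iff hK hG hTI hp (mul_mem (mul_mem hγ (hp.indu hx)) (_root_.InvMemClass.inv_mem hγ))).1 h2
  obtain ⟨x, d, hd, hx⟩ := hp.norm γ hγ h1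
  obtain ⟨f, g, τ, hdt⟩ := (hG hK T).2.2.2.1 d (hp.D_le hd)
  obtain ⟨δ, hδ⟩ := exists_restr T hK.two hdt
  obtain ⟨c, hcA, hc⟩ := exists_conj_aut T hK.two x
  obtain ⟨t, b, hb, rfl⟩ := exists_x1 T hK.two x
  refine ⟨c, t, d, f, g, τ, δ, hcA, pi_conj T hK.two hb hc, hd, hdt, hδ, ?_⟩
  ext1 e
  apply Subtype.ext
  rw [MulAut.mul_apply, hc, hδ, hx]

/-- the diagonal elements -/
theorem diag_step {ψ : K →+ K}
    (h1 : ∀ M : Matrix.SpecialLinearGroup (Fin 2) K, ∃ l ∈ LG (Γ.map (pi T hK.two)), ∀ u,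
      sh ψ (l u) = ml (M : Matrix (Fin 2) (Fin 2) K) (sh ψ u)) {t : K} (ht : t ≠ 0) :
    (∃ d ∈ D, ∃ f g : K, T.IsTor d f g (RingEquiv.refl K) ∧ σ (f * g) * g * σ (σ (f * g) * g) = t ∧
      f * g * σ g * σ (f * g * σ g) = t⁻¹) ∧ ∃ r : K, ∀ u : K, r * (t⁻¹ * u) + ψ (t⁻¹ * u) = t * ψ u := by
  have hH := hyp hK hG hTI hp
  obtain ⟨l, hl, hM⟩ := h1 ⟨!![t, 0; 0, t⁻¹], by rw [Matrix.det_fin_two_of, mul_inv_cancel₀ ht]; ring⟩
  have hM' : ∀ u, sh ψ (l u) = (t * (sh ψ u).1, t⁻¹ * (sh ψ u).2) := by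
    intro u
    rw [hM]
    apply Prod.ext
    · show t * _ + 0 * _ = _
      ring
    · show 0 * _ + t⁻¹ * _ = _
      ring
  have hinj : ∀ u v, sh ψ u = sh ψ v → u = v := by
    intro u v huv
    have e2' : (sh ψ u).2 = (sh ψ v).2 := by rw [huv]
    have e1' : (sh ψ u).1 = (sh ψ v).1 := by rw [huv]
    have e2 : u.2 = v.2 := e2'
    have e1 : u.1 + ψ u.2 = v.1 + ψ v.2 := e1'
    rw [e2] at e1
    exact Prod.ext (add_right_cancel e1) e2
  have htau : ∀ r u, sh ψ (tau r u) = tau r (sh ψ u) := by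
    intro r u
    apply Prod.ext
    · show u.1 + r * u.2 + ψ u.2 = u.1 + ψ u.2 + r * u.2
      ring
    · rfl
  obtain ⟨γ, hγ, rfl⟩ := LG_le hH.le hl
  have hn : ∀ s ∈ TG K, pi T hK.two γ * s * (pi T hK.two γ)⁻¹ ∈ TG K := by
    rintro _ ⟨r, rfl⟩
    refine ⟨t * r * t, ?_⟩
    rw [mul_inv_eq_iff_eq_mul]
    apply ext'
    intro u
    rw [LinearEquiv.mul_apply, LinearEquiv.mul_apply]
    apply hinj
    rw [hM', htau, htau, hM']
    apply Prod.ext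
    · show t * ((sh ψ u).1 + r * (sh ψ u).2) = t * (sh ψ u).1 + t * r * t * (t⁻¹ * (sh ψ u).2)
      field_simp
    · rfl
  obtain ⟨c, r, d, f, g, τ, δ, hcA, hcr, hd, hdt, hδ, hγc⟩ := norm_form hK hG hTI hp hγ hn
  obtain ⟨c4, hc4⟩ : ∃ c4, c4 = σ (f * g) * g * σ (σ (f * g) * g) := ⟨_, rfl⟩
  obtain ⟨c6, hc6⟩ : ∃ c6, c6 = f * g * σ g * σ (f * g * σ g) := ⟨_, rfl⟩
  have hlu : ∀ u : K × K, pi T hK.two γ u = (c4 * τ u.1 + r * (c6 * τ u.2), c6 * τ u.2) := by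
    intro u
    rw [hγc, map_mul, LinearEquiv.mul_apply, pi_tor T hK.two hdt hδ, hcr, tau_apply, ← hc4, ← hc6]
  have hx1 : ∀ x, c4 * τ x = t * x := by
    intro x
    have h2 := congrArg Prod.fst (hM' (x, 0))
    rw [hlu] at h2
    simp only [sh, map_zero, mul_zero, add_zero] at h2
    exact h2
  have hx2 : ∀ x, c6 * τ x = t⁻¹ * x := by
    intro x
    have h2 := congrArg Prod.snd (hM' (0, x))
    rw [hlu] at h2
    exact h2
  have ex1 : c4 = t := by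
    have := hx1 1
    rwa [map_one, mul_one, mul_one] at this
  have ex2 : c6 = t⁻¹ := by
    have := hx2 1
    rwa [map_one, mul_one, mul_one] at this
  have eτ : τ = RingEquiv.refl K := by
    ext x
    have := hx1 x
    rw [ex1] at this
    exact mul_left_cancel₀ ht this
  subst eτ
  refine ⟨⟨d, hd, f, g, hdt, hc4.symm.trans ex1, hc6.symm.trans ex2⟩, r, fun u => ?_⟩
  have h2 := congrArg Prod.fst (hM' (0, u))
  rw [hlu] at h2
  simp only [sh, map_zero, mul_zero, zero_add, hx2] at h2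
  exact h2

end Gamma

/-- **(LB1)** -/
theorem stLB1 (hG : StGrp.{u, v}) (hTI : StTIB.{u, v}) : StLB1.{u, v} := by
  intro K _ σ m hK _ U _ T Γ D hp y hy α hα
  have hH := hyp hK hG hTI hp
  obtain ⟨ψ, h1, -⟩ := hH.exists_shear
  obtain ⟨⟨d, hd, f, g, hdt, h4, h6⟩, -⟩ := diag_step hK hG hTI hp h1 (t := y⁻¹) (inv_ne_zero hy)
  have hf := hdt.nf
  have hg := hdt.ng
  have h5 : (f * g ^ 2) * σ (f * g ^ 2) = 1 := by
    have h7 : (f * g ^ 2 * σ (f * g ^ 2)) * σ ((f * g ^ 2) * σ (f * g ^ 2)) = 1 := by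
      have h8 : (σ (f * g) * g * σ (σ (f * g) * g)) * (f * g * σ g * σ (f * g * σ g)) = 1 := by
        rw [h4, h6, inv_inv, inv_mul_cancel₀ hy]
      rw [← h8]
      simp only [map_mul, map_pow]
      ring
    exact ns_inj hK h7
  have h5' : f * g ^ 2 = 1 := ns_inj hK h5
  have ef : f = (g ^ 2)⁻¹ := eq_inv_of_mul_eq_one_left h5'
  have eg : g = y := by
    have h9 : f * g = g⁻¹ := by
      rw [ef]; field_simp
    rw [h9] at h4
    simp only [map_mul, map_inv₀, hK.sq] at h4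
    have hsg : σ g ≠ 0 := by rwa [ne_eq, map_eq_zero]
    field_simp at h4
    exact h4.symm
  rw [ef, eg] at hdt
  rw [IsTor_unique T hK.two hα hdt]
  exact hd

end Cfsg.Agent.H7.TF

end

section

namespace Cfsg.Agent.H7.TF

open Matrix Cfsg Cfsg.FusionSystem Cfsg.Agent.H756.PU Cfsg.Agent.H745.TF Cfsg.Agent.H7.PU.Core Cfsg.Agent.H7.PU.Shear
open Cfsg.Agent.H659.TF (x2_B x3_B x4_B x5_B x6_B x7_B x8_B exists_Pi Pi H3 exists_sq)
open Cfsg.Agent.H802 (exists_conjAut mem_autInducedBy_iff)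
open Cfsg.Agent.Omega.BTwo (cj mem_cj)

universe u v

variable {K : Type u} [Field K] {σ : K →+* K} {m : ℕ} {U : Type v} [Group U] (T : TF σ U)

/-! ### maps of `QB` -/

section ext

variable (h2 : (2 : K) = 0)
include h2

theorem ext_B {α β : MulAut T.QB} (e2 : ∀ p u, α ⟨T.x2 p u, x2_B p u⟩ = β ⟨T.x2 p u, x2_B p u⟩)
    (e3 : ∀ t, α ⟨T.x3 t, x3_B t⟩ = β ⟨T.x3 t, x3_B t⟩) (e4 : ∀ p u, α ⟨T.x4 p u, x4_B p u⟩ = β ⟨T.x4 p u, x4_B p u⟩)
    (e5 : ∀ t, α ⟨T.x5 t, x5_B t⟩ = β ⟨T.x5 t, x5_B t⟩) (e6 : ∀ p u, α ⟨T.x6 p u, x6_B p u⟩ = β ⟨T.x6 p u, x6_B p u⟩)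
    (e7 : ∀ t, α ⟨T.x7 t, x7_B t⟩ = β ⟨T.x7 t, x7_B t⟩) (e8 : ∀ p u, α ⟨T.x8 p u, x8_B p u⟩ = β ⟨T.x8 p u, x8_B p u⟩) :
    α = β := by
  ext1 e
  obtain ⟨g, hg⟩ := e
  obtain ⟨a2, b2, a3, a4, b4, a5, a6, b6, a7, a8, b8, rfl⟩ := exists_B T h2 hg
  have key : (⟨_, hg⟩ : T.QB) = ⟨T.x2 a2 b2, x2_B _ _⟩ * ⟨T.x3 a3, x3_B _⟩ * ⟨T.x4 a4 b4, x4_B _ _⟩ * ⟨T.x5 a5, x5_B _⟩ *
      ⟨T.x6 a6 b6, x6_B _ _⟩ * ⟨T.x7 a7, x7_B _⟩ * ⟨T.x8 a8 b8, x8_B _ _⟩ := rfl
  rw [key]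
  simp only [map_mul, e2, e3, e4, e5, e6, e7, e8]

end ext

/-! ### the torus -/

section torus

theorem tor_mul {d d' : MulAut U} {f g f' g' : K} (h : T.IsTor d f g (RingEquiv.refl K))
    (h' : T.IsTor d' f' g' (RingEquiv.refl K)) : T.IsTor (d * d') (f * f') (g * g') (RingEquiv.refl K) := by
  refine ⟨mul_ne_zero h.nf h'.nf, mul_ne_zero h.ng h'.ng, ?_, ?_, ?_, ?_, ?_, ?_, ?_, ?_⟩
  · intro t
    rw [MulAut.mul_apply, h'.e1, h.e1]
    congr 1
    simp only [RingEquiv.refl_apply]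
    ring
  · intro p u
    rw [MulAut.mul_apply, h'.e2, h.e2]
    congr 1 <;> (simp only [RingEquiv.refl_apply, map_mul]; ring)
  · intro t
    rw [MulAut.mul_apply, h'.e3, h.e3]
    congr 1
    simp only [RingEquiv.refl_apply, map_mul]
    ring
  · intro p u
    rw [MulAut.mul_apply, h'.e4, h.e4]
    congr 1 <;> (simp only [RingEquiv.refl_apply, map_mul]; ring)
  · intro t
    rw [MulAut.mul_apply, h'.e5, h.e5]
    congr 1
    simp only [RingEquiv.refl_apply, map_mul]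
    ring
  · intro p u
    rw [MulAut.mul_apply, h'.e6, h.e6]
    congr 1 <;> (simp only [RingEquiv.refl_apply, map_mul]; ring)
  · intro t
    rw [MulAut.mul_apply, h'.e7, h.e7]
    congr 1
    simp only [RingEquiv.refl_apply, map_mul]
    ring
  · intro p u
    rw [MulAut.mul_apply, h'.e8, h.e8]
    congr 1 <;> (simp only [RingEquiv.refl_apply, map_mul]; ring)

theorem tor_one : T.IsTor (1 : MulAut U) 1 1 (RingEquiv.refl K) := isTor_one T

/-- the torus on `QB` -/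
def TB (T : TF σ U) : Set (MulAut T.QB) := {δ | ∃ d f g, T.IsTor d f g (RingEquiv.refl K) ∧ TF.IsR d δ}

variable (hK : HypK σ m) (hG : StGrp.{u, v})
include hK hG

/-- existence of torus elements -/
theorem exists_tor {f g : K} (hf : f ≠ 0) (hg : g ≠ 0) : ∃ (d : MulAut U) (δ : MulAut T.QB),
    T.IsTor d f g (RingEquiv.refl K) ∧ TF.IsR d δ := by
  obtain ⟨d, hd⟩ := (hG hK T).2.2.1 f g (RingEquiv.refl K) hf hg
  obtain ⟨δ, hδ⟩ := exists_restr T hK.two hd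
  exact ⟨d, δ, hd, hδ⟩

/-- the torus as a group -/
noncomputable def TBar : Subgroup (MulAut T.QB) where
  carrier := TB T
  one_mem' := ⟨1, 1, 1, tor_one T, fun _ => rfl⟩
  mul_mem' := by
    rintro a b ⟨d, f, g, hd, hda⟩ ⟨d', f', g', hd', hdb⟩
    refine ⟨d * d', f * f', g * g', tor_mul T hd hd', fun e => ?_⟩
    rw [MulAut.mul_apply, MulAut.mul_apply, hda, hdb]
  inv_mem' := by
    rintro a ⟨d, f, g, hd, hda⟩
    obtain ⟨d', δ', hd', hδ'⟩ := exists_tor T hK hG (inv_ne_zero hd.nf) (inv_ne_zero hd.ng)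
    have h1 : T.IsTor (d * d') 1 1 (RingEquiv.refl K) := by
      have := tor_mul T hd hd'
      rwa [mul_inv_cancel₀ hd.nf, mul_inv_cancel₀ hd.ng] at this
    have h3 : d * d' = 1 := IsTor_unique T hK.two h1 (tor_one T)
    have h4 : a * δ' = 1 := by
      ext1 e
      apply Subtype.ext
      rw [MulAut.mul_apply, hda, hδ', ← MulAut.mul_apply, h3]
      rfl
    rw [inv_eq_of_mul_eq_one_right h4]
    exact ⟨d', _, _, hd', hδ'⟩

/-- `V` is a faithful module for the torus -/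
theorem tbar_inj {δ : MulAut T.QB} (hδ : δ ∈ TBar T hK hG) (h1 : pi T hK.two δ = 1) : δ = 1 := by
  obtain ⟨d, f, g, hd, hdδ⟩ := hδ
  have h3 : ∀ u : K × K, (σ (f * g) * g * σ (σ (f * g) * g) * u.1, f * g * σ g * σ (f * g * σ g) * u.2) = u := by
    intro u
    have h4 : pi T hK.two δ u = u := by rw [h1]; rfl
    rw [pi_tor T hK.two hd hdδ] at h4
    exact h4
  have e4 : σ (f * g) * g * σ (σ (f * g) * g) = 1 := by
    have := congrArg Prod.fst (h3 (1, 0))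
    simpa only [_root_.map_mul, _root_.mul_one] using this
  have e6 : f * g * σ g * σ (f * g * σ g) = 1 := by
    have := congrArg Prod.snd (h3 (0, 1))
    simpa only [_root_.map_mul, _root_.mul_one] using this
  obtain ⟨rfl, rfl⟩ := fg_one hK hd.ng e4 e6
  have hd1 : d = 1 := IsTor_unique T hK.two hd (isTor_one T)
  subst hd1
  ext1 e
  exact Subtype.ext (hdδ e)

theorem tbar_eq {δ δ' : MulAut T.QB} (hδ : δ ∈ TBar T hK hG) (hδ' : δ' ∈ TBar T hK hG)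
    (h1 : pi T hK.two δ = pi T hK.two δ') : δ = δ' := by
  have h3 : δ * δ'⁻¹ = 1 := by
    apply tbar_inj T hK hG (mul_mem hδ (_root_.InvMemClass.inv_mem hδ'))
    rw [map_mul, map_inv, h1, mul_inv_cancel]
  exact mul_inv_eq_one.1 h3

theorem odd_TBar : Odd (Nat.card (TBar T hK hG)) := by
  have := finite_aut T hK hG
  rw [← Nat.not_even_iff_odd, even_iff_two_dvd]
  intro hdvd
  have : Fact (Nat.Prime 2) := ⟨Nat.prime_two⟩
  obtain ⟨⟨δ, hδ⟩, hord⟩ := exists_prime_orderOf_dvd_card' 2 hdvd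
  have hδ2 : δ * δ = 1 := by
    have h1 := pow_orderOf_eq_one (⟨δ, hδ⟩ : TBar T hK hG)
    rw [hord, sq] at h1
    exact congrArg Subtype.val h1
  have hne : δ ≠ 1 := by
    intro h1
    have h3 : orderOf (⟨δ, hδ⟩ : TBar T hK hG) = 1 := orderOf_eq_one_iff.2 (Subtype.ext h1)
    omega
  apply hne
  obtain ⟨d, f, g, hd, hdδ⟩ := hδ
  have h3 : ∀ u : K × K, (σ (f * f * (g * g)) * (g * g) * σ (σ (f * f * (g * g)) * (g * g)) * u.1,
      f * f * (g * g) * σ (g * g) * σ (f * f * (g * g) * σ (g * g)) * u.2) = u := by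
    intro u
    have h4 : pi T hK.two (δ * δ) u = u := by rw [hδ2, map_one]; rfl
    rw [pi_tor T hK.two (tor_mul T hd hd) (fun e => by
      rw [MulAut.mul_apply, MulAut.mul_apply, hdδ, hdδ])] at h4
    exact h4
  have e4 : σ (f * f * (g * g)) * (g * g) * σ (σ (f * f * (g * g)) * (g * g)) = 1 := by
    have := congrArg Prod.fst (h3 (1, 0))
    simpa only [_root_.map_mul, _root_.mul_one] using this
  have e6 : f * f * (g * g) * σ (g * g) * σ (f * f * (g * g) * σ (g * g)) = 1 := by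
    have := congrArg Prod.snd (h3 (0, 1))
    simpa only [_root_.map_mul, _root_.mul_one] using this
  obtain ⟨hf, hg⟩ := fg_one hK (mul_ne_zero hd.ng hd.ng) e4 e6
  have hsq : ∀ x : K, x * x = 1 → x = 1 := by
    intro x hx
    have h5 : (x - 1) * (x - 1) = 0 := by linear_combination hx + (1 - x) * hK.two
    have h6 := mul_self_eq_zero.1 h5
    linear_combination h6
  rw [hsq f hf, hsq g hg] at hd
  have hd1 : d = 1 := IsTor_unique T hK.two hd (isTor_one T)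
  subst hd1
  ext1 e
  exact Subtype.ext (hdδ e)

omit hG in
theorem exists_quot {c : K} (hc : c ≠ 0) : ∃ y : K, y ≠ 0 ∧ y * (σ y)⁻¹ = c := by
  have := hK.fin
  let f : Kˣ →* Kˣ := MonoidHom.id Kˣ * (Units.map (σ : K →* K))⁻¹
  have hfv : ∀ z : Kˣ, ((f z : Kˣ) : K) = z * (σ z)⁻¹ := by
    intro z
    show ((z * (Units.map (σ : K →* K) z)⁻¹ : Kˣ) : K) = _
    rw [Units.val_mul, Units.val_inv_eq_inv_val]
    rfl
  have hf : Function.Injective f := by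
    rw [injective_iff_map_eq_one]
    intro z hz
    have h1 : (z : K) * (σ z)⁻¹ = 1 := by
      rw [← hfv, hz]; rfl
    have hσz : σ (z : K) ≠ 0 := by
      rw [ne_eq, map_eq_zero]; exact z.ne_zero
    have h3 : σ (z : K) = z := by
      field_simp at h1
      exact h1.symm
    have h4 : σ (σ (z : K)) = z := by rw [h3, h3]
    rw [hK.sq] at h4
    have h5 : (z : K) * (z - 1) = 0 := by linear_combination h4
    rcases mul_eq_zero.1 h5 with h6 | h6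
    · exact absurd h6 z.ne_zero
    · exact Units.ext (by rw [Units.val_one]; linear_combination h6)
  obtain ⟨y, hy⟩ := Finite.surjective_of_injective hf (Units.mk0 c hc)
  refine ⟨y, y.ne_zero, ?_⟩
  rw [← hfv, hy, Units.val_mk0]

/-- the torus lies in `D` -/
theorem tor_mem_D {D : Subgroup (MulAut U)} (hA : T.HasA D) (hB : T.HasB D) {d : MulAut U} {f g : K}
    (hd : T.IsTor d f g (RingEquiv.refl K)) : d ∈ D := by
  have hg := hd.ng
  have hf := hd.nf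
  obtain ⟨y, hy0, hy⟩ := exists_quot hK (mul_ne_zero hf (pow_ne_zero 2 hg))
  have hσy : σ y ≠ 0 := by rwa [ne_eq, map_eq_zero]
  obtain ⟨da, -, hda, -⟩ := exists_tor T hK hG (mul_ne_zero hy0 hσy) (inv_ne_zero hσy)
  obtain ⟨db, -, hdb, -⟩ := exists_tor T hK hG (inv_ne_zero (pow_ne_zero 2 (mul_ne_zero hg hσy))) (mul_ne_zero hg hσy)
  have h1 := tor_mul T hda hdb
  have e1 : y * σ y * ((g * σ y) ^ 2)⁻¹ = f := by
    have h3 : y = f * g ^ 2 * σ y := by rw [← hy]; field_simp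
    have h4 : y * σ y = f * (g * σ y) ^ 2 := by
      calc y * σ y = f * g ^ 2 * σ y * σ y := by rw [← h3]
        _ = _ := by ring
    rw [h4]
    field_simp
  have e2 : (σ y)⁻¹ * (g * σ y) = g := by field_simp
  rw [e1, e2] at h1
  rw [IsTor_unique T hK.two hd h1]
  exact mul_mem (hA y hy0 da hda) (hB (g * σ y) (mul_ne_zero hg hσy) db hdb)

/-- conjugation by the Weyl element -/
theorem wb_conj {w : MulAut T.QB} (hw : T.IsWb w) {δ : MulAut T.QB} (hδ : δ ∈ TBar T hK hG) :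
    w * δ * w⁻¹ ∈ TBar T hK hG := by
  obtain ⟨d, f, g, hd, hdδ⟩ := hδ
  have hf := hd.nf
  have hg := hd.ng
  have hσf : σ f ≠ 0 := by rwa [ne_eq, map_eq_zero]
  obtain ⟨d', δ', hd', hδ'⟩ := exists_tor T hK hG (inv_ne_zero hf) (mul_ne_zero hf hg)
  have h1 : w * δ = δ' * w := by
    have k : ∀ (x : U) (hx : x ∈ T.QB) (y : U) (hy : y ∈ T.QB) (z : U) (hz : z ∈ T.QB), d x = y → w ⟨y, hy⟩ = ⟨z, hz⟩ →
        d' ((w ⟨x, hx⟩ : T.QB) : U) = z → (w * δ) ⟨x, hx⟩ = (δ' * w) ⟨x, hx⟩ := by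
      intro x hx y hy z hz h3 h4 h5
      have h6 : δ ⟨x, hx⟩ = ⟨y, hy⟩ := Subtype.ext ((hdδ _).trans h3)
      rw [MulAut.mul_apply, h6, h4, MulAut.mul_apply]
      apply Subtype.ext
      rw [hδ']
      exact h5.symm
    apply ext_B T hK.two
    · intro p u
      refine k _ _ _ (x2_B _ _) _ (x8_B _ _) (hd.e2 p u) (Subtype.ext (hw.e2 _ _ _ rfl)) ?_
      rw [hw.e2 _ p u rfl, hd'.e8]
    · intro t
      refine k _ _ _ (x3_B _) _ (x7_B _) (hd.e3 t) (Subtype.ext (hw.e3 _ _ rfl)) ?_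
      rw [hw.e3 _ t rfl, hd'.e7]
      congr 1
      simp only [RingEquiv.refl_apply, map_mul]
      field_simp
    · intro p u
      refine k _ _ _ (x4_B _ _) _ (x6_B _ _) (hd.e4 p u) (Subtype.ext (hw.e4 _ _ _ rfl)) ?_
      rw [hw.e4 _ p u rfl, hd'.e6]
      congr 1 <;> (simp only [RingEquiv.refl_apply, map_mul, map_inv₀, hK.sq]; field_simp)
    · intro t
      refine k _ _ _ (x5_B _) _ (x5_B _) (hd.e5 t) (Subtype.ext (hw.e5 _ _ rfl)) ?_
      rw [hw.e5 _ t rfl, hd'.e5]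
      congr 1
      simp only [RingEquiv.refl_apply, map_mul, map_inv₀]
      field_simp
    · intro p u
      refine k _ _ _ (x6_B _ _) _ (x4_B _ _) (hd.e6 p u) (Subtype.ext (hw.e6 _ _ _ rfl)) ?_
      rw [hw.e6 _ p u rfl, hd'.e4]
      congr 1 <;> (simp only [RingEquiv.refl_apply, map_mul, map_inv₀, hK.sq]; field_simp)
    · intro t
      refine k _ _ _ (x7_B _) _ (x3_B _) (hd.e7 t) (Subtype.ext (hw.e7 _ _ rfl)) ?_
      rw [hw.e7 _ t rfl, hd'.e3]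
      congr 1
      simp only [RingEquiv.refl_apply, map_mul, map_inv₀]
      field_simp
    · intro p u
      refine k _ _ _ (x8_B _ _) _ (x2_B _ _) (hd.e8 p u) (Subtype.ext (hw.e8 _ _ _ rfl)) ?_
      rw [hw.e8 _ p u rfl, hd'.e2]
      congr 1 <;> (simp only [RingEquiv.refl_apply, map_mul, map_inv₀]; field_simp)
  rw [h1, mul_inv_cancel_right]
  exact ⟨d', _, _, hd', hδ'⟩

end torus

end Cfsg.Agent.H7.TF

end

section

namespace Cfsg.Agent.H7.TF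

open Matrix Cfsg Cfsg.FusionSystem Cfsg.Agent.H756.PU Cfsg.Agent.H745.TF Cfsg.Agent.H7.PU.Core Cfsg.Agent.H7.PU.Shear
open Cfsg.Agent.H659.TF (x2_B x3_B x4_B x5_B x6_B x7_B x8_B exists_Pi Pi H3 exists_sq)
open Cfsg.Agent.H802 (exists_conjAut mem_autInducedBy_iff)
open Cfsg.Agent.Omega.BTwo (cj mem_cj)

universe u v

variable {K : Type u} [Field K] {σ : K →+* K} {m : ℕ} {U : Type v} [Group U] (T : TF σ U)

/-- fixed elements of a torus element -/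
theorem fix_el {d : MulAut U} {f g : K} (hd : T.IsTor d f g (RingEquiv.refl K)) {a2 b2 a3 a4 b4 a5 a6 b6 a7 a8 b8 : K}
    (h : d (T.x2 a2 b2 * T.x3 a3 * T.x4 a4 b4 * T.x5 a5 * T.x6 a6 b6 * T.x7 a7 * T.x8 a8 b8) =
      T.x2 a2 b2 * T.x3 a3 * T.x4 a4 b4 * T.x5 a5 * T.x6 a6 b6 * T.x7 a7 * T.x8 a8 b8) :
    f * g * a2 = a2 ∧ f * g * σ (f * g) * b2 = b2 ∧ f * g * σ (f * g) * g * a3 = a3 ∧ σ (f * g) * g * a4 = a4 ∧
      σ (f * g) * g * σ (σ (f * g) * g) * b4 = b4 ∧ f * σ f * g ^ 2 * σ g ^ 2 * a5 = a5 ∧ f * g * σ g * a6 = a6 ∧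
      f * g * σ g * σ (f * g * σ g) * b6 = b6 ∧ f * g ^ 2 * σ g * a7 = a7 ∧ g * a8 = a8 ∧ g * σ g * b8 = b8 := by
  simp only [map_mul, hd.e2, hd.e3, hd.e4, hd.e5, hd.e6, hd.e7, hd.e8, RingEquiv.refl_apply] at h
  have key : ∀ a2 b2 a3 a4 b4 a5 a6 b6 a7 a8 b8 : K, T.el ⟨0, a2, b2, a3, a4, b4, a5, a6, b6, a7, a8, b8⟩ =
      T.x2 a2 b2 * T.x3 a3 * T.x4 a4 b4 * T.x5 a5 * T.x6 a6 b6 * T.x7 a7 * T.x8 a8 b8 := by
    intro a2 b2 a3 a4 b4 a5 a6 b6 a7 a8 b8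
    show T.x1 0 * _ * _ * _ * _ * _ * _ * _ = _
    rw [x1_0, one_mul]
  rw [← key, ← key] at h
  have h1 := T.bij.1 h
  simp only [Cd.mk.injEq, true_and] at h1
  simpa only [map_mul] using h1

section

variable (hK : HypK σ m)
include hK

theorem sig_inj_one {y : K} (h : σ y = 1) : y = 1 := by
  apply σ.injective
  rw [h, map_one]

theorem sig_ne {y : K} (h0 : y ≠ 0) (h1 : y ≠ 1) : σ y ≠ y := by
  intro h
  have h4 : σ (σ y) = y := by rw [h, h]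
  rw [hK.sq] at h4
  have h5 : y * (y - 1) = 0 := by linear_combination h4
  rcases mul_eq_zero.1 h5 with h6 | h6
  · exact h0 h6
  · exact h1 (by linear_combination h6)

omit hK in
theorem kill {c a : K} (hc : c ≠ 1) (h : c * a = a) : a = 0 := by
  have h1 : (c - 1) * a = 0 := by linear_combination h
  rcases mul_eq_zero.1 h1 with h2 | h2
  · exact absurd (by linear_combination h2) hc
  · exact h2

/-- **`C_{QB}(t₂) = X₂`** -/
theorem fix2 {y : K} (h0 : y ≠ 0) (h1 : y ≠ 1) {d : MulAut U} (hd : T.IsTor d y⁻¹ y (RingEquiv.refl K)) {g : U}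
    (hg : g ∈ T.QB) (h : d g = g) : ∃ p u, g = T.x2 p u := by
  obtain ⟨a2, b2, a3, a4, b4, a5, a6, b6, a7, a8, b8, rfl⟩ := exists_B T hK.two hg
  obtain ⟨-, -, h3, h4, h4', h5, h6, h6', h7, h8, h8'⟩ := fix_el T hd h
  have hs : σ y ≠ 0 := by rwa [ne_eq, map_eq_zero]
  have hs1 : σ y ≠ 1 := fun e => h1 (sig_inj_one hK e)
  have hn : y * σ y ≠ 1 := fun e => h1 (ns_inj hK e)
  simp only [inv_mul_cancel₀ h0, map_one, one_mul, mul_one] at h3 h4 h4' h6 h6'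
  have e5 : y⁻¹ * σ y⁻¹ * y ^ 2 * σ y ^ 2 = y * σ y := by
    rw [map_inv₀]; field_simp
  have e7 : y⁻¹ * y ^ 2 * σ y = y * σ y := by field_simp
  have e6' : σ y * σ (σ y) ≠ 1 := by
    rw [← map_mul]
    exact fun e => hn (sig_inj_one hK e)
  rw [e5] at h5
  rw [e7] at h7
  rw [kill h1 h3, kill h1 h4, kill hn h4', kill hn h5, kill hs1 h6, kill e6' h6', kill hn h7, kill h1 h8, kill hn h8',
    x3_0, x4_0, x5_0, x6_0, x7_0, x8_0]
  exact ⟨a2, b2, by group⟩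

/-- **`C_{QB}(t₈) = X₈`** -/
theorem fix8 {y : K} (h0 : y ≠ 0) (h1 : y ≠ 1) {d : MulAut U} (hd : T.IsTor d y 1 (RingEquiv.refl K)) {g : U}
    (hg : g ∈ T.QB) (h : d g = g) : ∃ p u, g = T.x8 p u := by
  obtain ⟨a2, b2, a3, a4, b4, a5, a6, b6, a7, a8, b8, rfl⟩ := exists_B T hK.two hg
  obtain ⟨h2, h2', h3, h4, h4', h5, h6, h6', h7, -, -⟩ := fix_el T hd h
  have hs1 : σ y ≠ 1 := fun e => h1 (sig_inj_one hK e)
  have hn : y * σ y ≠ 1 := fun e => h1 (ns_inj hK e)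
  simp only [map_one, one_pow, mul_one] at h2 h2' h3 h4 h4' h5 h6 h6' h7
  have e4' : σ y * σ (σ y) ≠ 1 := by
    rw [← map_mul]
    exact fun e => hn (sig_inj_one hK e)
  rw [kill h1 h2, kill hn h2', kill hn h3, kill hs1 h4, kill e4' h4', kill hn h5, kill h1 h6, kill hn h6', kill h1 h7,
    x2_0, x3_0, x4_0, x5_0, x6_0, x7_0]
  exact ⟨a8, b8, by group⟩

/-- **`C_{QB}(t₄) = X₄`** -/
theorem fix4 {y : K} (h0 : y ≠ 0) (h1 : y ≠ 1) {d : MulAut U} (hd : T.IsTor d (y * σ y) (σ y)⁻¹ (RingEquiv.refl K))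
    {g : U} (hg : g ∈ T.QB) (h : d g = g) : ∃ p u, g = T.x4 p u := by
  obtain ⟨a2, b2, a3, a4, b4, a5, a6, b6, a7, a8, b8, rfl⟩ := exists_B T hK.two hg
  obtain ⟨h2, h2', h3, -, -, h5, h6, h6', h7, h8, h8'⟩ := fix_el T hd h
  have hs : σ y ≠ 0 := by rwa [ne_eq, map_eq_zero]
  have hs1 : σ y ≠ 1 := fun e => h1 (sig_inj_one hK e)
  have hn : y * σ y ≠ 1 := fun e => h1 (ns_inj hK e)
  have hi1 : y⁻¹ ≠ 1 := fun e => h1 (inv_eq_one.1 e)
  have e2 : y * σ y * (σ y)⁻¹ = y := by field_simp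
  rw [e2] at h2 h2' h3
  have e3 : y * σ y * (σ y)⁻¹ = y := e2
  rw [e3] at h3
  have e5 : y * σ y * σ (y * σ y) * (σ y)⁻¹ ^ 2 * σ (σ y)⁻¹ ^ 2 = y⁻¹ := by
    simp only [map_mul, map_inv₀, hK.sq]
    field_simp
  rw [e5] at h5
  have e6 : y * σ y * (σ y)⁻¹ * σ (σ y)⁻¹ = y⁻¹ := by
    simp only [map_inv₀, hK.sq]
    field_simp
  rw [e6] at h6 h6'
  have e6' : y⁻¹ * σ y⁻¹ ≠ 1 := by
    intro e
    exact hi1 (ns_inj hK e)
  have e7 : y * σ y * (σ y)⁻¹ ^ 2 * σ (σ y)⁻¹ = (y * σ y)⁻¹ := by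
    simp only [map_inv₀, hK.sq]
    field_simp
  rw [e7] at h7
  have e7' : (y * σ y)⁻¹ ≠ 1 := fun e => hn (inv_eq_one.1 e)
  have e8 : (σ y)⁻¹ ≠ 1 := fun e => hs1 (inv_eq_one.1 e)
  have e8' : (σ y)⁻¹ * σ (σ y)⁻¹ ≠ 1 := fun e => e8 (ns_inj hK e)
  rw [kill h1 h2, kill hn h2', kill h1 h3, kill hi1 h5, kill hi1 h6, kill e6' h6', kill e7' h7, kill e8 h8, kill e8' h8',
    x2_0, x3_0, x5_0, x6_0, x7_0, x8_0]
  exact ⟨a4, b4, by group⟩

/-- **`C_{QB}(t₆) = X₆`** -/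
theorem fix6 {y : K} (h0 : y ≠ 0) (h1 : y ≠ 1) {d : MulAut U} (hd : T.IsTor d (y * σ y)⁻¹ y (RingEquiv.refl K))
    {g : U} (hg : g ∈ T.QB) (h : d g = g) : ∃ p u, g = T.x6 p u := by
  obtain ⟨a2, b2, a3, a4, b4, a5, a6, b6, a7, a8, b8, rfl⟩ := exists_B T hK.two hg
  obtain ⟨h2, h2', h3, h4, h4', h5, -, -, h7, h8, h8'⟩ := fix_el T hd h
  have hs : σ y ≠ 0 := by rwa [ne_eq, map_eq_zero]
  have hs1 : σ y ≠ 1 := fun e => h1 (sig_inj_one hK e)
  have hn : y * σ y ≠ 1 := fun e => h1 (ns_inj hK e)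
  have hi1 : y⁻¹ ≠ 1 := fun e => h1 (inv_eq_one.1 e)
  have e2 : (y * σ y)⁻¹ * y = (σ y)⁻¹ := by field_simp
  rw [e2] at h2 h2' h3 h4 h4'
  have e3 : (σ y)⁻¹ * σ (σ y)⁻¹ * y = (y * σ y)⁻¹ := by
    simp only [map_inv₀, hK.sq]
    field_simp
  rw [e3] at h3
  have e4 : σ (σ y)⁻¹ * y = y⁻¹ := by
    simp only [map_inv₀, hK.sq]
    field_simp
  rw [e4] at h4 h4'
  have e5 : (y * σ y)⁻¹ * σ (y * σ y)⁻¹ * y ^ 2 * σ y ^ 2 = y⁻¹ := by
    simp only [map_mul, map_inv₀, hK.sq]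
    field_simp
  rw [e5] at h5
  have e7 : (y * σ y)⁻¹ * y ^ 2 * σ y = y := by field_simp
  rw [e7] at h7
  have k2 : (σ y)⁻¹ ≠ 1 := fun e => hs1 (inv_eq_one.1 e)
  have k2' : (σ y)⁻¹ * σ (σ y)⁻¹ ≠ 1 := fun e => k2 (ns_inj hK e)
  have k3 : (y * σ y)⁻¹ ≠ 1 := fun e => hn (inv_eq_one.1 e)
  have k4' : y⁻¹ * σ y⁻¹ ≠ 1 := fun e => hi1 (ns_inj hK e)
  rw [kill k2 h2, kill k2' h2', kill k3 h3, kill hi1 h4, kill k4' h4', kill hi1 h5, kill h1 h7, kill h1 h8, kill hn h8',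
    x2_0, x3_0, x4_0, x5_0, x7_0, x8_0]
  exact ⟨a6, b6, by group⟩

/-- rigidity on a root group of Suzuki type -/
theorem suz {Q : Type v} [Group Q] {x : K → K → Q} (hm : ∀ p u q v, x p u * x q v = x (p + q) (u + v + p * σ q))
    (hinj : ∀ p u q v, x p u = x q v → p = q ∧ u = v) (h3 : 3 ≤ Nat.card K) {ε : MulAut Q}
    (hX : ∀ p u, ∃ u', ε (x p u) = x p u') (hZ : ∀ u, ε (x 0 u) = x 0 u)
    (hT : ∀ y : K, y ≠ 0 → ∃ δ : MulAut Q, (∀ e, ε (δ e) = δ (ε e)) ∧ ∀ p u, δ (x p u) = x (y * p) (y * σ y * u)) :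
    ∀ p u, ε (x p u) = x p u := by
  classical
  choose B hB using fun p => hX p 0
  have hadd : ∀ p q, B (p + q) = B p + B q := by
    intro p q
    have h1 : x p 0 * x q 0 = x (p + q) 0 * x 0 (p * σ q) := by
      rw [hm, hm, map_zero, mul_zero]
      congr 1 <;> ring
    have h4 := congrArg ε h1
    rw [map_mul, map_mul, hB, hB, hB, hZ, hm, hm, map_zero, mul_zero] at h4
    have h5 := (hinj _ _ _ _ h4).2
    linear_combination -h5
  have hsc : ∀ y, y ≠ 0 → B y = y * σ y * B 1 := by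
    intro y hy
    obtain ⟨δ, hc, hδ⟩ := hT y hy
    have h1 := hc (x 1 0)
    rw [hδ, mul_one, mul_zero, hB, hB, hδ, mul_one] at h1
    exact (hinj _ _ _ _ h1).2
  have hB1 : B 1 = 0 := by
    obtain ⟨y, hy0, hy1⟩ : ∃ y : K, y ≠ 0 ∧ y ≠ 1 := by
      have := hK.fin
      have : Fintype K := Fintype.ofFinite K
      have h1 : ({0, 1} : Finset K).card < (Finset.univ : Finset K).card := by
        rw [Finset.card_univ, ← Nat.card_eq_fintype_card]
        exact lt_of_le_of_lt Finset.card_le_two (by omega)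
      obtain ⟨y, -, hy⟩ := Finset.exists_mem_notMem_of_card_lt_card h1
      simp only [Finset.mem_insert, Finset.mem_singleton, not_or] at hy
      exact ⟨y, hy.1, hy.2⟩
    have h4 : 1 + y ≠ 0 := by
      intro h5
      apply hy1
      linear_combination h5 - hK.two
    have h5 := hadd 1 y
    rw [hsc _ h4, hsc _ hy0, map_add, map_one] at h5
    have h6 : (σ y + y) * B 1 = 0 := by linear_combination h5
    rcases mul_eq_zero.1 h6 with h7 | h7
    · exfalso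
      apply sig_ne hK hy0 hy1
      linear_combination h7 - y * hK.two
    · exact h7
  have hB0 : ∀ p, B p = 0 := by
    intro p
    by_cases hp : p = 0
    · rw [hp]
      have h1 := hB 0
      rw [hZ] at h1
      exact (hinj _ _ _ _ h1).2.symm
    · rw [hsc p hp, hB1, mul_zero]
  intro p u
  have h1 : x p u = x p 0 * x 0 u := by
    rw [hm, map_zero, mul_zero]
    congr 1 <;> ring
  rw [h1, map_mul, hB, hB0, hZ]

end

section rigid

variable (hK : HypK σ m) (hG : StGrp.{u, v}) (h3 : 3 ≤ Nat.card K)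
include hK hG h3

theorem inj2 {p u q v : K} (h : T.x2 p u = T.x2 q v) : p = q ∧ u = v := by
  have h1 : T.el ⟨0, p, u, 0, 0, 0, 0, 0, 0, 0, 0, 0⟩ = T.el ⟨0, q, v, 0, 0, 0, 0, 0, 0, 0, 0, 0⟩ := by
    simp only [TF.el, x1_0, x3_0, x4_0, x5_0, x6_0, x7_0, x8_0, one_mul, mul_one]
    exact h
  have h4 := T.bij.1 h1
  simp only [Cd.mk.injEq, and_true, true_and] at h4
  exact h4

theorem inj4 {p u q v : K} (h : T.x4 p u = T.x4 q v) : p = q ∧ u = v := by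
  have h1 : T.el ⟨0, 0, 0, 0, p, u, 0, 0, 0, 0, 0, 0⟩ = T.el ⟨0, 0, 0, 0, q, v, 0, 0, 0, 0, 0, 0⟩ := by
    simp only [TF.el, x1_0, x2_0, x3_0, x5_0, x6_0, x7_0, x8_0, one_mul, mul_one]
    exact h
  have h4 := T.bij.1 h1
  simp only [Cd.mk.injEq, and_true, true_and] at h4
  exact h4

theorem inj6 {p u q v : K} (h : T.x6 p u = T.x6 q v) : p = q ∧ u = v := by
  have h1 : T.el ⟨0, 0, 0, 0, 0, 0, 0, p, u, 0, 0, 0⟩ = T.el ⟨0, 0, 0, 0, 0, 0, 0, q, v, 0, 0, 0⟩ := by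
    simp only [TF.el, x1_0, x2_0, x3_0, x4_0, x5_0, x7_0, x8_0, one_mul, mul_one]
    exact h
  have h4 := T.bij.1 h1
  simp only [Cd.mk.injEq, and_true, true_and] at h4
  exact h4

theorem inj8 {p u q v : K} (h : T.x8 p u = T.x8 q v) : p = q ∧ u = v := by
  have h1 : T.el ⟨0, 0, 0, 0, 0, 0, 0, 0, 0, 0, p, u⟩ = T.el ⟨0, 0, 0, 0, 0, 0, 0, 0, 0, 0, q, v⟩ := by
    simp only [TF.el, x1_0, x2_0, x3_0, x4_0, x5_0, x6_0, x7_0, one_mul, mul_one]
    exact h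
  have h4 := T.bij.1 h1
  simp only [Cd.mk.injEq, true_and] at h4
  exact h4

/-- **rigidity**: an automorphism of `QB` which centralizes the torus and `V` is trivial -/
theorem rigid {ε : MulAut T.QB} (hcom : ∀ δ ∈ TBar T hK hG, ∀ e, ε (δ e) = δ (ε e)) (hV : ∀ u, ε (vB T u) = vB T u) :
    ε = 1 := by
  classical
  have R := T.rel
  obtain ⟨y, hy0, hy1⟩ : ∃ y : K, y ≠ 0 ∧ y ≠ 1 := by
    have := hK.fin
    have : Fintype K := Fintype.ofFinite K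
    have h1 : ({0, 1} : Finset K).card < (Finset.univ : Finset K).card := by
      rw [Finset.card_univ, ← Nat.card_eq_fintype_card]
      exact lt_of_le_of_lt Finset.card_le_two (by omega)
    obtain ⟨y, -, hy⟩ := Finset.exists_mem_notMem_of_card_lt_card h1
    simp only [Finset.mem_insert, Finset.mem_singleton, not_or] at hy
    exact ⟨y, hy.1, hy.2⟩
  have hs : σ y ≠ 0 := by rwa [ne_eq, map_eq_zero]
  let X2 : K → K → T.QB := fun p u => ⟨T.x2 p u, x2_B p u⟩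
  let X3 : K → T.QB := fun t => ⟨T.x3 t, x3_B t⟩
  let X4 : K → K → T.QB := fun p u => ⟨T.x4 p u, x4_B p u⟩
  let X5 : K → T.QB := fun t => ⟨T.x5 t, x5_B t⟩
  let X6 : K → K → T.QB := fun p u => ⟨T.x6 p u, x6_B p u⟩
  let X7 : K → T.QB := fun t => ⟨T.x7 t, x7_B t⟩
  let X8 : K → K → T.QB := fun p u => ⟨T.x8 p u, x8_B p u⟩
  have z4 : ∀ u, ε (X4 0 u) = X4 0 u := by
    intro u
    have h1 := hV (u, 0)
    have h4 : vB T (u, 0) = X4 0 u := Subtype.ext (vv_left u)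
    rwa [h4] at h1
  have z6 : ∀ u, ε (X6 0 u) = X6 0 u := by
    intro u
    have h1 := hV (0, u)
    have h4 : vB T (0, u) = X6 0 u := Subtype.ext (vv_right u)
    rwa [h4] at h1
  -- the root groups are invariant
  have i2 : ∀ p u, ∃ p' u', ε (X2 p u) = X2 p' u' := by
    intro p u
    obtain ⟨d, δ, hd, hδ⟩ := exists_tor T hK hG (inv_ne_zero hy0) hy0
    have h4 : δ (X2 p u) = X2 p u := by
      apply Subtype.ext
      rw [hδ]
      show d (T.x2 p u) = T.x2 p u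
      rw [hd.e2, inv_mul_cancel₀ hy0, map_one, one_mul, one_mul, one_mul]
      rfl
    have h5 := hcom δ ⟨d, _, _, hd, hδ⟩ (X2 p u)
    rw [h4] at h5
    obtain ⟨p', u', h6⟩ := fix2 T hK hy0 hy1 hd (ε (X2 p u)).2 (by rw [← hδ, ← h5])
    exact ⟨p', u', Subtype.ext h6⟩
  have i8 : ∀ p u, ∃ p' u', ε (X8 p u) = X8 p' u' := by
    intro p u
    obtain ⟨d, δ, hd, hδ⟩ := exists_tor T hK hG hy0 one_ne_zero
    have h4 : δ (X8 p u) = X8 p u := by
      apply Subtype.ext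
      rw [hδ]
      show d (T.x8 p u) = T.x8 p u
      rw [hd.e8, map_one, one_mul, one_mul, one_mul]
      rfl
    have h5 := hcom δ ⟨d, _, _, hd, hδ⟩ (X8 p u)
    rw [h4] at h5
    obtain ⟨p', u', h6⟩ := fix8 T hK hy0 hy1 hd (ε (X8 p u)).2 (by rw [← hδ, ← h5])
    exact ⟨p', u', Subtype.ext h6⟩
  have i4 : ∀ p u, ∃ p' u', ε (X4 p u) = X4 p' u' := by
    intro p u
    obtain ⟨d, δ, hd, hδ⟩ := exists_tor T hK hG (mul_ne_zero hy0 hs) (inv_ne_zero hs)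
    have h4 : δ (X4 p u) = X4 p u := by
      apply Subtype.ext
      rw [hδ]
      show d (T.x4 p u) = T.x4 p u
      have e4 : σ (y * σ y * (σ y)⁻¹) * (σ y)⁻¹ = 1 := by
        have : y * σ y * (σ y)⁻¹ = y := by field_simp
        rw [this, mul_inv_cancel₀ hs]
      rw [hd.e4, e4, map_one, one_mul, one_mul, one_mul]
      rfl
    have h5 := hcom δ ⟨d, _, _, hd, hδ⟩ (X4 p u)
    rw [h4] at h5
    obtain ⟨p', u', h6⟩ := fix4 T hK hy0 hy1 hd (ε (X4 p u)).2 (by rw [← hδ, ← h5])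
    exact ⟨p', u', Subtype.ext h6⟩
  have i6 : ∀ p u, ∃ p' u', ε (X6 p u) = X6 p' u' := by
    intro p u
    obtain ⟨d, δ, hd, hδ⟩ := exists_tor T hK hG (inv_ne_zero (mul_ne_zero hy0 hs)) hy0
    have h4 : δ (X6 p u) = X6 p u := by
      apply Subtype.ext
      rw [hδ]
      show d (T.x6 p u) = T.x6 p u
      have e6 : (y * σ y)⁻¹ * y * σ y = 1 := by field_simp
      rw [hd.e6, e6, map_one, one_mul, one_mul, one_mul]
      rfl
    have h5 := hcom δ ⟨d, _, _, hd, hδ⟩ (X6 p u)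
    rw [h4] at h5
    obtain ⟨p', u', h6⟩ := fix6 T hK hy0 hy1 hd (ε (X6 p u)).2 (by rw [← hδ, ← h5])
    exact ⟨p', u', Subtype.ext h6⟩
  have nseq : ∀ a p : K, a * σ a = p * σ p → a = p := by
    intro a p h
    by_cases hp : p = 0
    · rw [hp, zero_mul] at h
      rcases mul_eq_zero.1 h with h4 | h4
      · rw [h4, hp]
      · rw [map_eq_zero] at h4
        rw [h4, hp]
    · have hsp : σ p ≠ 0 := by rwa [ne_eq, map_eq_zero]
      have h4 : a / p * σ (a / p) = 1 := by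
        rw [map_div₀, div_mul_div_comm, h, div_self (mul_ne_zero hp hsp)]
      have h5 := ns_inj hK h4
      rwa [div_eq_one_iff_eq hp] at h5
  -- `X4`, `X6`
  have j4 : ∀ p u, ε (X4 p u) = X4 p u := by
    refine suz hK (x := X4) (fun p u q v => Subtype.ext (R.m4 p u q v))
      (fun p u q v h => inj4 T hK hG h3 (congrArg Subtype.val h)) h3 ?_ z4 ?_
    · intro p u
      obtain ⟨a, b, hab⟩ := i4 p u
      have h1 : X4 p u * X4 p u = X4 0 (p * σ p) := by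
        apply Subtype.ext
        show T.x4 p u * T.x4 p u = T.x4 0 (p * σ p)
        rw [R.m4]
        congr 1
        · linear_combination p * hK.two
        · linear_combination u * hK.two
      have h4 := congrArg ε h1
      rw [map_mul, hab, z4] at h4
      have h5 : X4 a b * X4 a b = X4 0 (a * σ a) := by
        apply Subtype.ext
        show T.x4 a b * T.x4 a b = T.x4 0 (a * σ a)
        rw [R.m4]
        congr 1
        · linear_combination a * hK.two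
        · linear_combination b * hK.two
      rw [h5] at h4
      have h6 := (inj4 T hK hG h3 (congrArg Subtype.val h4)).2
      rw [nseq a p h6] at hab
      exact ⟨b, hab⟩
    · intro z hz
      obtain ⟨d, δ, hd, hδ⟩ := exists_tor T hK hG (inv_ne_zero hz) hz
      refine ⟨δ, fun e => hcom δ ⟨d, _, _, hd, hδ⟩ e, fun p u => ?_⟩
      apply Subtype.ext
      rw [hδ]
      show d (T.x4 p u) = T.x4 (z * p) (z * σ z * u)
      rw [hd.e4, inv_mul_cancel₀ hz, map_one, one_mul]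
      rfl
  have j6 : ∀ p u, ε (X6 p u) = X6 p u := by
    refine suz hK (x := X6) (fun p u q v => Subtype.ext (R.m6 p u q v))
      (fun p u q v h => inj6 T hK hG h3 (congrArg Subtype.val h)) h3 ?_ z6 ?_
    · intro p u
      obtain ⟨a, b, hab⟩ := i6 p u
      have h1 : X6 p u * X6 p u = X6 0 (p * σ p) := by
        apply Subtype.ext
        show T.x6 p u * T.x6 p u = T.x6 0 (p * σ p)
        rw [R.m6]
        congr 1
        · linear_combination p * hK.two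
        · linear_combination u * hK.two
      have h4 := congrArg ε h1
      rw [map_mul, hab, z6] at h4
      have h5 : X6 a b * X6 a b = X6 0 (a * σ a) := by
        apply Subtype.ext
        show T.x6 a b * T.x6 a b = T.x6 0 (a * σ a)
        rw [R.m6]
        congr 1
        · linear_combination a * hK.two
        · linear_combination b * hK.two
      rw [h5] at h4
      have h6 := (inj6 T hK hG h3 (congrArg Subtype.val h4)).2
      rw [nseq a p h6] at hab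
      exact ⟨b, hab⟩
    · intro z hz
      obtain ⟨d, δ, hd, hδ⟩ := exists_tor T hK hG hz one_ne_zero
      refine ⟨δ, fun e => hcom δ ⟨d, _, _, hd, hδ⟩ e, fun p u => ?_⟩
      apply Subtype.ext
      rw [hδ]
      show d (T.x6 p u) = T.x6 (z * p) (z * σ z * u)
      rw [hd.e6, map_one, mul_one, mul_one]
      rfl
  -- `X5`
  have j5 : ∀ t, ε (X5 t) = X5 t := by
    intro t
    have h1 : X4 t 0 * X6 1 0 = X6 1 0 * X4 t 0 * X5 t := by
      apply Subtype.ext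
      show T.x4 t 0 * T.x6 1 0 = T.x6 1 0 * T.x4 t 0 * T.x5 t
      rw [R.r46, mul_one]
    have h4 := congrArg ε h1
    rw [map_mul, map_mul, map_mul, j4, j6, h1] at h4
    exact (mul_left_cancel h4).symm
  -- `X8`
  have k8 : ∀ p u, ∃ u', ε (X8 p u) = X8 p u' := by
    intro p u
    obtain ⟨a, b, hab⟩ := i8 p u
    have h1 : ∀ a b, X5 1 * X8 a b = X8 a b * X5 1 * X6 0 a := by
      intro a b
      apply Subtype.ext
      show T.x5 1 * T.x8 a b = T.x8 a b * T.x5 1 * T.x6 0 a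
      rw [R.r58, one_mul]
    have h4 := congrArg ε (h1 p u)
    rw [map_mul, map_mul, map_mul, j5, z6, hab, h1] at h4
    have h5 := congrArg Subtype.val (mul_left_cancel h4)
    have h6 := (inj6 T hK hG h3 h5).2
    rw [h6] at hab
    exact ⟨b, hab⟩
  have hsq : ∀ u : K, ∃ r : K, r * σ r = u := by
    have := hK.fin
    exact exists_sq hK.two hK.sq
  have j8 : ∀ p u, ε (X8 p u) = X8 p u := by
    refine suz hK (x := X8) (fun p u q v => Subtype.ext (R.m8 p u q v))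
      (fun p u q v h => inj8 T hK hG h3 (congrArg Subtype.val h)) h3 k8 ?_ ?_
    · intro u
      obtain ⟨r, rfl⟩ := hsq u
      have h1 : ∀ b, X8 r b * X8 r b = X8 0 (r * σ r) := by
        intro b
        apply Subtype.ext
        show T.x8 r b * T.x8 r b = T.x8 0 (r * σ r)
        rw [R.m8]
        congr 1
        · linear_combination r * hK.two
        · linear_combination b * hK.two
      obtain ⟨b, hb⟩ := k8 r 0
      rw [← h1 0, map_mul, hb, h1, h1]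
    · intro z hz
      obtain ⟨d, δ, hd, hδ⟩ := exists_tor T hK hG one_ne_zero hz
      refine ⟨δ, fun e => hcom δ ⟨d, _, _, hd, hδ⟩ e, fun p u => ?_⟩
      apply Subtype.ext
      rw [hδ]
      show d (T.x8 p u) = T.x8 (z * p) (z * σ z * u)
      rw [hd.e8]
      rfl
  -- `X2`
  have k2 : ∀ p u, ∃ u', ε (X2 p u) = X2 p u' := by
    intro p u
    obtain ⟨a, b, hab⟩ := i2 p u
    have h1 : ∀ a b, X2 a b * X5 1 = X5 1 * X2 a b * X4 0 a := by
      intro a b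
      apply Subtype.ext
      show T.x2 a b * T.x5 1 = T.x5 1 * T.x2 a b * T.x4 0 a
      rw [R.r25, mul_one]
    have h4 := congrArg ε (h1 p u)
    rw [map_mul, map_mul, map_mul, j5, z4, hab, h1] at h4
    have h5 := congrArg Subtype.val (mul_left_cancel h4)
    have h6 := (inj4 T hK hG h3 h5).2
    rw [h6] at hab
    exact ⟨b, hab⟩
  have j2 : ∀ p u, ε (X2 p u) = X2 p u := by
    refine suz hK (x := X2) (fun p u q v => Subtype.ext (R.m2 p u q v))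
      (fun p u q v h => inj2 T hK hG h3 (congrArg Subtype.val h)) h3 k2 ?_ ?_
    · intro u
      obtain ⟨r, rfl⟩ := hsq u
      have h1 : ∀ b, X2 r b * X2 r b = X2 0 (r * σ r) := by
        intro b
        apply Subtype.ext
        show T.x2 r b * T.x2 r b = T.x2 0 (r * σ r)
        rw [R.m2]
        congr 1
        · linear_combination r * hK.two
        · linear_combination b * hK.two
      obtain ⟨b, hb⟩ := k2 r 0
      rw [← h1 0, map_mul, hb, h1, h1]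
    · intro z hz
      obtain ⟨d, δ, hd, hδ⟩ := exists_tor T hK hG hz one_ne_zero
      refine ⟨δ, fun e => hcom δ ⟨d, _, _, hd, hδ⟩ e, fun p u => ?_⟩
      apply Subtype.ext
      rw [hδ]
      show d (T.x2 p u) = T.x2 (z * p) (z * σ z * u)
      rw [hd.e2, mul_one]
      rfl
  apply ext_B T hK.two
  · exact j2
  · intro t
    have h1 : X2 t 0 * X4 1 0 = X4 1 0 * X2 t 0 * X3 t := by
      apply Subtype.ext
      show T.x2 t 0 * T.x4 1 0 = T.x4 1 0 * T.x2 t 0 * T.x3 t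
      rw [R.r24, mul_one]
    have h4 := congrArg ε h1
    rw [map_mul, map_mul, map_mul, j2, j4, h1] at h4
    exact (mul_left_cancel h4).symm
  · exact j4
  · exact j5
  · exact j6
  · intro t
    have h1 : X6 t 0 * X8 1 0 = X8 1 0 * X6 t 0 * X7 t := by
      apply Subtype.ext
      show T.x6 t 0 * T.x8 1 0 = T.x8 1 0 * T.x6 t 0 * T.x7 t
      rw [R.r68, mul_one]
    have h4 := congrArg ε h1
    rw [map_mul, map_mul, map_mul, j6, j8, h1] at h4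
    exact (mul_left_cancel h4).symm
  · exact j8

end rigid

end Cfsg.Agent.H7.TF

end

section

namespace Cfsg.Agent.H7.TF

open Matrix Cfsg Cfsg.FusionSystem Cfsg.Agent.H756.PU Cfsg.Agent.H745.TF Cfsg.Agent.H7.PU.Core Cfsg.Agent.H7.PU.Shear
open Cfsg.Agent.H659.TF (x2_B x3_B x4_B x5_B x6_B x7_B x8_B exists_Pi Pi H3 exists_sq)
open Cfsg.Agent.H802 (exists_conjAut mem_autInducedBy_iff)
open Cfsg.Agent.Omega.BTwo (cj mem_cj)

universe u v

variable {K : Type u} [Field K] {σ : K →+* K} {m : ℕ} {U : Type v} [Group U] {T : TF σ U}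

/-- the Weyl element of `K × K` -/
def sw (K : Type u) [Field K] : A2 K := mk {
  toFun u := (u.2, u.1)
  invFun u := (u.2, u.1)
  left_inv _ := rfl
  right_inv _ := rfl
  map_add' _ _ := rfl }

theorem sw_apply (u : K × K) : sw K u = (u.2, u.1) := rfl

section

variable (hK : HypK σ m) (hG : StGrp.{u, v}) (hTI : StTIB.{u, v}) {Γ : Subgroup (MulAut T.QB)}
  {D : Subgroup (MulAut U)} (hp : T.Par T.QB Γ D)
include hK hG hTI hp

/-- `ψ` is linear -/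
theorem linear (h8 : 5 ≤ Nat.card K) {ψ : K →+ K}
    (h1 : ∀ M : Matrix.SpecialLinearGroup (Fin 2) K, ∃ l ∈ LG (Γ.map (pi T hK.two)), ∀ u,
      sh ψ (l u) = ml (M : Matrix (Fin 2) (Fin 2) K) (sh ψ u)) : ∃ k : K, ∀ u, ψ u = k * u := by
  have := hK.fin
  exact lin1 h8 ψ (fun t ht => (diag_step hK hG hTI hp h1 ht).2)

/-- the Weyl element lies in `Γ` -/
theorem weyl_mem (h8 : 5 ≤ Nat.card K) (hA : T.HasA D) (hB : T.HasB D)
    (h3 : ∀ M : Matrix.SpecialLinearGroup (Fin 2) K, ∃ l ∈ LG (Γ.map (pi T hK.two)), ∀ u,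
      l u = ml (M : Matrix (Fin 2) (Fin 2) K) u) {w : MulAut T.QB} (hw : T.IsWb w) : w ∈ Γ := by
  have hfin := finite_aut T hK hG
  have hH := hyp hK hG hTI hp
  -- an element of `Γ` which induces the swap
  obtain ⟨l, hl, hls⟩ := h3 ⟨!![0, 1; 1, 0], by
    rw [Matrix.det_fin_two_of]
    linear_combination (-1 : K) * hK.two⟩
  obtain ⟨γ, hγ, hγl⟩ := LG_le hH.le hl
  have hγs : pi T hK.two γ = sw K := by
    rw [hγl]
    apply ext'
    intro u
    rw [hls, sw_apply]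
    apply Prod.ext
    · show 0 * u.1 + 1 * u.2 = u.2
      ring
    · show 1 * u.1 + 0 * u.2 = u.1
      ring
  have hws : pi T hK.two w = sw K := ext' fun u => by rw [pi_wb T hK.two hw, sw_apply]
  -- the torus
  have hTΓ : TBar T hK hG ≤ Γ := by
    rintro δ ⟨d, f, g, hd, hdδ⟩
    exact hp.D_res d (tor_mem_D T hK hG hA hB hd) δ hdδ
  set N : Subgroup (MulAut T.QB) := Γ ⊓ (pi T hK.two).ker with hN
  set B : Subgroup (MulAut T.QB) := Γ ⊓ ((TBar T hK hG).map (pi T hK.two)).comap (pi T hK.two) with hBdef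
  have hNmem : ∀ x, x ∈ N ↔ x ∈ Γ ∧ pi T hK.two x = 1 := fun x => Iff.rfl
  have hBmem : ∀ x, x ∈ B ↔ x ∈ Γ ∧ ∃ t ∈ TBar T hK hG, pi T hK.two t = pi T hK.two x := fun x => Iff.rfl
  have hNB : N ≤ B := by
    intro x hx
    rw [hNmem] at hx
    rw [hBmem]
    exact ⟨hx.1, 1, one_mem _, by rw [hx.2, map_one]⟩
  have hTB : TBar T hK hG ≤ B := fun x hx => (hBmem x).2 ⟨hTΓ hx, x, hx, rfl⟩
  have hrel : N.relIndex B = Nat.card (TBar T hK hG) := by
    let f : B →* A2 K := (pi T hK.two).comp B.subtype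
    have hk : f.ker = N.subgroupOf B := by
      ext x
      rw [MonoidHom.mem_ker, Subgroup.mem_subgroupOf, hNmem]
      exact ⟨fun h => ⟨((hBmem _).1 x.2).1, h⟩, fun h => h.2⟩
    have hr : f.range = (TBar T hK hG).map (pi T hK.two) := by
      ext x
      constructor
      · rintro ⟨b, rfl⟩
        exact ((hBmem _).1 b.2).2
      · rintro ⟨t, ht, rfl⟩
        exact ⟨⟨t, hTB ht⟩, rfl⟩
    show (N.subgroupOf B).index = _
    rw [← hk, Subgroup.index_ker, hr]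
    refine Nat.card_congr (Equiv.ofBijective (fun t : TBar T hK hG =>
      (⟨pi T hK.two t, t, t.2, rfl⟩ : (TBar T hK hG).map (pi T hK.two))) ⟨?_, ?_⟩).symm
    · intro a b hab
      exact Subtype.ext (tbar_eq T hK hG a.2 b.2 (congrArg Subtype.val hab))
    · rintro ⟨_, t, ht, rfl⟩
      exact ⟨⟨t, ht⟩, rfl⟩
  have hNT : Cfsg.Agent.Omega.Hex.NT N B := by
    refine ⟨hNB, ?_, ?_, ?_⟩
    · intro b hb
      rw [Subgroup.mem_normalizer_iff]
      have hbΓ : b ∈ Γ := ((hBmem _).1 hb).1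
      intro x
      rw [hNmem, hNmem]
      constructor
      · rintro ⟨h4, h5⟩
        exact ⟨mul_mem (mul_mem hbΓ h4) (_root_.InvMemClass.inv_mem hbΓ), by rw [map_mul, map_mul, h5, mul_one, map_inv, mul_inv_cancel]⟩
      · rintro ⟨h4, h5⟩
        have e : x = b⁻¹ * (b * x * b⁻¹) * b := by group
        refine ⟨?_, ?_⟩
        · rw [e]
          exact mul_mem (mul_mem (_root_.InvMemClass.inv_mem hbΓ) h4) hbΓ
        · rw [e, map_mul, map_mul, h5, mul_one, map_inv, inv_mul_cancel]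
    · rintro ⟨x, hx⟩
      obtain ⟨k, hk⟩ := pow_aut T hK hG (ker_le hK hG hTI hp ((hNmem x).1 hx).1 ((hNmem x).1 hx).2)
      exact ⟨k, Subtype.ext hk⟩
    · rw [hrel]
      exact odd_TBar T hK hG
  have hc1 : Cfsg.Agent.Omega.Hex.Cpl N B (TBar T hK hG) := ⟨hTB, hrel.symm⟩
  have hc2 : Cfsg.Agent.Omega.Hex.Cpl N B (cj γ (TBar T hK hG)) := by
    refine ⟨?_, ?_⟩
    · intro x hx
      rw [mem_cj] at hx
      have e : x = γ * (γ⁻¹ * x * γ) * γ⁻¹ := by group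
      rw [hBmem]
      refine ⟨?_, w * (γ⁻¹ * x * γ) * w⁻¹, wb_conj T hK hG hw hx, ?_⟩
      · rw [e]
        exact mul_mem (mul_mem hγ (hTΓ hx)) (_root_.InvMemClass.inv_mem hγ)
      · conv_rhs => rw [e]
        simp only [map_mul, map_inv, hws, hγs]
    · rw [hrel]
      exact Nat.card_congr ((TBar T hK hG).equivMapOfInjective _ (MulAut.conj γ).injective).toEquiv.symm
  obtain ⟨b, hb, hbc⟩ := hNT.conj hc2 hc1
  -- the element normalizing the torus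
  obtain ⟨w', hw'⟩ : ∃ w', w' = b * γ := ⟨_, rfl⟩
  have hw'Γ : w' ∈ Γ := by rw [hw']; exact mul_mem ((hNmem b).1 hb).1 hγ
  have hw's : pi T hK.two w' = sw K := by rw [hw', map_mul, ((hNmem b).1 hb).2, one_mul, hγs]
  have hnorm : ∀ δ ∈ TBar T hK hG, w' * δ * w'⁻¹ ∈ TBar T hK hG := by
    intro δ hδ
    rw [← hbc, mem_cj, mem_cj, hw']
    have e : γ⁻¹ * (b⁻¹ * (b * γ * δ * (b * γ)⁻¹) * b) * γ = δ := by group
    rw [e]
    exact hδ
  have heq : ∀ δ ∈ TBar T hK hG, w' * δ * w'⁻¹ = w * δ * w⁻¹ := by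
    intro δ hδ
    apply tbar_eq T hK hG (hnorm δ hδ) (wb_conj T hK hG hw hδ)
    simp only [map_mul, map_inv, hws, hw's]
  have hone : w⁻¹ * w' = 1 := by
    apply rigid T hK hG (by omega)
    · intro δ hδ e
      have h4 := heq δ hδ
      have h5 : w⁻¹ * w' * δ = δ * (w⁻¹ * w') := by
        calc w⁻¹ * w' * δ = w⁻¹ * (w' * δ * w'⁻¹) * w' := by group
          _ = w⁻¹ * (w * δ * w⁻¹) * w' := by rw [h4]
          _ = _ := by group
      exact DFunLike.congr_fun h5 e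
    · intro u
      rw [pi_spec T hK.two, map_mul, map_inv, hws, hw's, inv_mul_cancel]
      rfl
  have : w' = w := by
    rw [inv_mul_eq_one] at hone
    exact hone.symm
  rw [← this]
  exact hw'Γ

omit hTI hp in
/-- `SL₂(K)` is generated by the root group and the Weyl element -/
theorem gen (T : TF σ U) (M : Matrix.SpecialLinearGroup (Fin 2) K) :
    ∃ l ∈ T.LamB, ∀ u, pi T hK.two l u = ml (M : Matrix (Fin 2) (Fin 2) K) u := by
  obtain ⟨w, hw⟩ := (hG hK T).2.2.2.2.2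
  have h2 := hK.two
  have hwL : w ∈ T.LamB := (le_sup_right : _ ≤ T.LamB) (Subgroup.subset_closure hw)
  have htau : ∀ r : K, ∃ l ∈ T.LamB, pi T hK.two l = tau r := by
    intro r
    obtain ⟨γ, hγ, hr⟩ := exists_of_mem_TG T hK.two (tau_mem r)
    exact ⟨γ, (le_sup_left : _ ≤ T.LamB) hγ, hr⟩
  have hwi : ∀ u : K × K, (pi T hK.two w)⁻¹ u = (u.2, u.1) := by
    intro u
    apply (pi T hK.two w).injective
    rw [ai, pi_wb T hK.two hw]
  have hc : ∀ M : Matrix (Fin 2) (Fin 2) K, M.det = 1 → M 1 0 ≠ 0 → ∃ l ∈ T.LamB, ∀ u, pi T hK.two l u = ml M u := by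
    intro M hdet h0
    rw [Matrix.det_fin_two] at hdet
    obtain ⟨l1, hl1, e1⟩ := htau ((M 0 0 - 1) / M 1 0)
    obtain ⟨l2, hl2, e2⟩ := htau (M 1 0)
    obtain ⟨l3, hl3, e3⟩ := htau ((M 1 1 - 1) / M 1 0)
    refine ⟨l1 * (w * l2 * w⁻¹) * l3, mul_mem (mul_mem hl1 (mul_mem (mul_mem hwL hl2) (_root_.InvMemClass.inv_mem hwL))) hl3, fun u => ?_⟩
    rw [map_mul, map_mul, map_mul, map_mul, map_inv, e1, e2, e3, LinearEquiv.mul_apply, LinearEquiv.mul_apply,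
      LinearEquiv.mul_apply, LinearEquiv.mul_apply, hwi, pi_wb T hK.two hw]
    apply Prod.ext
    · simp only [tau_apply, ml]
      field_simp
      linear_combination u.2 * hdet
    · simp only [tau_apply, ml]
      field_simp
      ring
  by_cases h0 : (M : Matrix (Fin 2) (Fin 2) K) 1 0 = 0
  · have hdet := M.det_coe
    rw [Matrix.det_fin_two, h0, mul_zero, sub_zero] at hdet
    obtain ⟨l, hl, hlu⟩ := hc !![0, (M : Matrix (Fin 2) (Fin 2) K) 1 1; (M : Matrix (Fin 2) (Fin 2) K) 0 0,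
      (M : Matrix (Fin 2) (Fin 2) K) 0 1] (by
        rw [Matrix.det_fin_two_of]
        linear_combination hdet - (M : Matrix (Fin 2) (Fin 2) K) 0 0 * (M : Matrix (Fin 2) (Fin 2) K) 1 1 * h2) (by
        show (M : Matrix (Fin 2) (Fin 2) K) 0 0 ≠ 0
        intro h1
        rw [h1, zero_mul] at hdet
        exact zero_ne_one hdet)
    refine ⟨w⁻¹ * l, mul_mem (_root_.InvMemClass.inv_mem hwL) hl, fun u => ?_⟩
    rw [map_mul, map_inv, LinearEquiv.mul_apply, hwi, hlu]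
    apply Prod.ext
    · rfl
    · show 0 * u.1 + (M : Matrix (Fin 2) (Fin 2) K) 1 1 * u.2 =
        (M : Matrix (Fin 2) (Fin 2) K) 1 0 * u.1 + (M : Matrix (Fin 2) (Fin 2) K) 1 1 * u.2
      rw [h0]
  · exact hc _ M.det_coe h0

/-- `Γ ⊆ Λ D` -/
theorem decomp (h3 : ∀ M : Matrix.SpecialLinearGroup (Fin 2) K, ∃ l ∈ LG (Γ.map (pi T hK.two)), ∀ u,
      l u = ml (M : Matrix (Fin 2) (Fin 2) K) u)
    (h4 : ∀ l ∈ LG (Γ.map (pi T hK.two)), ∃ M : Matrix.SpecialLinearGroup (Fin 2) K, ∀ u,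
      l u = ml (M : Matrix (Fin 2) (Fin 2) K) u) (hLam : T.LamB ≤ Γ) {γ : MulAut T.QB} (hγ : γ ∈ Γ) :
    ∃ l ∈ T.LamB, ∃ d ∈ D, ∃ δ : MulAut T.QB, TF.IsR d δ ∧ γ = l * δ := by
  obtain ⟨g, hg⟩ : ∃ g, g = pi T hK.two γ := ⟨_, rfl⟩
  have hgG : g ∈ Γ.map (pi T hK.two) := ⟨γ, hγ, hg.symm⟩
  -- move the fixed vector
  have hv0 : g (1, 0) ≠ 0 := by
    intro h5
    have h6 : g (1, 0) = g 0 := by rw [h5, map_zero]
    have h7 := congrArg Prod.fst (g.injective h6)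
    exact one_ne_zero h7
  obtain ⟨N, hN⟩ := Hyp.exists_to_one (F := K) (w := ![(g (1, 0)).1, (g (1, 0)).2]) (by
    intro h5
    apply hv0
    exact Prod.ext (congrFun h5 0) (congrFun h5 1))
  obtain ⟨lam, hlam, hlamN⟩ := gen hK hG T N
  obtain ⟨l, hl, hlN⟩ := h3 N
  have hlaml : pi T hK.two lam = l := ext' fun u => by rw [hlamN, hlN]
  have hlv : l (g (1, 0)) = (1, 0) := by
    rw [hlN]
    have e0 := congrFun hN 0
    have e1 := congrFun hN 1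
    simp only [Matrix.mulVec, dotProduct, Fin.sum_univ_two, Matrix.cons_val_zero, Matrix.cons_val_one,
      Matrix.cons_val_fin_one] at e0 e1
    exact Prod.ext e0 e1
  have hn : ∀ t ∈ TG K, (l * g) * t * (l * g)⁻¹ ∈ TG K := by
    rintro _ ⟨r, rfl⟩
    have h5 : l * g * tau r * (l * g)⁻¹ ∈ LG (Γ.map (pi T hK.two)) := by
      have h6 : l * g * tau r * (l * g)⁻¹ = l * (g * tau r * g⁻¹) * l⁻¹ := by group
      rw [h6]
      exact mul_mem (mul_mem hl (conj_mem_LG hgG (tau_mem r))) (_root_.InvMemClass.inv_mem hl)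
    obtain ⟨M, hM⟩ := h4 _ h5
    have h6 : (l * g)⁻¹ (1, 0) = (1, 0) := by
      apply (l * g).injective
      rw [ai, LinearEquiv.mul_apply, hlv]
    have h7 := hM (1, 0)
    rw [LinearEquiv.mul_apply, LinearEquiv.mul_apply, h6, tau_apply, mul_zero, add_zero, LinearEquiv.mul_apply,
      hlv] at h7
    have e0 : (M : Matrix (Fin 2) (Fin 2) K) 0 0 = 1 := by
      have := congrArg Prod.fst h7
      simp only [ml] at this
      simpa using this.symm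
    have e1 : (M : Matrix (Fin 2) (Fin 2) K) 1 0 = 0 := by
      have := congrArg Prod.snd h7
      simp only [ml] at this
      simpa using this.symm
    have hdet := M.det_coe
    rw [Matrix.det_fin_two, e0, e1, one_mul, mul_zero, sub_zero] at hdet
    refine ⟨(M : Matrix (Fin 2) (Fin 2) K) 0 1, ?_⟩
    apply ext'
    intro u
    rw [hM, tau_apply, ml, e0, e1, hdet, one_mul, zero_mul, zero_add, one_mul]
  have hlg : pi T hK.two (lam * γ) = l * g := by rw [map_mul, hlaml, hg]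
  rw [← hlg] at hn
  obtain ⟨c, r, d, f, g', τ, δ, hcA, hcr, hd, hdt, hδ, hγc⟩ :=
    norm_form hK hG hTI hp (mul_mem (hLam hlam) hγ) hn
  refine ⟨lam⁻¹ * c, mul_mem (_root_.InvMemClass.inv_mem hlam) ((le_sup_left : _ ≤ T.LamB) hcA), d, hd, δ, hδ, ?_⟩
  rw [mul_assoc, ← hγc, inv_mul_cancel_left]

end

/-- **(LB2)** -/
theorem stLB2 (hG : StGrp.{u, v}) (hTI : StTIB.{u, v}) : StLB2.{u, v} := by
  intro K _ σ m hK hm U _ T Γ D hp hA hB
  have hfin := hK.fin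
  have hH := hyp hK hG hTI hp
  have h8 : 5 ≤ Nat.card K := by
    rw [hK.card]
    calc 5 ≤ 2 ^ 3 := by norm_num
      _ ≤ 2 ^ (2 * m + 1) := Nat.pow_le_pow_right (by norm_num) (by omega)
  obtain ⟨ψ, h1, h2⟩ := hH.exists_shear
  obtain ⟨k, hk⟩ := linear hK hG hTI hp h8 h1
  obtain ⟨h3, h4⟩ := exact hk h1 h2
  have hLam : T.LamB ≤ Γ := by
    refine sup_le hp.indu ((Subgroup.closure_le _).2 ?_)
    intro w hw
    exact weyl_mem hK hG hTI hp h8 hA hB h3 hw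
  intro γ
  constructor
  · intro hγ
    exact decomp hK hG hTI hp h3 h4 hLam hγ
  · rintro ⟨l, hl, d, hd, δ, hδ, rfl⟩
    exact mul_mem (hLam hl) (hp.D_res d hd δ hδ)

end Cfsg.Agent.H7.TF

end

private theorem dce_cbb107dfc7cb : _root_.True := by
  try have : _root_.True := by simp only [_root_.Cfsg.Agent.H7.PU.Core.ml.eq_1]
  try have : _root_.True := by simp only [_root_.Cfsg.Agent.H7.TF.pi.congr_simp]
  exact _root_.True.intro
end

-- part: H805/TF/Ess1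
section
prune_inst 0x30000500250002000000008401003c22a200009000080001a06007020e814c200d020820ba90241008088a844038002001100090404000000000000001190080002102028078ad0016008e008000000000000000000000000000000000000004000000000
set_option linter.all false
open scoped Cfsg.Agent.FastGrp

/-!
# S5262 (ESS1): `V ≤ R` for an essential subgroup `R` of the unipotent group of `²F₄(q)` (helper805)
-/

set_option autoImplicit false
set_option linter.unusedVariables false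
set_option linter.unusedSimpArgs false

namespace Cfsg.Agent.H805.TF

open Cfsg Cfsg.FusionSystem Cfsg.Agent.Octagon.Pkg Cfsg.Agent.H745.TF Cfsg.Agent.H756.PU Cfsg.Agent.H802.TE
open Cfsg.Agent.H752.TF

universe u v

section

variable {K : Type u} [Field K] {σ : K →+* K} {m : ℕ} (hK : HypK σ m)
variable {U : Type v} [Group U] (T : TF σ U)

/-- the coordinates of `C1 = X1 X2 X3 Z4 X5` -/
def InC1 (c : Cd K) : Prop := c.a4 = 0 ∧ c.a6 = 0 ∧ c.b6 = 0 ∧ c.a7 = 0 ∧ c.a8 = 0 ∧ c.b8 = 0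

/-- the coordinates of `X1 Z2 X3 Z4 X5` -/
def InA15 (c : Cd K) : Prop :=
  c.a2 = 0 ∧ c.a4 = 0 ∧ c.a6 = 0 ∧ c.b6 = 0 ∧ c.a7 = 0 ∧ c.a8 = 0 ∧ c.b8 = 0

/-- the coordinates of `X4 Z6` -/
def InA (c : Cd K) : Prop :=
  c.a1 = 0 ∧ c.a2 = 0 ∧ c.b2 = 0 ∧ c.a3 = 0 ∧ c.a5 = 0 ∧ c.a6 = 0 ∧ c.a7 = 0 ∧ c.a8 = 0 ∧ c.b8 = 0

/-- the coordinates of `Z2 X3 Z4` -/
def InW (c : Cd K) : Prop :=
  c.a1 = 0 ∧ c.a2 = 0 ∧ c.a4 = 0 ∧ c.a5 = 0 ∧ c.a6 = 0 ∧ c.b6 = 0 ∧ c.a7 = 0 ∧ c.a8 = 0 ∧ c.b8 = 0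

/-- the coordinates of `Z6` -/
def InB (c : Cd K) : Prop :=
  c.a1 = 0 ∧ c.a2 = 0 ∧ c.b2 = 0 ∧ c.a3 = 0 ∧ c.a4 = 0 ∧ c.b4 = 0 ∧ c.a5 = 0 ∧ c.a6 = 0 ∧ c.a7 = 0 ∧ c.a8 = 0 ∧
    c.b8 = 0

include hK

/-- `C_U(x1(t)) ≤ X1 X2 X3 Z4 X5` -/
theorem C1_of_comm {t : K} (ht : t ≠ 0) {g : U} (h : g * T.x1 t = T.x1 t * g) : InC1 (co T g) := by
  have hσt : σ t ≠ 0 := (map_ne_zero σ).2 ht
  have e := congrArg (co T) h
  rw [co_mul hK, co_mul hK, co_x1] at e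
  generalize co T g = c at e ⊢
  have f2 := congrArg Cd.a2 e
  rw [mul_a2, mul_a2] at f2
  simp only [e1, zero_mul, mul_zero, add_zero, zero_add, map_zero] at f2
  have h8 : c.a8 = 0 := by
    have : c.a8 * t = 0 := by linear_combination f2
    exact (mul_eq_zero.1 this).resolve_right ht
  have f4 := congrArg Cd.a4 e
  rw [mul_a4, mul_a4] at f4
  simp only [e1, h8, zero_mul, mul_zero, add_zero, zero_add, map_zero] at f4
  have k8 : c.b8 = 0 := by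
    have : c.b8 * σ t = 0 := by linear_combination f4
    exact (mul_eq_zero.1 this).resolve_right hσt
  have f5 := congrArg Cd.a5 e
  rw [mul_a5, mul_a5] at f5
  simp only [e1, h8, k8, zero_mul, mul_zero, add_zero, zero_add, map_zero, pow_zero, ne_eq, OfNat.ofNat_ne_zero,
    not_false_eq_true, zero_pow] at f5
  have h7 : c.a7 = 0 := by
    have : σ c.a7 * t = 0 := by linear_combination f5
    exact (map_eq_zero σ).1 ((mul_eq_zero.1 this).resolve_right ht)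
  have f3 := congrArg Cd.a3 e
  rw [mul_a3, mul_a3] at f3
  simp only [e1, h8, k8, h7, zero_mul, mul_zero, add_zero, zero_add, map_zero, pow_zero, ne_eq, OfNat.ofNat_ne_zero,
    not_false_eq_true, zero_pow] at f3
  have h6 : c.a6 = 0 := by
    have : σ c.a6 * t = 0 := by linear_combination f3
    exact (map_eq_zero σ).1 ((mul_eq_zero.1 this).resolve_right ht)
  have g2 := congrArg Cd.b2 e
  rw [mul_b2, mul_b2] at g2
  simp only [e1, h8, k8, h7, h6, zero_mul, mul_zero, add_zero, zero_add, map_zero, pow_zero, ne_eq,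
    OfNat.ofNat_ne_zero, not_false_eq_true, zero_pow] at g2
  have h4 : c.a4 = 0 := by
    have : c.a4 * t = 0 := by linear_combination g2
    exact (mul_eq_zero.1 this).resolve_right ht
  have g4 := congrArg Cd.b4 e
  rw [mul_b4, mul_b4] at g4
  simp only [e1, h8, k8, h7, h6, h4, zero_mul, mul_zero, add_zero, zero_add, map_zero, pow_zero, ne_eq,
    OfNat.ofNat_ne_zero, not_false_eq_true, zero_pow] at g4
  have k6 : c.b6 = 0 := by
    have : c.b6 * t = 0 := by linear_combination g4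
    exact (mul_eq_zero.1 this).resolve_right ht
  exact ⟨h4, h6, k6, h7, h8, k8⟩

/-- `X1 Z2 X3 Z4` centralizes `C1` -/
theorem comm_C1 {g z : U} (hg : InC1 (co T g)) (hz : InA15 (co T z)) (h5 : (co T z).a5 = 0) : z * g = g * z := by
  apply co_injective T
  rw [co_mul hK, co_mul hK]
  generalize co T g = c at hg ⊢
  generalize co T z = d at hz h5 ⊢
  obtain ⟨c1, c2, c3, c4, c5, c6⟩ := hg
  obtain ⟨d1, d2, d3, d4, d5, d6, d7⟩ := hz
  ext <;> simp only [mul_a1, mul_a2, mul_b2, mul_a3, mul_a4, mul_b4, mul_a5, mul_a6, mul_b6, mul_a7, mul_a8, mul_b8,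
    c1, c2, c3, c4, c5, c6, d1, d2, d3, d4, d5, d6, d7, h5, zero_mul, mul_zero, add_zero, zero_add, map_zero, pow_zero,
    ne_eq, OfNat.ofNat_ne_zero, not_false_eq_true, zero_pow]
  all_goals ring

/-- `X1 Z2 X3 Z4 X5` is abelian -/
theorem comm_A15 {g z : U} (hg : InA15 (co T g)) (hz : InA15 (co T z)) : z * g = g * z := by
  apply co_injective T
  rw [co_mul hK, co_mul hK]
  generalize co T g = c at hg ⊢
  generalize co T z = d at hz ⊢
  obtain ⟨c1, c2, c3, c4, c5, c6, c7⟩ := hg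
  obtain ⟨d1, d2, d3, d4, d5, d6, d7⟩ := hz
  ext <;> simp only [mul_a1, mul_a2, mul_b2, mul_a3, mul_a4, mul_b4, mul_a5, mul_a6, mul_b6, mul_a7, mul_a8, mul_b8,
    c1, c2, c3, c4, c5, c6, c7, d1, d2, d3, d4, d5, d6, d7, zero_mul, mul_zero, add_zero, zero_add, map_zero, pow_zero,
    ne_eq, OfNat.ofNat_ne_zero, not_false_eq_true, zero_pow]
  all_goals ring

/-- `[X4 Z6, C1] ≤ Z2 X3 Z4` -/
theorem comm_A_C1 {a g : U} (ha : InA (co T a)) (hg : InC1 (co T g)) :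
    co T (a * g * a⁻¹ * g⁻¹) = ⟨0, 0, (co T a).a4 * (co T g).a1, (co T a).a4 * (co T g).a2, 0,
      (co T a).b6 * (co T g).a1, 0, 0, 0, 0, 0, 0⟩ := by
  apply co_comm hK
  generalize co T g = c at hg ⊢
  generalize co T a = d at ha ⊢
  obtain ⟨c1, c2, c3, c4, c5, c6⟩ := hg
  obtain ⟨d1, d2, d3, d4, d5, d6, d7, d8, d9⟩ := ha
  have h2 := hK.two
  ext <;> simp only [mul_a1, mul_a2, mul_b2, mul_a3, mul_a4, mul_b4, mul_a5, mul_a6, mul_b6, mul_a7, mul_a8, mul_b8,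
    c1, c2, c3, c4, c5, c6, d1, d2, d3, d4, d5, d6, d7, d8, d9, zero_mul, mul_zero, add_zero, zero_add, map_zero,
    pow_zero, ne_eq, OfNat.ofNat_ne_zero, not_false_eq_true, zero_pow]
  all_goals first | ring1 | grind

/-- `QA` normalizes `X1 Z2 X3 Z4 X5` -/
theorem conj_A15 {x g : U} (hx : x ∈ T.QA) (hg : InA15 (co T g)) : InA15 (co T (x * g * x⁻¹)) := by
  have e : co T (x * g * x⁻¹ * x) = co T (x * g) := by rw [inv_mul_cancel_right]
  rw [co_mul hK T _ x, co_mul hK T x g] at e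
  rw [mem_QA hK] at hx
  generalize co T (x * g * x⁻¹) = h at e ⊢
  generalize co T x = y at e hx
  generalize co T g = c at e hg
  obtain ⟨y8, z8⟩ := hx
  obtain ⟨c1, c2, c3, c4, c5, c6, c7⟩ := hg
  have f8 := congrArg Cd.a8 e
  simp only [mul_a8, y8, z8, c1, c2, c3, c4, c5, c6, c7, zero_mul, mul_zero, add_zero, zero_add, map_zero] at f8
  have g8 := congrArg Cd.b8 e
  simp only [mul_b8, y8, z8, c1, c2, c3, c4, c5, c6, c7, f8, zero_mul, mul_zero, add_zero, zero_add, map_zero] at g8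
  have f2 := congrArg Cd.a2 e
  simp only [mul_a2, y8, z8, c1, c2, c3, c4, c5, c6, c7, f8, g8, zero_mul, mul_zero, add_zero, zero_add,
    map_zero] at f2
  replace f2 : h.a2 = 0 := by linear_combination f2
  have f4 := congrArg Cd.a4 e
  simp only [mul_a4, y8, z8, c1, c2, c3, c4, c5, c6, c7, f8, g8, f2, zero_mul, mul_zero, add_zero, zero_add,
    map_zero] at f4
  replace f4 : h.a4 = 0 := by linear_combination f4
  have f6 := congrArg Cd.a6 e
  simp only [mul_a6, y8, z8, c1, c2, c3, c4, c5, c6, c7, f8, g8, f2, f4, zero_mul, mul_zero, add_zero, zero_add,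
    map_zero] at f6
  replace f6 : h.a6 = 0 := by linear_combination f6
  have f7 := congrArg Cd.a7 e
  simp only [mul_a7, y8, z8, c1, c2, c3, c4, c5, c6, c7, f8, g8, f2, f4, f6, zero_mul, mul_zero, add_zero, zero_add,
    map_zero, pow_zero, ne_eq, OfNat.ofNat_ne_zero, not_false_eq_true, zero_pow] at f7
  replace f7 : h.a7 = 0 := by linear_combination f7
  have g6 := congrArg Cd.b6 e
  simp only [mul_b6, y8, z8, c1, c2, c3, c4, c5, c6, c7, f8, g8, f2, f4, f6, f7, zero_mul, mul_zero, add_zero,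
    zero_add, map_zero, pow_zero, ne_eq, OfNat.ofNat_ne_zero, not_false_eq_true, zero_pow] at g6
  replace g6 : h.b6 = 0 := by linear_combination g6
  exact ⟨f2, f4, f6, g6, f7, f8, g8⟩

/-- `Z4` is central -/
theorem comm_Z4' {z g : U} (hz : z ∈ T.Z4) : z * g = g * z := by
  obtain ⟨u, rfl⟩ := (mem_Z4 hK T).1 hz
  apply co_injective T
  rw [co_mul hK, co_mul hK, co_x4]
  generalize co T g = c
  ext <;> simp only [mul_a1, mul_a2, mul_b2, mul_a3, mul_a4, mul_b4, mul_a5, mul_a6, mul_b6, mul_a7, mul_a8, mul_b8,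
    e4, zero_mul, mul_zero, add_zero, zero_add, map_zero, pow_zero, ne_eq, OfNat.ofNat_ne_zero, not_false_eq_true,
    zero_pow]
  all_goals ring

/-- `[V, U] ≤ Z4` -/
theorem comm_V {a g : U} (ha : a ∈ T.V) :
    co T (a * g * a⁻¹ * g⁻¹) = ⟨0, 0, 0, 0, 0, (co T a).b6 * (co T g).a1, 0, 0, 0, 0, 0, 0⟩ := by
  apply co_comm hK
  rw [mem_V hK] at ha
  generalize co T g = c
  generalize co T a = d at ha ⊢
  obtain ⟨d1, d2, d3, d4, d5, d6, d7, d8, d9, d10⟩ := ha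
  have h2 := hK.two
  ext <;> simp only [mul_a1, mul_a2, mul_b2, mul_a3, mul_a4, mul_b4, mul_a5, mul_a6, mul_b6, mul_a7, mul_a8, mul_b8,
    d1, d2, d3, d4, d5, d6, d7, d8, d9, d10, zero_mul, mul_zero, add_zero, zero_add, map_zero,
    pow_zero, ne_eq, OfNat.ofNat_ne_zero, not_false_eq_true, zero_pow]
  all_goals first | ring1 | grind

/-- the subgroups with given coordinates -/
theorem exists_A : ∃ S : Subgroup U, (∀ g, g ∈ S ↔ InA (co T g)) ∧ Nat.card S = (2 ^ (2 * m + 1)) ^ 3 := by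
  obtain ⟨S, hS⟩ := exists_sub hK T InA ⟨rfl, rfl, rfl, rfl, rfl, rfl, rfl, rfl, rfl⟩ (by
    rintro c d ⟨c1, c2, c3, c4, c5, c6, c7, c8, c9⟩ ⟨d1, d2, d3, d4, d5, d6, d7, d8, d9⟩
    refine ⟨?_, ?_, ?_, ?_, ?_, ?_, ?_, ?_, ?_⟩ <;>
    simp only [mul_a1, mul_a2, mul_b2, mul_a3, mul_a4, mul_b4, mul_a5, mul_a6, mul_b6, mul_a7, mul_a8, mul_b8,
      c1, c2, c3, c4, c5, c6, c7, c8, c9, d1, d2, d3, d4, d5, d6, d7, d8, d9, zero_mul, mul_zero, add_zero, zero_add,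
      map_zero, pow_zero, ne_eq, OfNat.ofNat_ne_zero, not_false_eq_true, zero_pow])
  refine ⟨S, hS, ?_⟩
  refine card_of_mask hK T ![false, false, false, false, true, true, false, false, true, false, false, false] (by rfl)
    S fun g => ?_
  rw [hS]
  constructor
  · rintro ⟨z0, z1, z2, z3, z4, z5, z6, z7, z8⟩ i hi
    fin_cases i <;> [exact z0; exact z1; exact z2; exact z3; (exact absurd hi (by decide)); (exact absurd hi (by decide)); exact z4; exact z5;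
                     (exact absurd hi (by decide)); exact z6; exact z7; exact z8]
  · intro h
    exact ⟨h 0 rfl, h 1 rfl, h 2 rfl, h 3 rfl, h 6 rfl, h 7 rfl, h 9 rfl, h 10 rfl, h 11 rfl⟩

theorem exists_W : ∃ S : Subgroup U, (∀ g, g ∈ S ↔ InW (co T g)) ∧ Nat.card S = (2 ^ (2 * m + 1)) ^ 3 := by
  obtain ⟨S, hS⟩ := exists_sub hK T InW ⟨rfl, rfl, rfl, rfl, rfl, rfl, rfl, rfl, rfl⟩ (by
    rintro c d ⟨c1, c2, c3, c4, c5, c6, c7, c8, c9⟩ ⟨d1, d2, d3, d4, d5, d6, d7, d8, d9⟩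
    refine ⟨?_, ?_, ?_, ?_, ?_, ?_, ?_, ?_, ?_⟩ <;>
    simp only [mul_a1, mul_a2, mul_b2, mul_a3, mul_a4, mul_b4, mul_a5, mul_a6, mul_b6, mul_a7, mul_a8, mul_b8,
      c1, c2, c3, c4, c5, c6, c7, c8, c9, d1, d2, d3, d4, d5, d6, d7, d8, d9, zero_mul, mul_zero, add_zero, zero_add,
      map_zero, pow_zero, ne_eq, OfNat.ofNat_ne_zero, not_false_eq_true, zero_pow])
  refine ⟨S, hS, ?_⟩
  refine card_of_mask hK T ![false, false, true, true, false, true, false, false, false, false, false, false] (by rfl)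
    S fun g => ?_
  rw [hS]
  constructor
  · rintro ⟨z0, z1, z2, z3, z4, z5, z6, z7, z8⟩ i hi
    fin_cases i <;> [exact z0; exact z1; (exact absurd hi (by decide)); (exact absurd hi (by decide)); exact z2; (exact absurd hi (by decide)); exact z3; exact z4;
                     exact z5; exact z6; exact z7; exact z8]
  · intro h
    exact ⟨h 0 rfl, h 1 rfl, h 4 rfl, h 6 rfl, h 7 rfl, h 8 rfl, h 9 rfl, h 10 rfl, h 11 rfl⟩

theorem exists_B : ∃ S : Subgroup U, (∀ g, g ∈ S ↔ InB (co T g)) := by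
  exact exists_sub hK T InB ⟨rfl, rfl, rfl, rfl, rfl, rfl, rfl, rfl, rfl, rfl, rfl⟩ (by
    rintro c d ⟨c1, c2, c3, c4, c5, c6, c7, c8, c9, c10, c11⟩ ⟨d1, d2, d3, d4, d5, d6, d7, d8, d9, d10, d11⟩
    refine ⟨?_, ?_, ?_, ?_, ?_, ?_, ?_, ?_, ?_, ?_, ?_⟩ <;>
    simp only [mul_a1, mul_a2, mul_b2, mul_a3, mul_a4, mul_b4, mul_a5, mul_a6, mul_b6, mul_a7, mul_a8, mul_b8,
      c1, c2, c3, c4, c5, c6, c7, c8, c9, c10, c11, d1, d2, d3, d4, d5, d6, d7, d8, d9, d10, d11, zero_mul, mul_zero,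
      add_zero, zero_add, map_zero, pow_zero, ne_eq, OfNat.ofNat_ne_zero, not_false_eq_true, zero_pow])

/-- the order of `X1 Z2 X3 Z4 X5` -/
theorem card_A15 {S : Subgroup U} (hS : ∀ g, g ∈ S ↔ InA15 (co T g)) : Nat.card S = (2 ^ (2 * m + 1)) ^ 5 := by
  refine card_of_mask hK T ![true, false, true, true, false, true, true, false, false, false, false, false] (by rfl)
    S fun g => ?_
  rw [hS]
  constructor
  · rintro ⟨z0, z1, z2, z3, z4, z5, z6⟩ i hi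
    fin_cases i <;> [(exact absurd hi (by decide)); exact z0; (exact absurd hi (by decide)); (exact absurd hi (by decide)); exact z1; (exact absurd hi (by decide));
                     (exact absurd hi (by decide)); exact z2; exact z3; exact z4; exact z5; exact z6]
  · intro h
    exact ⟨h 1 rfl, h 4 rfl, h 7 rfl, h 8 rfl, h 9 rfl, h 10 rfl, h 11 rfl⟩

end

/-- a subgroup `A` with `x R x⁻¹ ≤ R` for `x ∈ A` normalizes `R` -/
theorem le_normIn {U : Type*} [Group U] {A R : Subgroup U} (h : ∀ x ∈ A, ∀ e ∈ R, x * e * x⁻¹ ∈ R) :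
    A ≤ normalizerIn ⊤ R := by
  intro x hx
  refine Subgroup.mem_inf.2 ⟨Subgroup.mem_top _, ?_⟩
  rw [Subgroup.mem_normalizer_iff]
  intro e
  refine ⟨h x hx e, fun h1 => ?_⟩
  have h2 := h x⁻¹ (A.inv_mem hx) _ h1
  rwa [inv_inv, ← mul_assoc, ← mul_assoc, inv_mul_cancel, one_mul, inv_mul_cancel_right] at h2

attribute [-instance] instNoNatZeroDivisorsOfIsAddTorsionFree instIsCharPOfIsLeftCancelAddOfCharP in
/-- the case where `Z(R)` contains `x1 t` -/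
theorem ess1_x1 (hp2 : StP2.{v}) (hbd : StBd.{v}) (hphi : StPhi.{v}) {K : Type u} [Field K] {σ : K →+* K} {m : ℕ}
    (hK : HypK σ m) {U : Type v} [Group U] (T : TF σ U) {R : Subgroup U} {Γ : Subgroup (MulAut R)}
    (hE : Ess (⊤ : Subgroup U) R 2 Γ) {t : K} (ht : t ≠ 0) (hc : ∀ r ∈ R, r * T.x1 t = T.x1 t * r) : False := by
  haveI := finite_U hK T
  haveI := hK.fin
  have hpR : IsPGroup 2 R := hE.pgr.of_injective (Subgroup.inclusion hE.E_le) (Subgroup.inclusion_injective _)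
  obtain ⟨hΦR, hRR, hsq, -, -, -⟩ := hphi R 2 Nat.prime_two inferInstance hpR
  have hC : ∀ r ∈ R, InC1 (co T r) := fun r hr => C1_of_comm hK T ht (hc r hr)
  set q := 2 ^ (2 * m + 1) with hq
  have hq1 : 1 < q := Nat.one_lt_two_pow (by omega)
  -- `X1 Z2 X3 Z4 ≤ R`
  have hZR : ∀ z : U, InA15 (co T z) → (co T z).a5 = 0 → z ∈ R := fun z hz h5 =>
    hE.cent z (Subgroup.mem_top _) fun e he => comm_C1 hK T (hC e he) hz h5
  obtain ⟨A, hA, hAc⟩ := exists_A hK T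
  obtain ⟨W, hW, hWc⟩ := exists_W hK T
  obtain ⟨B, hB⟩ := exists_B hK T
  have hWR : W ≤ R := by
    intro w hw
    obtain ⟨h1, h2, h3, h4, h5, h6, h7, h8, h9⟩ := (hW w).1 hw
    exact hZR w ⟨h2, h3, h5, h6, h7, h8, h9⟩ h4
  have hZ4R : T.Z4 ≤ R := fun z hz => hE.cent z (Subgroup.mem_top _) fun e _ => comm_Z4' hK T hz
  have hAW : ∀ a ∈ A, ∀ e ∈ R, a * e * a⁻¹ * e⁻¹ ∈ W := by
    intro a ha e he
    rw [hW, comm_A_C1 hK T ((hA a).1 ha) (hC e he)]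
    exact ⟨rfl, rfl, rfl, rfl, rfl, rfl, rfl, rfl, rfl⟩
  have hBA : B ≤ A := by
    intro b hb
    obtain ⟨h1, h2, h3, h4, h5, h6, h7, h8, h9, h10, h11⟩ := (hB b).1 hb
    exact (hA b).2 ⟨h1, h2, h3, h4, h7, h8, h9, h10, h11⟩
  have hBZ : ∀ b ∈ B, ∀ e ∈ R, b * e * b⁻¹ * e⁻¹ ∈ T.Z4 := by
    intro b hb e he
    have h1 := comm_A_C1 hK T ((hA b).1 (hBA hb)) (hC e he)
    obtain ⟨-, -, -, -, h5, -⟩ := (hB b).1 hb
    refine (mem_Z4 hK T).2 ⟨(co T b).b6 * (co T e).a1, ?_⟩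
    apply co_injective T
    rw [h1, co_x4, h5, zero_mul, zero_mul]
    rfl
  have hnormA : A ≤ normalizerIn ⊤ R := by
    refine le_normIn fun x hx e he => ?_
    have h2 : x * e * x⁻¹ = x * e * x⁻¹ * e⁻¹ * e := by group
    rw [h2]
    exact R.mul_mem (hWR (hAW x hx e he)) he
  have hBR : ¬ B ≤ R := by
    intro h
    have h1 : T.x6 0 1 ∈ B := by
      rw [hB, co_x6]
      exact ⟨rfl, rfl, rfl, rfl, rfl, rfl, rfl, rfl, rfl, rfl, rfl⟩
    have h2 := (hC _ (h h1)).2.2.1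
    rw [co_x6] at h2
    exact one_ne_zero h2
  -- (P2)
  have hP := hp2 hE A B W T.Z4 (W ⊓ Phi R) ⊥ hnormA (hBA.trans hnormA) hBR hWR hZ4R hAW hBZ inf_le_right bot_le
  have hAR : A ⊓ R ≤ T.Z4 := by
    intro a ha
    obtain ⟨h1, h2, h3, h4, h5, h6, h7, h8, h9⟩ := (hA a).1 ha.1
    obtain ⟨k1, k2, k3, k4, k5, k6⟩ := hC a ha.2
    refine (mem_Z4 hK T).2 ⟨(co T a).b4, ?_⟩
    apply co_injective T
    rw [co_x4]
    ext <;> first | exact h1 | exact h2 | exact h3 | exact h4 | exact h5 | exact h6 | exact h7 | exact h8 | exact h9 | exact k1 | exact k2 | exact k3 | rfl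
  have hcAR : Nat.card (A ⊓ R : Subgroup U) ≤ q := by
    rw [hq, ← card_Z4 hK T]
    exact Subgroup.card_le_of_le hAR
  have c1 : (A ⊓ R).relIndex A * Nat.card (A ⊓ R : Subgroup U) = q ^ 3 := by
    rw [relc inf_le_left, hAc]
  have c1' : R.relIndex A = (A ⊓ R).relIndex A := by rw [Subgroup.inf_relIndex_left]
  have hidx : q ^ 2 ≤ R.relIndex A := by
    rw [c1']
    by_contra hh
    have h1 : (A ⊓ R).relIndex A * Nat.card (A ⊓ R : Subgroup U) < q ^ 2 * q :=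
      Nat.mul_lt_mul_of_lt_of_le (not_le.1 hh) hcAR (by omega)
    rw [c1] at h1
    exact absurd h1 (by rw [← pow_succ]; exact lt_irrefl _)
  have c2 : (W ⊓ Phi R).relIndex W * Nat.card (W ⊓ Phi R : Subgroup U) = q ^ 3 := by
    rw [relc inf_le_left, hWc]
  have hZidx : (⊥ : Subgroup U).relIndex T.Z4 = q := by
    rw [Subgroup.relIndex_bot_left, card_Z4 hK T]
  rw [hZidx] at hP
  have hW1 : Nat.card (W ⊓ Phi R : Subgroup U) = 1 := by
    have h1 : (q ^ 2) ^ 2 ≤ (W ⊓ Phi R).relIndex W * q := (Nat.pow_le_pow_left hidx 2).trans hP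
    have h2 : q ^ 3 ≤ (W ⊓ Phi R).relIndex W := by
      by_contra hh
      have h3 : (W ⊓ Phi R).relIndex W * q < q ^ 3 * q := Nat.mul_lt_mul_of_pos_right (not_le.1 hh) (by omega)
      have h4 : (q ^ 2) ^ 2 = q ^ 3 * q := by ring
      rw [h4] at h1
      exact absurd h3 (not_lt.2 h1)
    have h3 : 0 < Nat.card (W ⊓ Phi R : Subgroup U) := Nat.card_pos
    by_contra hne
    have h4 : q ^ 3 * 2 ≤ (W ⊓ Phi R).relIndex W * Nat.card (W ⊓ Phi R : Subgroup U) :=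
      Nat.mul_le_mul h2 (by omega)
    rw [c2] at h4
    have h5 : 0 < q ^ 3 := by positivity
    omega
  have hWbot : ∀ x ∈ W, x ∈ Phi R → x = 1 := by
    intro x hx hx'
    have h1 := Subgroup.card_eq_one.1 hW1
    have h2 : x ∈ (W ⊓ Phi R : Subgroup U) := ⟨hx, hx'⟩
    rw [h1] at h2
    exact Subgroup.mem_bot.1 h2
  -- `R ≤ A15`
  have hR15 : ∀ r ∈ R, InA15 (co T r) := by
    intro r hr
    obtain ⟨k1, k2, k3, k4, k5, k6⟩ := hC r hr
    refine ⟨?_, k1, k2, k3, k4, k5, k6⟩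
    have h2 := hK.two
    have h1 : co T (r * r) = ⟨0, 0, (co T r).a2 * σ (co T r).a2, 0, 0, (co T r).a5 * (co T r).a2, 0, 0, 0, 0, 0, 0⟩ := by
      rw [co_mul hK]
      generalize co T r = c at k1 k2 k3 k4 k5 k6 ⊢
      ext <;> simp only [mul_a1, mul_a2, mul_b2, mul_a3, mul_a4, mul_b4, mul_a5, mul_a6, mul_b6, mul_a7, mul_a8,
        mul_b8, k1, k2, k3, k4, k5, k6, zero_mul, mul_zero, add_zero, zero_add, map_zero,
        pow_zero, ne_eq, OfNat.ofNat_ne_zero, not_false_eq_true, zero_pow]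
      all_goals first | fail  | (clear * - h2; grobner)
    have h3 : r * r ∈ W := by
      rw [hW, h1]
      exact ⟨rfl, rfl, rfl, rfl, rfl, rfl, rfl, rfl, rfl⟩
    have h4 : r * r ∈ Phi R := by
      rw [← sq]
      exact hsq r hr
    have h5 := hWbot _ h3 h4
    rw [h5, co_one] at h1
    have h6 := congrArg Cd.b2 h1
    rcases mul_eq_zero.1 h6.symm with h | h
    · exact h
    · exact (map_eq_zero σ).1 h
  have hR : ∀ g, g ∈ R ↔ InA15 (co T g) := fun g =>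
    ⟨hR15 g, fun h => hE.cent g (Subgroup.mem_top _) fun e he => comm_A15 hK T (hR15 e he) h⟩
  have hRc : Nat.card R = q ^ 5 := card_A15 hK T hR
  have hnQA : T.QA ≤ normalizerIn ⊤ R := le_normIn fun x hx e he => (hR _).2 (conj_A15 hK T hx ((hR e).1 he))
  have hRQ : R ≤ T.QA := by
    intro r hr
    rw [mem_QA hK]
    exact ⟨(hR15 r hr).2.2.2.2.2.1, (hR15 r hr).2.2.2.2.2.2⟩
  have hb := hbd hE T.QA ⊥ hnQA bot_le
  have hb1 := relc hRQ
  rw [card_QA hK, hRc] at hb1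
  rw [Subgroup.relIndex_bot_left, hRc] at hb
  have hb2 : R.relIndex T.QA = q ^ 5 := by
    have h5 : 0 < q ^ 5 := by positivity
    have h6 : R.relIndex T.QA * q ^ 5 = q ^ 5 * q ^ 5 := hb1.trans (pow_add q 5 5)
    exact Nat.eq_of_mul_eq_mul_right h5 h6
  rw [hb2] at hb
  have h8 : 1 < q ^ 5 := Nat.one_lt_pow (by norm_num) hq1
  have h7 : q ^ 5 < (q ^ 5) ^ 2 := by
    rw [sq]
    exact lt_mul_of_one_lt_left (by omega) h8
  exact absurd hb (not_le.2 h7)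

attribute [-instance] instNoNatZeroDivisorsOfIsAddTorsionFree instIsCharPOfIsLeftCancelAddOfCharP in
/-- (ESS1) from the engine -/
theorem stEss1_of (hp2 : StP2.{v}) (hhull : StHull.{v}) (hcj : StConj.{v}) (hbd : StBd.{v}) (hphi : StPhi.{v})
    (hinv : StInv.{u, v}) : StEss1.{u, v} := by
  intro K _ σ m hK U _ T R Γ hE
  by_contra hVR
  haveI := finite_U hK T
  haveI := hK.fin
  have hZ4R : T.Z4 ≤ R := fun z hz => hE.cent z (Subgroup.mem_top _) fun e _ => comm_Z4' hK T hz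
  obtain ⟨γ, hγ, y0, hy0, a, ha, hcon⟩ := hhull hE T.V T.Z4 le_top hZ4R (by
    intro a ha e he
    refine (mem_Z4 hK T).2 ⟨(co T a).b6 * (co T e).a1, ?_⟩
    apply co_injective T
    rw [comm_V hK T ha, co_x4]
    rfl) hVR
  set y : U := ((γ y0 : R) : U) with hy
  have hyR : y ∈ R := (γ y0).2
  have hyc : ∀ r ∈ R, y * r = r * y := by
    intro r hr
    have h1 : y0 * γ⁻¹ ⟨r, hr⟩ = γ⁻¹ ⟨r, hr⟩ * y0 := by
      apply Subtype.ext
      exact comm_Z4' hK T hy0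
    have h2 := congrArg (fun e : R => ((γ e : R) : U)) h1
    simp only [map_mul, MulAut.apply_inv_self, Subgroup.coe_mul] at h2
    exact h2
  have hyy : y * y = 1 := by
    have h0 : y0 * y0 = 1 := by
      apply Subtype.ext
      obtain ⟨w, hw⟩ := (mem_Z4 hK T).1 hy0
      rw [Subgroup.coe_mul, hw]
      apply co_injective T
      rw [co_mul hK, co_x4, Subgroup.coe_one, co_one]
      have h2 := hK.two
      ext <;> simp only [mul_a1, mul_a2, mul_b2, mul_a3, mul_a4, mul_b4, mul_a5, mul_a6, mul_b6, mul_a7, mul_a8,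
        mul_b8, e4, zero_mul, mul_zero, add_zero, zero_add, map_zero, pow_zero, ne_eq, OfNat.ofNat_ne_zero,
        not_false_eq_true, zero_pow]
      all_goals first | ring1 | (clear * - h2; grobner)
    have h1 := congrArg (fun e : R => ((γ e : R) : U)) h0
    simpa only [map_mul, map_one, Subgroup.coe_mul, Subgroup.coe_one] using h1
  have hyQ : y ∉ T.QB := by
    intro h
    rw [mem_QB hK] at h
    apply hcon
    have h1 : a * y * a⁻¹ * y⁻¹ = 1 := by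
      apply co_injective T
      rw [comm_V hK T ha, co_one, h, mul_zero]
    rw [h1]
    exact (Phi R).one_mem
  obtain ⟨x, t, ht, hx⟩ := hinv hK T y hyy hyQ
  obtain ⟨Γ', hE'⟩ := hcj hE x (Subgroup.mem_top _)
  refine ess1_x1 hp2 hbd hphi hK T hE' ht ?_
  rintro _ ⟨r, hr, rfl⟩
  change x * r * x⁻¹ * T.x1 t = T.x1 t * (x * r * x⁻¹)
  rw [← hx]
  have h1 := hyc r hr
  calc x * r * x⁻¹ * (x * y * x⁻¹) = x * (r * y) * x⁻¹ := by group
    _ = x * (y * r) * x⁻¹ := by rw [h1]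
    _ = x * y * x⁻¹ * (x * r * x⁻¹) := by group

end Cfsg.Agent.H805.TF
end
end
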